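import Cfsg.Agent.Lib.FitHeight.Split

/-!
# An element of prime order acting freely on a Heisenberg group modulo scalars
-/

set_option autoImplicit false

namespace Cfsg.Lib.FitHeight

open Module Polynomial
open scoped commutatorElement

variable {Γ : Type*} [Group Γ] [Finite Γ] {K : Type*} [Field K] {W : Type*}
  [AddCommGroup W] [Module K W] [FiniteDimensional K W] [Nontrivial W] {ρ : Γ →* End K W} {E R : Subgroup Γ}

/-- `s` of prime order `r` acts without fixed points on a nontrivial `E` modulo `R`. -/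
structure Act (ρ : Γ →* End K W) (E R : Subgroup Γ) (s : Γ) (r : ℕ) : Prop where
  heis : Heis ρ E R
  prime : r.Prime
  cast : (r : K) ≠ 0
  pow : s ^ r = 1
  norm : Norm (Subgroup.zpowers s) E R
  free : ∀ x ∈ E, ∀ j, 0 < j → j < r → s ^ j * x * (s ^ j)⁻¹ * x⁻¹ ∈ R → x ∈ R
  coprime : r.Coprime (Nat.card E)
  nontriv : ∃ x ∈ E, x ∉ R

theorem Norm.zpowers_left {g : Γ} (hn : Norm (Subgroup.zpowers g) E R) :
    ∀ x ∈ E, g * x * g⁻¹ ∈ E ∧ g⁻¹ * x * g ∈ E := fun x hx => by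
  refine ⟨hn.left g (Subgroup.mem_zpowers g) x hx, ?_⟩
  simpa using hn.left g⁻¹ (inv_mem (Subgroup.mem_zpowers g)) x hx

theorem Norm.zpowers_right {g : Γ} (hn : Norm (Subgroup.zpowers g) E R) :
    ∀ x ∈ R, g * x * g⁻¹ ∈ R ∧ g⁻¹ * x * g ∈ R := fun x hx => by
  refine ⟨hn.right g (Subgroup.mem_zpowers g) x hx, ?_⟩
  simpa using hn.right g⁻¹ (inv_mem (Subgroup.mem_zpowers g)) x hx

omit [FiniteDimensional K W] [Finite Γ] [Nontrivial W] in
theorem Model.maps (M : Model ρ E R) {W' : Submodule K W} (hinv : ∀ x ∈ E, ∀ v ∈ W', ρ x v ∈ W')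
    (A : End K (Fin M.n → K)) {v : W} (hv : v ∈ W') : M.j A v ∈ W' := by
  induction (M.basis.span_eq.ge (Submodule.mem_top : A ∈ (⊤ : Submodule K _))) using Submodule.span_induction with
  | mem a ha =>
    obtain ⟨t, rfl⟩ := ha
    induction t using QuotientGroup.induction_on with
    | _ x =>
      obtain ⟨c, hc, hx⟩ := M.mem x
      have h1 : c • M.j (M.basis (x : E ⧸ R.subgroupOf E)) v ∈ W' := by
        rw [← LinearMap.smul_apply, ← hx]; exact hinv x x.2 v hv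
      simpa [smul_smul, inv_mul_cancel₀ hc] using W'.smul_mem c⁻¹ h1
  | zero => simp
  | add a b _ _ ha hb => rw [map_add, LinearMap.add_apply]; exact W'.add_mem ha hb
  | smul c a _ ha => rw [map_smul, LinearMap.smul_apply]; exact W'.smul_mem c ha

omit [Finite Γ] in
theorem Model.card_eq [Finite Γ] (M : Model ρ E R) : Nat.card (E ⧸ R.subgroupOf E) = M.n ^ 2 := by
  rw [← Module.finrank_eq_nat_card_basis M.basis, Module.finrank_linearMap, Module.finrank_pi, Fintype.card_fin, sq]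

omit [Nontrivial W] [FiniteDimensional K W] [Finite Γ] in
theorem Model.finrank_eq (M : Model ρ E R) : finrank K (Fin M.n → K) = M.n := by
  rw [Module.finrank_pi, Fintype.card_fin]

theorem Model.two_le [Finite Γ] (M : Model ρ E R) {x : Γ} (hx : x ∈ E) (hxR : x ∉ R) : 2 ≤ M.n := by
  by_contra hcon
  have h1 : Nat.card (E ⧸ R.subgroupOf E) ≤ 1 := by
    rw [M.card_eq]
    have : M.n = 1 := by have := M.npos; omega
    rw [this]; norm_num
  haveI := Finite.card_le_one_iff_subsingleton.1 h1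
  have h2 := QuotientGroup.eq.1 (Subsingleton.elim ((1 : E) : E ⧸ R.subgroupOf E) ((⟨x, hx⟩ : E) : E ⧸ R.subgroupOf E))
  rw [Subgroup.mem_subgroupOf] at h2
  exact hxR (by simpa using h2)

omit [FiniteDimensional K W] [Nontrivial W] [Finite Γ] in
theorem perm_pow_apply {g : Γ} (hE : ∀ x ∈ E, g * x * g⁻¹ ∈ E ∧ g⁻¹ * x * g ∈ E)
    {π : Equiv.Perm (E ⧸ R.subgroupOf E)} (hπ : ∀ x : E, π (x : E ⧸ R.subgroupOf E) =
      ((⟨g * x * g⁻¹, (hE x x.2).1⟩ : E) : E ⧸ R.subgroupOf E)) (j : ℕ) (x : E) :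
    ∃ hx : g ^ j * (x : Γ) * (g ^ j)⁻¹ ∈ E,
      (π ^ j) (x : E ⧸ R.subgroupOf E) = ((⟨_, hx⟩ : E) : E ⧸ R.subgroupOf E) := by
  induction j with
  | zero => exact ⟨by simp, by rw [pow_zero]; exact congrArg QuotientGroup.mk (Subtype.ext (by simp))⟩
  | succ j ih =>
    obtain ⟨hx, e⟩ := ih
    refine ⟨by
      rw [show g ^ (j + 1) * (x : Γ) * (g ^ (j + 1))⁻¹ = g * (g ^ j * x * (g ^ j)⁻¹) * g⁻¹ by rw [pow_succ']; group]
      exact (hE _ hx).1, ?_⟩
    rw [pow_succ', Equiv.Perm.mul_apply, e, hπ]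
    exact congrArg QuotientGroup.mk (Subtype.ext (by simp [pow_succ', mul_assoc]))

omit [FiniteDimensional K W] in
theorem mem_of_perm_fixed {g : Γ} (h : Heis ρ E R) (hE : ∀ x ∈ E, g * x * g⁻¹ ∈ E ∧ g⁻¹ * x * g ∈ E)
    {π : Equiv.Perm (E ⧸ R.subgroupOf E)} (hπ : ∀ x : E, π (x : E ⧸ R.subgroupOf E) =
      ((⟨g * x * g⁻¹, (hE x x.2).1⟩ : E) : E ⧸ R.subgroupOf E)) (j : ℕ) (x : E)
    (e : (π ^ j) (x : E ⧸ R.subgroupOf E) = (x : E ⧸ R.subgroupOf E)) :
    g ^ j * (x : Γ) * (g ^ j)⁻¹ * (x : Γ)⁻¹ ∈ R := by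
  obtain ⟨hx, e'⟩ := perm_pow_apply hE hπ j x
  rw [e'] at e
  have h1 := Subgroup.mem_subgroupOf.1 (QuotientGroup.eq.1 e.symm)
  simp only [Subgroup.coe_mul, InvMemClass.coe_inv] at h1
  rw [show g ^ j * (x : Γ) * (g ^ j)⁻¹ * (x : Γ)⁻¹ =
    ⁅(x : Γ), (x : Γ)⁻¹ * (g ^ j * x * (g ^ j)⁻¹)⁆ * ((x : Γ)⁻¹ * (g ^ j * x * (g ^ j)⁻¹)) by
      rw [commutatorElement_def]; group]
  exact mul_mem (h.abel _ x.2 _ (h.le h1)) h1

/-- The data attached to an element acting freely. -/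
structure ActModel (ρ : Γ →* End K W) (E R : Subgroup Γ) (s : Γ) (r : ℕ) where
  M : Model ρ E R
  hE : ∀ x ∈ E, s * x * s⁻¹ ∈ E ∧ s⁻¹ * x * s ∈ E
  S : End K (Fin M.n → K)
  π : Equiv.Perm (E ⧸ R.subgroupOf E)
  perm : ∀ x : E, π (x : E ⧸ R.subgroupOf E) =
    ((⟨s * x * s⁻¹, (hE x x.2).1⟩ : E) : E ⧸ R.subgroupOf E)
  move : FreeMove M.basis ((1 : E) : E ⧸ R.subgroupOf E) S π r
  conj : ∀ A, ρ s * M.j A = M.j (S * A * S ^ (r - 1)) * ρ s
  two : 2 ≤ M.n
  τ : End K W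
  τ_mul : ρ s = τ * M.j S
  τ_comm : ∀ A, τ * M.j A = M.j A * τ
  τ_pow : τ ^ r = 1

variable [IsAlgClosed K] {s : Γ} {r : ℕ}

theorem Act.exists_actModel (h : Act ρ E R s r) : Nonempty (ActModel ρ E R s r) := by
  obtain ⟨M⟩ := exists_model h.heis
  have hE := h.norm.zpowers_left
  obtain ⟨S, π, hS, hπr, hπ, hmove, hconj⟩ := M.exists_op hE h.norm.zpowers_right h.prime.pos
    (fun x _ => by rw [h.pow, map_one, one_mul, mul_one])
  obtain ⟨x0, hx0, hx0R⟩ := h.nontriv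
  have hSS : S * S ^ (r - 1) = 1 := by rw [← pow_succ', Nat.sub_add_cancel h.prime.pos, hS]
  have hSS' : S ^ (r - 1) * S = 1 := by rw [← pow_succ, Nat.sub_add_cancel h.prime.pos, hS]
  have hcS : ρ s * M.j (S ^ (r - 1)) = M.j (S ^ (r - 1)) * ρ s := by
    rw [hconj, hSS, one_mul]
  have hτc : ∀ A, (ρ s * M.j (S ^ (r - 1))) * M.j A = M.j A * (ρ s * M.j (S ^ (r - 1))) := by
    intro A
    rw [mul_assoc, ← map_mul, hconj, hcS, ← mul_assoc (M.j A), ← map_mul]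
    congr 2
    rw [← mul_assoc S, hSS, one_mul]
  refine ⟨⟨M, hE, S, π, hπ, ⟨h.prime.pos, M.one, hS, hmove, ?_, hπr, ?_⟩, hconj, M.two_le hx0 hx0R,
    ρ s * M.j (S ^ (r - 1)), ?_, hτc, ?_⟩⟩
  · rw [hπ]; exact congrArg QuotientGroup.mk (Subtype.ext (by simp))
  · intro t ht j hj0 hjr e
    induction t using QuotientGroup.induction_on with
    | _ x =>
      refine ht (QuotientGroup.eq.2 ?_)
      rw [Subgroup.mem_subgroupOf]
      simpa using h.free x x.2 j hj0 hjr (mem_of_perm_fixed h.heis hE hπ j x e)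
  · rw [mul_assoc, ← map_mul, hSS', map_one, mul_one]
  · rw [(show Commute (ρ s) (M.j (S ^ (r - 1))) from hcS).mul_pow, ← map_pow, h.pow, map_one, one_mul, ← map_pow,
      ← pow_mul, mul_comm, pow_mul, hS, one_pow, map_one]

variable [DecidableEq K]

omit [FiniteDimensional K W] [Nontrivial W] [IsAlgClosed K] [DecidableEq K] [Finite Γ] in
theorem exists_eigen_of_pow {f : End K W} [IsAlgClosed K] [FiniteDimensional K W] {N : ℕ} (hN : 0 < N)
    (hf : f ^ N = 1) {U : Submodule K W} (hU : U ≠ ⊥) (hinv : ∀ v ∈ U, f v ∈ U) :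
    ∃ c ∈ nthRootsFinset N (1 : K), ∃ v ∈ U, v ≠ 0 ∧ f v = c • v := by
  haveI : Nontrivial U := Submodule.nontrivial_iff_ne_bot.2 hU
  obtain ⟨c, hc⟩ := Module.End.exists_eigenvalue (f.restrict hinv)
  obtain ⟨w, hw⟩ := hc.exists_hasEigenvector
  have hwc : f (w : W) = c • (w : W) := congrArg Subtype.val hw.apply_eq_smul
  have hw0 : (w : W) ≠ 0 := fun e => hw.2 (Subtype.ext e)
  have hk : ∀ k : ℕ, (f ^ k) (w : W) = c ^ k • (w : W) := fun k => by
    induction k with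
    | zero => simp
    | succ k ih => rw [pow_succ', End.mul_apply, ih, map_smul, hwc, smul_smul, ← pow_succ]
  refine ⟨c, (mem_nthRootsFinset hN _).2 (smul_left_injective K hw0 ?_), w, w.2, hw0, hwc⟩
  have := hk N
  rw [hf] at this
  simpa using this.symm

theorem ActModel.dims (h : Act ρ E R s r) (D : ActModel ρ E R s r) {a : K} (ha : a ∈ nthRootsFinset r (1 : K))
    (hodd : Odd (Nat.card E)) : D.S.eigenspace a ≠ ⊥ := by
  intro hbot
  haveI := Fintype.ofFinite (E ⧸ R.subgroupOf E)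
  have h1 := D.move.of_missing h.prime h.cast (by rw [D.M.finrank_eq]; exact D.two) ha hbot
  rw [D.M.finrank_eq] at h1
  have hr : Odd r := h.prime.odd_of_ne_two (by have := D.two; omega)
  have hn : Even D.M.n := by
    rcases Nat.even_or_odd D.M.n with h2 | h2
    · exact h2
    · exact absurd hr (Nat.not_odd_iff_even.2 (h1 ▸ h2.add_one))
  have hdvd : D.M.n ^ 2 ∣ Nat.card E := D.M.card_eq ▸ Subgroup.card_quotient_dvd_card _
  have h2 : 2 ∣ Nat.card E := (even_iff_two_dvd.1 hn).trans ((dvd_pow_self _ two_ne_zero).trans hdvd)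
  exact Nat.not_even_iff_odd.2 hodd (even_iff_two_dvd.2 h2)

/-- An eigenvector of `τ` yields one of `s` for each eigenvalue of `S`. -/
theorem ActModel.eigen_vector (D : ActModel ρ E R s r) {W' : Submodule K W}
    (hinv : ∀ x ∈ E, ∀ v ∈ W', ρ x v ∈ W') {c : K} {v : W} (hv : v ∈ W') (hv0 : v ≠ 0) (hvc : D.τ v = c • v)
    {b : K} (hb : D.S.eigenspace b ≠ ⊥) : ∃ w ∈ W', w ≠ 0 ∧ ρ s w = (c * b) • w := by
  obtain ⟨u, hu, hu0⟩ := Submodule.exists_mem_ne_zero_of_ne_bot hb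
  obtain ⟨φ, hφ⟩ := exists_dual_one K hu0
  set A : End K (Fin D.M.n → K) := φ.smulRight u
  let W'' : Submodule K W := W' ⊓ LinearMap.ker (D.τ - c • (1 : End K W))
  have hW'' : ∀ w, w ∈ W'' ↔ w ∈ W' ∧ D.τ w = c • w := fun w => by
    simp [W'', LinearMap.mem_ker, sub_eq_zero]
  have hinv'' : ∀ x ∈ E, ∀ w ∈ W'', ρ x w ∈ W'' := fun x hx w hw => by
    obtain ⟨h1, h2⟩ := (hW'' w).1 hw
    refine (hW'' _).2 ⟨hinv x hx w h1, ?_⟩
    obtain ⟨e, -, he⟩ := D.M.mem ⟨x, hx⟩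
    rw [show ρ x = e • D.M.j _ from he, LinearMap.smul_apply, map_smul, ← End.mul_apply, D.τ_comm, End.mul_apply,
      h2, map_smul, smul_comm]
  obtain ⟨w0, hw0, hw0A⟩ : ∃ w0 ∈ W'', D.M.j A w0 ≠ 0 := by
    by_contra hcon
    push Not at hcon
    have hA := D.M.faithful W'' (fun e => hv0 ((Submodule.eq_bot_iff _).1 e v ((hW'' v).2 ⟨hv, hvc⟩))) hinv'' A hcon
    have := LinearMap.congr_fun hA u
    simp [A, hφ, hu0] at this
  refine ⟨D.M.j A w0, D.M.maps hinv A ((hW'' w0).1 hw0).1, hw0A, ?_⟩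
  have hSA : D.S * A = b • A := LinearMap.ext fun x => by
    simp [A, LinearMap.smulRight_apply, End.mem_eigenspace_iff.1 hu, smul_smul, mul_comm]
  rw [D.τ_mul, End.mul_apply, ← End.mul_apply (D.M.j D.S), ← map_mul, hSA, map_smul, LinearMap.smul_apply,
    map_smul, ← End.mul_apply D.τ, D.τ_comm, End.mul_apply, ((hW'' w0).1 hw0).2, map_smul, smul_smul, mul_comm b]

theorem ActModel.tau_maps (h : Act ρ E R s r) (D : ActModel ρ E R s r) {W' : Submodule K W}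
    (hinv : ∀ x ∈ E, ∀ v ∈ W', ρ x v ∈ W') (hs : ∀ v ∈ W', ρ s v ∈ W') : ∀ v ∈ W', D.τ v ∈ W' := fun v hv => by
  have e : D.τ = ρ s * D.M.j (D.S ^ (r - 1)) := by
    rw [D.τ_mul, mul_assoc, ← map_mul, ← pow_succ', Nat.sub_add_cancel h.prime.pos, D.move.pow, map_one, mul_one]
  rw [e, End.mul_apply]
  exact hs _ (D.M.maps hinv _ hv)

/-- In odd order every eigenvalue of `s` occurs in every invariant subspace. -/
theorem Act.exists_eigen (h : Act ρ E R s r) (hodd : Odd (Nat.card E)) {W' : Submodule K W} (hW : W' ≠ ⊥)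
    (hinv : ∀ x ∈ E, ∀ v ∈ W', ρ x v ∈ W') (hs : ∀ v ∈ W', ρ s v ∈ W') {a : K}
    (ha : a ∈ nthRootsFinset r (1 : K)) : ∃ w ∈ W', w ≠ 0 ∧ ρ s w = a • w := by
  obtain ⟨D⟩ := h.exists_actModel
  obtain ⟨c, hc, v, hv, hv0, hvc⟩ := exists_eigen_of_pow h.prime.pos D.τ_pow hW (D.tau_maps h hinv hs)
  rw [mem_nthRootsFinset h.prime.pos] at hc ha
  have hc0 : c ≠ 0 := fun e => by rw [e, zero_pow h.prime.ne_zero] at hc; exact zero_ne_one hc
  have hb : a / c ∈ nthRootsFinset r (1 : K) := (mem_nthRootsFinset h.prime.pos _).2 (by rw [div_pow, hc, ha, div_one])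
  obtain ⟨w, hw, hw0, hsw⟩ := D.eigen_vector hinv hv hv0 hvc (D.dims h hb hodd)
  exact ⟨w, hw, hw0, by rw [hsw, mul_div_cancel₀ _ hc0]⟩

/-- Without fixed vectors `E` is of even order and has `(r - 1) ^ 2` cosets. -/
theorem Act.of_no_fixed (h : Act ρ E R s r) (hC : ∀ v, ρ s v = v → v = 0) :
    Even (Nat.card E) ∧ Odd r ∧ Nat.card (E ⧸ R.subgroupOf E) = (r - 1) ^ 2 := by
  obtain ⟨A⟩ := h.exists_actModel
  obtain ⟨c, hc, v, -, hv0, hvc⟩ := exists_eigen_of_pow h.prime.pos A.τ_pow (U := ⊤) top_ne_bot (fun _ _ => trivial)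
  rw [mem_nthRootsFinset h.prime.pos] at hc
  have hc0 : c ≠ 0 := fun e => by rw [e, zero_pow h.prime.ne_zero] at hc; exact zero_ne_one hc
  have hb : c⁻¹ ∈ nthRootsFinset r (1 : K) := (mem_nthRootsFinset h.prime.pos _).2 (by rw [inv_pow, hc, inv_one])
  have hbot : A.S.eigenspace c⁻¹ = ⊥ := by
    by_contra hne
    obtain ⟨w, -, hw0, hsw⟩ := A.eigen_vector (W' := ⊤) (fun _ _ _ _ => trivial) trivial hv0 hvc hne
    rw [mul_inv_cancel₀ hc0, one_smul] at hsw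
    exact hw0 (hC w hsw)
  haveI := Fintype.ofFinite (E ⧸ R.subgroupOf E)
  have hn := A.move.of_missing h.prime h.cast (by rw [A.M.finrank_eq]; exact A.two) hb hbot
  rw [A.M.finrank_eq] at hn
  have h2 := A.two
  have hr : Odd r := h.prime.odd_of_ne_two (by omega)
  refine ⟨?_, hr, by rw [A.M.card_eq, show r - 1 = A.M.n by omega]⟩
  have hne : Even A.M.n := by
    rcases Nat.even_or_odd A.M.n with h3 | h3
    · exact h3
    · exact absurd hr (Nat.not_odd_iff_even.2 (hn ▸ h3.add_one))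
  have h5 : Nat.card (E ⧸ R.subgroupOf E) ∣ Nat.card E := Subgroup.card_quotient_dvd_card _
  rw [A.M.card_eq] at h5
  exact even_iff_two_dvd.2 ((even_iff_two_dvd.1 hne).trans ((dvd_pow_self _ two_ne_zero).trans h5))

end Cfsg.Lib.FitHeight
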