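import Cfsg.Agent.Lib.FitHeight.Orbit
import Cfsg.Agent.Lib.FitTwo.Config
import Mathlib.FieldTheory.IsAlgClosed.AlgebraicClosure

/-!
# Operators stabilising a component without fixed vectors
-/

set_option autoImplicit false
set_option linter.style.haveILetI false

namespace Cfsg.Lib.FitHeight

open Module Cfsg.Lib.Local
open scoped commutatorElement

theorem card_map_mk {G : Type*} [Group G] (A R : Subgroup G) [R.Normal] :
    Nat.card (A.map (QuotientGroup.mk' R)) = Nat.card (A ⧸ R.subgroupOf A) := by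
  have hker : ((QuotientGroup.mk' R).comp A.subtype).ker = R.subgroupOf A := by
    rw [← MonoidHom.comap_ker, QuotientGroup.ker_mk']; rfl
  have hrange : ((QuotientGroup.mk' R).comp A.subtype).range = A.map (QuotientGroup.mk' R) := by
    rw [MonoidHom.range_comp, Subgroup.range_subtype]
  exact Nat.card_congr (((MulEquiv.subgroupCongr hrange.symm).trans
    (QuotientGroup.quotientKerEquivRange _).symm).trans (QuotientGroup.quotientMulEquivOfEq hker)).toEquiv

theorem even_of_pow_eq_sq {d n : ℕ} (h : 2 ^ d = n ^ 2) : Even d := by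
  obtain ⟨b, -, rfl⟩ := (Nat.dvd_prime_pow Nat.prime_two).1 (h ▸ dvd_pow_self n two_ne_zero : n ∣ 2 ^ d)
  rw [← pow_mul] at h
  exact ⟨b, by have := Nat.pow_right_injective le_rfl h; omega⟩

section AutRep

variable {G : Type*} [Group G] {A : Type*} [CommGroup A] {k : ℕ} [Fact k.Prime] [Module (ZMod k) (Additive A)]
  (K : Type*) [Field K] [Algebra (ZMod k) K]

/-- The operators of automorphisms. -/
def autLin (φ : G →* MulAut A) : G →* End (ZMod k) (Additive A) where
  toFun g := (MonoidHom.toAdditive (φ g).toMonoidHom).toZModLinearMap _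
  map_one' := LinearMap.ext fun v => by simp [AddMonoidHom.coe_toZModLinearMap]
  map_mul' g g' := LinearMap.ext fun v => by
    simp [AddMonoidHom.coe_toZModLinearMap, map_mul, MulAut.mul_apply]

@[simp] theorem autLin_apply (φ : G →* MulAut A) (g : G) (v : Additive A) :
    autLin (k := k) φ g v = Additive.ofMul (φ g v.toMul) := rfl

/-- The action on functionals. -/
def dualRep (φ : G →* MulAut A) : G →* End K (Additive A →ₗ[ZMod k] K) where
  toFun g :=
    { toFun := fun f => f.comp (autLin (k := k) φ g⁻¹)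
      map_add' := fun f f' => rfl
      map_smul' := fun c f => rfl }
  map_one' := LinearMap.ext fun f => LinearMap.ext fun v => by simp
  map_mul' g g' := LinearMap.ext fun f => LinearMap.ext fun v => by simp [MulAut.mul_apply]

@[simp] theorem dualRep_apply (φ : G →* MulAut A) (g : G) (f : Additive A →ₗ[ZMod k] K) (v : Additive A) :
    dualRep K φ g f v = f (Additive.ofMul (φ g⁻¹ v.toMul)) := rfl

end AutRep

section Parity

variable {G : Type*} [Group G] [Finite G] {A : Type*} [CommGroup A] [Finite A] [Fact (Nat.Prime 2)]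
  [Module (ZMod 2) (Additive A)]

/-- The vectors fixed by a subgroup. -/
def fixedVec (φ : G →* MulAut A) (J : Subgroup G) : Submodule (ZMod 2) (Additive A) :=
  ⨅ a : J, LinearMap.ker (autLin (k := 2) φ (a : G) - 1)

omit [Finite G] [Finite A] in
theorem mem_fixedVec {φ : G →* MulAut A} {J : Subgroup G} {v : Additive A} :
    v ∈ fixedVec φ J ↔ ∀ a ∈ J, φ a v.toMul = v.toMul := by
  simp only [fixedVec, Submodule.mem_iInf, LinearMap.mem_ker, LinearMap.sub_apply, End.one_apply, sub_eq_zero,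
    autLin_apply]
  exact ⟨fun e a ha => congrArg Additive.toMul (e ⟨a, ha⟩), fun e a => congrArg Additive.ofMul (e a a.2)⟩

/-- A small moved part excludes an abelian group of operators moved freely. -/
theorem false_of_small (K2 : Type*) [Field K2] [IsAlgClosed K2] [Algebra (ZMod 2) K2] [CharP K2 2]
    (φ : G →* MulAut A) {J : Subgroup G} {sw : G} {r a : ℕ} (hr : r.Prime) (hra : r = 2 ^ a + 1) (ha : 0 < a)
    (hswr : sw ^ r = 1) (hJn : sw ∈ Subgroup.normalizer (J : Set G)) (hrJ : r.Coprime (Nat.card J))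
    (hJodd : Odd (Nat.card J)) (hab : ∀ b ∈ J, ∀ c ∈ J, φ b * φ c = φ c * φ b)
    (hCs : ∀ b ∈ J, sw * b = b * sw → φ b = 1) (hJne : ∃ g ∈ J, φ g ≠ 1)
    {E1m : Submodule (ZMod 2) (Additive A)} (hE1 : finrank (ZMod 2) E1m = 2 * a)
    (hE1s : ∀ v ∈ E1m, Additive.ofMul (φ sw⁻¹ v.toMul) ∈ E1m)
    (hdec : ∀ v, ∃ v1 ∈ E1m, ∃ v2 : Additive A, φ sw⁻¹ v2.toMul = v2.toMul ∧ v = v1 + v2)
    (hdT : Even (finrank (ZMod 2) (Additive A))) (hdC : Even (finrank (ZMod 2) (fixedVec φ J))) : False := by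
  classical
  haveI : Module.Finite (ZMod 2) (Additive A) := Module.Finite.of_finite
  let π : G →* End K2 (Additive A →ₗ[ZMod 2] K2) := dualRep K2 φ
  haveI : FiniteDimensional K2 (Additive A →ₗ[ZMod 2] K2) := Module.Finite.linearMap _ _ _ _
  have hJK : (Nat.card J : K2) ≠ 0 := by
    rw [Ne, CharP.cast_eq_zero_iff K2 2, ← even_iff_two_dvd, Nat.not_even_iff_odd]; exact hJodd
  set Wm : Submodule K2 (Additive A →ₗ[ZMod 2] K2) := LinearMap.ker (sumOf π J) with hWm
  letI := Fintype.ofFinite J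
  let Cq := fixedVec φ J
  let Pl : End (ZMod 2) (Additive A) := sumOf (autLin φ) J
  have hPl : ∀ v, Pl v ∈ Cq := fun v => mem_fixedVec.2 fun a ha =>
    congrArg Additive.toMul (sumOf_fixed (ρ := autLin φ) J v ha)
  have hPlfix : ∀ v ∈ Cq, Pl v = v := fun v hv => by
    rw [show Pl v = _ from sumOf_of_fixed fun a ha => congrArg Additive.ofMul (mem_fixedVec.1 hv a ha)]
    rw [show ((Nat.card J : ℕ) : ZMod 2) = 1 from ZMod.natCast_eq_one_iff_odd.2 hJodd, one_smul]
  -- the fixed functionals are those of the fixed points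
  let res : (Additive A →ₗ[ZMod 2] K2) →ₗ[K2] (Cq →ₗ[ZMod 2] K2) :=
    { toFun := fun f => f.comp Cq.subtype
      map_add' := fun f g => rfl
      map_smul' := fun c f => rfl }
  have hsum_eval : ∀ (f : Additive A →ₗ[ZMod 2] K2) v, sumOf π J f v = f (Pl v) := by
    intro f v
    rw [sumOf_apply, LinearMap.sum_apply, sumOf_apply, map_sum]
    refine Fintype.sum_equiv (Equiv.inv J) _ _ fun a => ?_
    rfl
  have hsplit : finrank K2 Wm + finrank K2 (Cq →ₗ[ZMod 2] K2) = finrank K2 (Additive A →ₗ[ZMod 2] K2) := by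
    have hsurj : Function.Surjective res := fun g =>
      ⟨g.comp (Pl.codRestrict Cq hPl), LinearMap.ext fun v => congrArg g (Subtype.ext (hPlfix v v.2))⟩
    have hker : LinearMap.ker res = Wm := by
      ext f
      rw [hWm, LinearMap.mem_ker, LinearMap.mem_ker]
      refine ⟨fun e => LinearMap.ext fun v => ?_, fun e => LinearMap.ext fun v => ?_⟩
      · rw [hsum_eval]
        exact LinearMap.congr_fun e ⟨Pl v, hPl v⟩
      · have := LinearMap.congr_fun e (v : Additive A)
        rw [hsum_eval, hPlfix v v.2] at this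
        exact this
    have h1 := LinearMap.finrank_range_add_finrank_ker res
    rw [LinearMap.range_eq_top.2 hsurj, finrank_top, hker] at h1
    omega
  rw [Module.finrank_linearMap_self, Module.finrank_linearMap_self] at hsplit
  have heW : Even (finrank K2 Wm) := by
    obtain ⟨c, hc⟩ := hdT
    obtain ⟨b, (hb : finrank (ZMod 2) Cq = b + b)⟩ := hdC
    exact ⟨c - b, by omega⟩
  -- the group acting on the moved functionals
  let N : Subgroup G := Subgroup.normalizer (J : Set G)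
  have hNW : ∀ g ∈ N, ∀ f ∈ Wm, π g f ∈ Wm := fun g hg f hf => by
    rw [hWm, LinearMap.mem_ker] at hf ⊢
    rw [sumOf_conj hg, hf, map_zero]
  let πW : N →* End K2 Wm :=
    { toFun := fun g => (π (g : G)).restrict (hNW g g.2)
      map_one' := LinearMap.ext fun v => Subtype.ext (LinearMap.congr_fun (map_one π) (v : _))
      map_mul' := fun a b => LinearMap.ext fun v => Subtype.ext
        (LinearMap.congr_fun (map_mul π (a : G) b) (v : _)) }
  have hπφ : ∀ g, φ g = 1 → π g = 1 := fun g e => LinearMap.ext fun f => LinearMap.ext fun v => by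
    show f (Additive.ofMul (φ g⁻¹ v.toMul)) = f v
    rw [map_inv, e, inv_one]; rfl
  haveI : Nontrivial Wm := by
    rw [Submodule.nontrivial_iff_ne_bot]
    intro hbot
    obtain ⟨g, hg, hgne⟩ := hJne
    refine hgne (MulEquiv.ext fun t => ?_)
    rw [hbot, finrank_bot, zero_add] at hsplit
    have htop : Cq = ⊤ := Submodule.eq_top_of_finrank_eq hsplit
    exact mem_fixedVec.1 (show Additive.ofMul t ∈ Cq from htop ▸ Submodule.mem_top) g hg
  set swN : N := ⟨sw, hJn⟩ with hswN
  have hdim : finrank K2 (LinearMap.ker (trOf (W := Wm) πW swN r)) ≤ 2 * a := by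
    let resE : LinearMap.ker (trOf (W := Wm) πW swN r) →ₗ[K2] (E1m →ₗ[ZMod 2] K2) :=
      { toFun := fun f => ((f : Wm) : Additive A →ₗ[ZMod 2] K2).comp E1m.subtype
        map_add' := fun f g => rfl
        map_smul' := fun c f => rfl }
    have hinj : Function.Injective resE := by
      intro f f' e
      set g := ((f : Wm) : Additive A →ₗ[ZMod 2] K2) - ((f' : Wm) : Additive A →ₗ[ZMod 2] K2) with hg
      have hf0 : ∀ v ∈ E1m, g v = 0 := fun v hv => by
        rw [hg, LinearMap.sub_apply, sub_eq_zero]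
        exact LinearMap.congr_fun e ⟨v, hv⟩
      have hsinv : ∀ v : Additive A, g (Additive.ofMul (φ sw⁻¹ v.toMul)) = g v := by
        intro v
        obtain ⟨v1, hv1, v2, hv2, rfl⟩ := hdec v
        rw [toMul_add, map_mul, ofMul_mul, map_add, map_add, hf0 v1 hv1, hf0 _ (hE1s v1 hv1), hv2, ofMul_toMul]
      refine Subtype.ext (Subtype.ext (sub_eq_zero.1 (LinearMap.ext fun v => ?_)))
      show g v = 0
      have hinv : ∀ i : ℕ, ∀ v, π (sw ^ i) g v = g v := by
        intro i
        induction i with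
        | zero => intro v; rw [pow_zero, map_one, End.one_apply]
        | succ i ih =>
          intro v
          show g (Additive.ofMul (φ (sw ^ (i + 1))⁻¹ v.toMul)) = g v
          rw [pow_succ', mul_inv_rev, map_mul, MulAut.mul_apply]
          exact (ih (Additive.ofMul (φ sw⁻¹ v.toMul))).trans (hsinv v)
      have hz : ∀ F : LinearMap.ker (trOf (W := Wm) πW swN r),
          ∑ i ∈ Finset.range r, π (sw ^ i) ((F : Wm) : Additive A →ₗ[ZMod 2] K2) v = 0 := fun F => by
        have h1 := LinearMap.congr_fun (congrArg Subtype.val (LinearMap.mem_ker.1 F.2)) v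
        rw [trOf_apply] at h1
        simp only [Submodule.coe_sum, Submodule.coe_zero, LinearMap.sum_apply, LinearMap.zero_apply] at h1
        exact h1
      have h1 : ∑ i ∈ Finset.range r, π (sw ^ i) g v = 0 := by
        simp only [hg, map_sub, LinearMap.sub_apply, Finset.sum_sub_distrib, hz f, hz f', sub_self]
      rw [Finset.sum_congr rfl fun i _ => hinv i v, Finset.sum_const, Finset.card_range, ← Nat.cast_smul_eq_nsmul K2,
        smul_eq_mul] at h1
      refine (mul_eq_zero.1 h1).resolve_left ?_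
      rw [CharP.cast_eq_zero_iff K2 2, ← even_iff_two_dvd, Nat.not_even_iff_odd, hra]
      exact (Nat.even_pow.2 ⟨even_two, ha.ne'⟩).add_one
    have h1 := LinearMap.finrank_le_finrank_of_injective hinj
    rwa [Module.finrank_linearMap_self, hE1] at h1
  have hodd := odd_finrank_of_orbit (W := Wm) πW (J := J.subgroupOf N) (s := swN) hr hra ha
    (Subtype.ext (by simp [hswN, hswr]))
    (Subgroup.mem_normalizer_iff.2 fun g => Subgroup.mem_normalizer_iff.1 hJn (g : G))
    (by rwa [Nat.card_congr (Subgroup.subgroupOfEquivOfLe Subgroup.le_normalizer).toEquiv])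
    (by rwa [Nat.card_congr (Subgroup.subgroupOfEquivOfLe Subgroup.le_normalizer).toEquiv])
    (fun b hb c hc => LinearMap.ext fun v => Subtype.ext (by
      show π (b : G) (π (c : G) (v : _)) = π (c : G) (π (b : G) (v : _))
      rw [← End.mul_apply, ← map_mul, ← End.mul_apply, ← map_mul]
      refine LinearMap.ext fun u => ?_
      show (v : Additive A →ₗ[ZMod 2] K2) (Additive.ofMul (φ ((b : G) * c)⁻¹ u.toMul)) =
        (v : Additive A →ₗ[ZMod 2] K2) (Additive.ofMul (φ ((c : G) * b)⁻¹ u.toMul))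
      rw [map_inv, map_inv, map_mul, map_mul, hab b hb c hc]))
    (fun b hb e => LinearMap.ext fun v => Subtype.ext (by
      show π (b : G) (v : _) = (v : _)
      rw [hπφ _ (hCs b hb (congrArg Subtype.val e :))]; rfl))
    (fun v hv => Subtype.ext (by
      have h1 : sumOf π J (v : Additive A →ₗ[ZMod 2] K2) = 0 := LinearMap.mem_ker.1 v.2
      rw [sumOf_of_fixed fun b hb => congrArg Subtype.val (hv ⟨b, Subgroup.le_normalizer hb⟩ hb)] at h1
      exact (smul_eq_zero.1 h1).resolve_left hJK))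
    hdim
  exact Nat.not_odd_iff_even.2 heW hodd

end Parity

section Stab

variable {Γ : Type*} [Group Γ] [Finite Γ] {K : Type*} [Field K] [IsAlgClosed K] {V : Type*} [AddCommGroup V]
  [Module K V] [FiniteDimensional K V] {Q Z : Subgroup Γ} {h : Cls Q Z} {ρ : Γ →* End K V} {ω : Γ → K}

/-- A fixed component without fixed vectors or killed by the displacements. -/
def Still (h : Cls Q Z) (ρ : Γ →* End K V) (s : Γ) (ω : Γ → K) : Prop :=
  FitTwo.translate s ω = ω ∧
    (Dead h ρ ⁅Q, Subgroup.zpowers s⁆ ω ∨ ∀ v ∈ cspace h ρ ω, ρ s v = v → v = 0)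

set_option maxHeartbeats 800000 in
/-- An operator group with trivial fixed points on the group of operators of a fixed component without fixed
vectors is trivial modulo the radical. -/
theorem stab_trivial (hω : Comp h ρ ω) {q : ℕ} (hq : q.Prime) (hQ : IsPGroup q Q) (hpow : ∀ x ∈ Q, x ^ q ∈ Z)
    {s : Γ} {r : ℕ} (hr : r.Prime) (hrK : (r : K) ≠ 0) (hsr : s ^ r = 1)
    (hsQ : s ∈ Subgroup.normalizer (Q : Set Γ)) (hsZ : s ∈ Subgroup.normalizer (Z : Set Γ))
    (hrQ : r.Coprime (Nat.card Q)) (hstill : Still h ρ s ω) {J0 : Subgroup Γ} (hJ : J0 ≤ stab Q Z ω)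
    (hJsol : Group.IsSolvable J0) (hJQ : (Nat.card J0).Coprime (Nat.card Q))
    (hrJ : r.Coprime (Nat.card J0)) (hsJ : s ∈ Subgroup.normalizer (J0 : Set Γ))
    (hJs : J0 ≤ ⁅J0, Subgroup.zpowers s⁆) :
    ∀ k ∈ J0, ∀ x ∈ Q, k * x * k⁻¹ * x⁻¹ ∈ rad h ρ ω := by
  classical
  obtain ⟨hfixω, hcase⟩ := hstill
  set S := ⁅Q, Subgroup.zpowers s⁆ with hS
  have hSQ : S ≤ Q := Cfsg.Lib.Coprime.commutator_le_of_le_normalizer (zpowers_le_normalizer hsQ)
  have hSn : ∀ y ∈ Q, ∀ x ∈ S, y * x * y⁻¹ ∈ S := fun y hy x hx =>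
    (Subgroup.mem_normalizer_iff.1 (Subgroup.normalizer_commutator_ge_left Q _ hy) x).1 hx
  have hsR : ∀ x ∈ rad h ρ ω, s * x * s⁻¹ ∈ rad h ρ ω := fun x hx =>
    (stab_rad (⟨hsQ, hsZ, hfixω⟩ : s ∈ stab Q Z ω) hx).1
  by_cases hdead : Dead h ρ S ω
  · -- `s` is trivial modulo the radical
    obtain ⟨v, hv, hv0⟩ := Submodule.exists_mem_ne_zero_of_ne_bot hω.occurs
    have hSR : S ≤ rad h ρ ω := fun x hx => (hω.mem_rad_iff).2 ⟨hSQ hx, fun y hy => by
      refine smul_left_injective K hv0 ?_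
      show ω ⁅x, y⁆ • v = (1 : K) • v
      rw [← apply_rad hv (le_rad h ρ ω (h.comm x (hSQ hx) y hy)), one_smul, commutatorElement_def,
        show x * y * x⁻¹ * y⁻¹ = x * (y * x⁻¹ * y⁻¹) by group, map_mul, End.mul_apply,
        hdead _ (hSn y hy _ (inv_mem hx)) v hv, hdead x hx v hv]⟩
    let N : Subgroup Γ := stab Q Z ω
    let B : Subgroup Γ :=
      { carrier := {g | g ∈ N ∧ ∀ x ∈ Q, g * x * g⁻¹ * x⁻¹ ∈ rad h ρ ω}
        one_mem' := ⟨one_mem N, fun x _ => by simp⟩
        mul_mem' := fun {a b} ha hb => ⟨mul_mem ha.1 hb.1, fun x hx => by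
          rw [show a * b * x * (a * b)⁻¹ * x⁻¹ = a * (b * x * b⁻¹ * x⁻¹) * a⁻¹ * (a * x * a⁻¹ * x⁻¹) by group]
          exact mul_mem (stab_rad ha.1 (hb.2 x hx)).1 (ha.2 x hx)⟩
        inv_mem' := fun {a} ha => ⟨inv_mem ha.1, fun x hx => by
          rw [show a⁻¹ * x * a⁻¹⁻¹ * x⁻¹ = a⁻¹ * (a * x * a⁻¹ * x⁻¹)⁻¹ * a⁻¹⁻¹ by group]
          exact (stab_rad (inv_mem ha.1) (inv_mem (ha.2 x hx))).1⟩ }
    have hsB : ∀ g ∈ Subgroup.zpowers s, g ∈ B := fun g hg => by
      refine (Subgroup.zpowers_le.2 (show s ∈ B from ⟨⟨hsQ, hsZ, hfixω⟩, fun x hx => hSR ?_⟩)) hg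
      have h1 : ⁅x, s⁆⁻¹ ∈ S := inv_mem (Subgroup.commutator_mem_commutator hx (Subgroup.mem_zpowers s))
      rwa [show ⁅x, s⁆⁻¹ = s * x * s⁻¹ * x⁻¹ by rw [commutatorElement_def]; group] at h1
    have hBn : ∀ a ∈ N, ∀ g ∈ B, a * g * a⁻¹ ∈ B := fun a ha g hg => ⟨mul_mem (mul_mem ha hg.1) (inv_mem ha),
      fun x hx => by
        have hx' : a⁻¹ * x * a ∈ Q :=
          (Subgroup.mem_normalizer_iff.1 ha.1 _).2 (by simpa [mul_assoc] using hx)
        rw [show a * g * a⁻¹ * x * (a * g * a⁻¹)⁻¹ * x⁻¹ =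
          a * (g * (a⁻¹ * x * a) * g⁻¹ * (a⁻¹ * x * a)⁻¹) * a⁻¹ by group]
        exact (stab_rad ha (hg.2 _ hx')).1⟩
    have hle : ⁅J0, Subgroup.zpowers s⁆ ≤ B := Subgroup.commutator_le.2 fun a ha g hg => by
      rw [commutatorElement_def]
      exact mul_mem (hBn a (hJ ha) g (hsB g hg)) (inv_mem (hsB g hg))
    exact fun k hk => (hle (hJs hk)).2
  have hC : ∀ v ∈ cspace h ρ ω, ρ s v = v → v = 0 := hcase.resolve_left hdead
  -- coordinates in the stabiliser
  set Γw := stab Q Z ω with hΓw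
  set E : Subgroup Γw := Q.subgroupOf Γw with hE
  set R : Subgroup Γw := (rad h ρ ω).subgroupOf Γw with hR
  set ρw := crep h ρ ω with hρw
  haveI : Nontrivial (cspace h ρ ω) := Submodule.nontrivial_iff_ne_bot.2 hω.occurs
  have hH : Heis ρw E R := hω.heis
  haveI hEn : E.Normal := ⟨fun x hx g => (Subgroup.mem_normalizer_iff.1 g.2.1 (x : Γ)).1 hx⟩
  haveI hRn : R.Normal := ⟨fun x hx g => (stab_rad (h := h) (ρ := ρ) g.2 hx).1⟩
  let mk : Γw →* Γw ⧸ R := QuotientGroup.mk' R
  have hmk : ∀ {a b : Γw}, mk a = mk b ↔ a * b⁻¹ ∈ R := fun {a b} => by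
    refine ⟨fun e => (QuotientGroup.eq_one_iff _).1 ?_, fun e => mul_inv_eq_one.1 ?_⟩
    · show mk (a * b⁻¹) = 1
      rw [map_mul, map_inv, e, mul_inv_cancel]
    · rw [← map_inv, ← map_mul]
      exact (QuotientGroup.eq_one_iff _).2 e
  set Eq' := E.map mk with hEq'
  haveI : Eq'.Normal := hEn.map mk (QuotientGroup.mk'_surjective R)
  letI : CommGroup Eq' :=
    { (inferInstance : Group Eq') with
      mul_comm := fun a b => by
        obtain ⟨_, x, hx, rfl⟩ := a
        obtain ⟨_, y, hy, rfl⟩ := b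
        refine Subtype.ext ?_
        show mk x * mk y = mk y * mk x
        rw [← map_mul, ← map_mul, hmk, mul_inv_rev, ← mul_assoc]
        exact (show x * y * x⁻¹ * y⁻¹ ∈ R from hH.abel x hx y hy) }
  let φ : Γw →* MulAut Eq' := MulAut.conjNormal.comp mk
  have hφap : ∀ (g : Γw) (t : Eq'), ((φ g t : Eq') : Γw ⧸ R) = mk g * (t : Γw ⧸ R) * (mk g)⁻¹ := fun g t =>
    MulAut.conjNormal_apply _ _
  have hφ : ∀ g : Γw, φ g = 1 ↔ ∀ x ∈ E, g * x * g⁻¹ * x⁻¹ ∈ R := by
    intro g
    constructor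
    · intro e x hx
      have h1 := hφap g ⟨mk x, Subgroup.mem_map_of_mem mk hx⟩
      rw [e] at h1
      rw [← hmk, map_mul, map_mul, map_inv]
      exact h1.symm
    · intro e
      refine MulEquiv.ext fun t => Subtype.ext ?_
      rw [hφap]
      obtain ⟨_, x, hx, rfl⟩ := t
      show mk g * mk x * (mk g)⁻¹ = mk x
      rw [← map_inv, ← map_mul, ← map_mul, hmk]
      exact e x hx
  set sw : Γw := ⟨s, hsQ, hsZ, hfixω⟩ with hsw
  have hswr : sw ^ r = 1 := Subtype.ext (by simp [hsw, hsr])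
  have hcardE : Nat.card E = Nat.card Q := Nat.card_congr (Subgroup.subgroupOfEquivOfLe hω.le_stab).toEquiv
  have hNorm : ∀ A : Subgroup Γw, Norm A E R := fun A =>
    ⟨fun a _ x hx => hEn.conj_mem x hx a, fun a _ x hx => hRn.conj_mem x hx a⟩
  have hcs : (Nat.card (Subgroup.zpowers sw)).Coprime (Nat.card E) :=
    coprime_zpowers hr hswr (hcardE ▸ hrQ)
  set E1 := hH.movedPart (hNorm (Subgroup.zpowers sw)) with hE1
  set F1 := fixedPart hH.le hH.abel (hNorm (Subgroup.zpowers sw)) with hF1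
  have hcomm : ∀ a ∈ Subgroup.zpowers sw, ∀ b ∈ Subgroup.zpowers sw, a * b = b * a := fun a ha b hb => by
    obtain ⟨i, rfl⟩ := ha
    obtain ⟨k, rfl⟩ := hb
    exact ((Commute.refl sw).zpow_zpow i k).eq
  have hE1ne : ∃ x ∈ E1, x ∉ R := by
    by_contra hcon
    push Not at hcon
    have hall : ∀ x ∈ E, x ∈ F1 := fun x hx =>
      (sup_le (fun z hz => hH.le_fixedPart _ (hcon z hz)) le_rfl : E1 ⊔ F1 ≤ F1)
        ((hH.moved_sup_fixed hcs (hNorm _)).ge hx)
    refine hdead ?_
    have hSR : S ≤ rad h ρ ω := by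
      let M : Subgroup Γ :=
        { carrier := {g | g ∈ Subgroup.normalizer (Q : Set Γ) ∧ g ∈ Γw ∧ ∀ x ∈ Q, g * x * g⁻¹ * x⁻¹ ∈ rad h ρ ω}
          one_mem' := ⟨one_mem _, one_mem _, fun x _ => by simp⟩
          mul_mem' := fun {a b} ha hb => ⟨mul_mem ha.1 hb.1, mul_mem ha.2.1 hb.2.1, fun x hx => by
            rw [show a * b * x * (a * b)⁻¹ * x⁻¹ = a * (b * x * b⁻¹ * x⁻¹) * a⁻¹ * (a * x * a⁻¹ * x⁻¹) by group]
            exact mul_mem (stab_rad ha.2.1 (hb.2.2 x hx)).1 (ha.2.2 x hx)⟩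
          inv_mem' := fun {a} ha => ⟨inv_mem ha.1, inv_mem ha.2.1, fun x hx => by
            rw [show a⁻¹ * x * a⁻¹⁻¹ * x⁻¹ = a⁻¹ * (a * x * a⁻¹ * x⁻¹)⁻¹ * a⁻¹⁻¹ by group]
            exact (stab_rad (inv_mem ha.2.1) (inv_mem (ha.2.2 x hx))).1⟩ }
      have hsM : Subgroup.zpowers s ≤ M := Subgroup.zpowers_le.2
        ⟨hsQ, ⟨hsQ, hsZ, hfixω⟩, fun x hx => (hall ⟨x, hω.le_stab hx⟩ hx).2 sw (Subgroup.mem_zpowers sw)⟩
      refine Subgroup.commutator_le.2 fun x hx g hg => ?_
      rw [show ⁅x, g⁆ = (g * x * g⁻¹ * x⁻¹)⁻¹ by rw [commutatorElement_def]; group]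
      exact inv_mem ((hsM hg).2.2 x hx)
    have hss : s ∈ Subgroup.normalizer (S : Set Γ) :=
      Subgroup.normalizer_commutator_ge_right Q _ (Subgroup.mem_zpowers s)
    let Ker : Subgroup Γ :=
      { carrier := {x | x ∈ rad h ρ ω ∧ ω x = 1}
        one_mem' := ⟨one_mem _, hω.one⟩
        mul_mem' := fun {a b} ha hb => ⟨mul_mem ha.1 hb.1, by rw [hω.mul ha.1 hb.1, ha.2, hb.2, mul_one]⟩
        inv_mem' := fun {a} ha => ⟨inv_mem ha.1, by rw [hω.inv ha.1, ha.2, inv_one]⟩ }
    have hSS : ⁅S, Subgroup.zpowers s⁆ ≤ Ker := by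
      refine Subgroup.commutator_le.2 fun u hu g hg => ?_
      have hgst : g ∈ Γw := Subgroup.zpowers_le.2 (show s ∈ Γw from ⟨hsQ, hsZ, hfixω⟩) hg
      obtain ⟨h1, h2⟩ := stab_rad hgst (inv_mem (hSR hu))
      refine ⟨?_, ?_⟩
      · rw [commutatorElement_def, show u * g * u⁻¹ * g⁻¹ = u * (g * u⁻¹ * g⁻¹) by group]
        exact mul_mem (hSR hu) h1
      · rw [commutatorElement_def, show u * g * u⁻¹ * g⁻¹ = u * (g * u⁻¹ * g⁻¹) by group, hω.mul (hSR hu) h1, h2,
          hω.inv (hSR hu), mul_inv_cancel₀ (hω.ne_zero (hSR hu))]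
    intro x hx u hu
    have h1 := hSS ((Cfsg.Lib.Coprime.commutator_commutator_eq (zpowers_le_normalizer hsQ)
      (coprime_zpowers hr hsr hrQ) (Or.inl (isSolvable_zpowers s))).ge hx)
    rw [apply_rad hu h1.1, h1.2, one_smul]
  have hnorm1 : Norm (Subgroup.zpowers sw) E1 R := ⟨fun a ha x hx =>
    hH.moved_conj (hNorm _) (fun y hy => hEn.conj_mem y hy a) (fun y hy => hRn.conj_mem y hy a)
      (fun b hb => hcomm a ha b hb) hx, fun a _ x hx => hRn.conj_mem x hx a⟩
  have hA1 : Act ρw E1 R sw r := by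
    refine ⟨hH.heis_moved hcs (hNorm _), hr, hrK, hswr, hnorm1, fun x hx j hj0 hjr hh => ?_,
      (hcardE ▸ hrQ).coprime_dvd_right (Subgroup.card_dvd_of_le (hH.movedPart_le _)), hE1ne⟩
    refine hH.moved_inf_fixed hcs (hNorm _) hx ⟨hH.movedPart_le _ hx, fun a ha => ?_⟩
    obtain ⟨k, hk⟩ := exists_pow_eq_self_of_coprime (x := sw)
      (((hr.coprime_iff_not_dvd).2 fun hd => absurd (Nat.le_of_dvd hj0 hd) (not_le.2 hjr)).symm.coprime_dvd_right
        (orderOf_dvd_of_pow_eq_one hswr))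
    let F : Subgroup Γw :=
      { carrier := {b | b * x * b⁻¹ * x⁻¹ ∈ R}
        one_mem' := by simp
        mul_mem' := fun {b b'} hb hb' => by
          show b * b' * x * (b * b')⁻¹ * x⁻¹ ∈ R
          rw [show b * b' * x * (b * b')⁻¹ * x⁻¹ = b * (b' * x * b'⁻¹ * x⁻¹) * b⁻¹ * (b * x * b⁻¹ * x⁻¹) by group]
          exact mul_mem (hRn.conj_mem _ hb' b) hb
        inv_mem' := fun {b} hb => by
          show b⁻¹ * x * b⁻¹⁻¹ * x⁻¹ ∈ R
          rw [show b⁻¹ * x * b⁻¹⁻¹ * x⁻¹ = b⁻¹ * (b * x * b⁻¹ * x⁻¹)⁻¹ * b⁻¹⁻¹ by group]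
          exact hRn.conj_mem _ (inv_mem hb) _ }
    have h1 : sw ∈ F := hk ▸ pow_mem (show sw ^ j ∈ F from hh) k
    exact Subgroup.zpowers_le.2 h1 ha
  have hC' : ∀ v : cspace h ρ ω, ρw sw v = v → v = 0 := fun v hv =>
    Subtype.ext (hC v v.2 (by simpa [hρw, hsw] using congrArg Subtype.val hv))
  obtain ⟨heven, hrodd, hcard1⟩ := hA1.of_no_fixed hC'
  have h2Q : 2 ∣ Nat.card Q := hcardE ▸ (even_iff_two_dvd.1 heven).trans (Subgroup.card_dvd_of_le (hH.movedPart_le _))
  haveI := Fact.mk hq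
  have hq2 : q = 2 := by
    obtain ⟨e, he⟩ := IsPGroup.iff_card.1 hQ
    rw [he] at h2Q
    exact ((Nat.prime_dvd_prime_iff_eq Nat.prime_two hq).1 (Nat.prime_two.dvd_of_dvd_pow h2Q)).symm
  -- the module of the quotient
  haveI : Fact (Nat.Prime 2) := ⟨Nat.prime_two⟩
  letI : Module (ZMod 2) (Additive Eq') := AddCommGroup.zmodModule fun t => by
    induction t using Additive.rec with
    | ofMul t =>
      obtain ⟨_, x, hx, rfl⟩ := t
      refine Additive.toMul.injective (Subtype.ext ?_)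
      show mk x ^ 2 = 1
      rw [← map_pow, ← MonoidHom.mem_ker, QuotientGroup.ker_mk']
      exact le_rad h ρ ω (hq2 ▸ hpow (x : Γ) hx)
  have hcardT : ∀ (M : Submodule (ZMod 2) (Additive Eq')), Nat.card M = 2 ^ finrank (ZMod 2) M := fun M => by
    rw [Module.natCard_eq_pow_finrank (K := ZMod 2), Nat.card_zmod]
  -- everything is trivial
  intro k hk x hx
  by_contra hkx
  set J0w : Subgroup Γw := J0.subgroupOf Γw with hJ0w
  have hcardJ0 : Nat.card J0w = Nat.card J0 := Nat.card_congr (Subgroup.subgroupOfEquivOfLe hJ).toEquiv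
  have hzs : (Subgroup.zpowers sw).map Γw.subtype = Subgroup.zpowers s := MonoidHom.map_zpowers _ _
  obtain ⟨J, ⟨hJle, hJn, hJc, hJne⟩, hJmin⟩ := wellFounded_lt.has_min
    {J : Subgroup Γw | J ≤ J0w ∧ sw ∈ Subgroup.normalizer (J : Set Γw) ∧
      J ≤ ⁅J, Subgroup.zpowers sw⁆ ∧ ∃ g ∈ J, φ g ≠ 1}
    ⟨J0w, le_rfl, Subgroup.mem_normalizer_iff.2 fun g => Subgroup.mem_normalizer_iff.1 hsJ (g : Γ),
      fun g hg => by
        have h1 := hJs hg
        rw [← hzs, ← Subgroup.map_subgroupOf_eq_of_le hJ, ← Subgroup.map_commutator] at h1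
        obtain ⟨g', hg', e⟩ := h1
        rwa [← (Subtype.ext e : g' = g)],
      ⟨k, hJ hk⟩, hk, fun e => hkx ((hφ _).1 e ⟨x, hω.le_stab hx⟩ hx)⟩
  have hJQ' : (Nat.card J).Coprime (Nat.card E) := by
    rw [hcardE]; exact hJQ.coprime_dvd_left (hcardJ0 ▸ Subgroup.card_dvd_of_le hJle)
  have hrJ' : r.Coprime (Nat.card J) := hrJ.coprime_dvd_right (hcardJ0 ▸ Subgroup.card_dvd_of_le hJle)
  have hJodd : Odd (Nat.card J) := (hJQ'.coprime_dvd_right (hcardE ▸ h2Q)).odd_of_right
  haveI := hJsol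
  haveI : Group.IsSolvable J :=
    Group.isSolvable_of_isSolvable_injective (f := (Γw.subtype.comp J.subtype).codRestrict J0 fun g => hJle g.2)
      fun a b e => Subtype.ext (Subtype.ext (congrArg Subtype.val e :))
  set Jm := J.map φ with hJm
  set Sm := (Subgroup.zpowers sw).map φ with hSm
  have hJmc : Jm ≤ ⁅Jm, Sm⁆ := by rw [← Subgroup.map_commutator]; exact Subgroup.map_mono hJc
  -- a central element fixed by `s` is trivial
  have hZ1 : ∀ g ∈ J, (∀ a ∈ Jm, φ g * a = a * φ g) → φ sw * φ g = φ g * φ sw → φ g = 1 := by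
    intro g hg hcen hgs
    have hmem : φ g ∈ Jm ⊓ Subgroup.centralizer (Sm : Set (MulAut Eq')) :=
      ⟨Subgroup.mem_map_of_mem φ hg, Subgroup.mem_centralizer_iff.2 fun b hb => by
        obtain ⟨c, hc, rfl⟩ := hb
        obtain ⟨i, rfl⟩ := hc
        rw [map_zpow]
        exact ((show Commute (φ sw) (φ g) from hgs).zpow_left i).eq⟩
    rw [← Cfsg.Lib.Coprime.map_inf_centralizer_eq φ (zpowers_le_normalizer hJn)
      (coprime_zpowers hr hswr hrJ') (Or.inl (isSolvable_zpowers sw))] at hmem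
    obtain ⟨z, ⟨hzJ, hzc⟩, hze⟩ := hmem
    rw [← hze] at hcen ⊢
    have hzs' : sw * z = z * sw := Subgroup.mem_centralizer_iff.1 hzc sw (Subgroup.mem_zpowers sw)
    have hzcomm : ∀ b ∈ Subgroup.zpowers sw, ∀ c ∈ Subgroup.zpowers z, c * b = b * c := fun b hb c hc => by
      obtain ⟨i, rfl⟩ := hb
      obtain ⟨l, rfl⟩ := hc
      exact (((show Commute sw z from hzs').zpow_zpow i l).eq).symm
    have hn1 : Norm (Subgroup.zpowers z) E1 R := ⟨fun c hc y hy =>
      hH.moved_conj (hNorm _) (fun w hw => hEn.conj_mem w hw c) (fun w hw => hRn.conj_mem w hw c)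
        (fun b hb => hzcomm b hb c hc) hy, fun c _ y hy => hRn.conj_mem y hy c⟩
    have hzo : orderOf z ∣ Nat.card J := Subgroup.orderOf_dvd_natCard J hzJ
    rcases hA1.sign hn1 hzs' ((hJQ'.coprime_dvd_left hzo).coprime_dvd_right
        (Subgroup.card_dvd_of_le (hH.movedPart_le _))) (hrJ'.symm.coprime_dvd_left hzo)
        (fun v hv => by rw [hC' v hv, map_zero]) with hfix | ⟨hev, -⟩
    swap
    · exact absurd (hJodd.of_dvd_nat hzo) (Nat.not_odd_iff_even.2 hev)
    -- the fixed elements of `z`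
    let Cz : Subgroup Eq' :=
      { carrier := {t | φ z t = t}
        one_mem' := map_one _
        mul_mem' := fun {a b} ha hb => by
          show φ z (a * b) = a * b
          rw [map_mul, show φ z a = a from ha, show φ z b = b from hb]
        inv_mem' := fun {a} ha => by
          show φ z a⁻¹ = a⁻¹
          rw [map_inv, show φ z a = a from ha] }
    let N : Subgroup (MulAut Eq') :=
      { carrier := {f | f * φ z = φ z * f}
        one_mem' := by simp
        mul_mem' := fun {a b} ha hb => by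
          show a * b * φ z = φ z * (a * b)
          rw [mul_assoc, show b * φ z = φ z * b from hb, ← mul_assoc, show a * φ z = φ z * a from ha, mul_assoc]
        inv_mem' := fun {a} ha => ((show Commute a (φ z) from ha).inv_left).eq }
    have hNC : ∀ f ∈ N, ∀ t ∈ Cz, f t ∈ Cz := fun f hf t ht => by
      show φ z (f t) = f t
      rw [← MulAut.mul_apply, ← hf, MulAut.mul_apply, show φ z t = t from ht]
    let B : Subgroup (MulAut Eq') :=
      { carrier := {f | f ∈ N ∧ ∀ t, f t * t⁻¹ ∈ Cz}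
        one_mem' := ⟨one_mem N, fun t => by simp⟩
        mul_mem' := fun {a b} ha hb => ⟨mul_mem ha.1 hb.1, fun t => by
          rw [MulAut.mul_apply, show a (b t) * t⁻¹ = a (b t * t⁻¹) * (a t * t⁻¹) by rw [map_mul, map_inv]; group]
          exact mul_mem (hNC a ha.1 _ (hb.2 t)) (ha.2 t)⟩
        inv_mem' := fun {a} ha => ⟨inv_mem ha.1, fun t => by
          rw [show a⁻¹ t * t⁻¹ = a⁻¹ (a t * t⁻¹)⁻¹ by
            rw [map_inv, map_mul, map_inv, ← MulAut.mul_apply, inv_mul_cancel, MulAut.one_apply]; group]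
          exact hNC _ (inv_mem ha.1) _ (inv_mem (ha.2 t))⟩ }
    have hsN : φ sw ∈ N := by
      show φ sw * φ z = φ z * φ sw
      rw [← map_mul, ← map_mul, hzs']
    have hsB : Sm ≤ B := by
      rw [hSm, MonoidHom.map_zpowers, Subgroup.zpowers_le]
      refine ⟨hsN, fun t => ?_⟩
      obtain ⟨_, y, hy, rfl⟩ := t
      have hy' := (hH.moved_sup_fixed hcs (hNorm _)).ge hy
      let G0 : Subgroup Eq' :=
        { carrier := {t | φ sw t * t⁻¹ ∈ Cz}
          one_mem' := by simp
          mul_mem' := fun {a b} ha hb => by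
            show φ sw (a * b) * (a * b)⁻¹ ∈ Cz
            rw [map_mul, mul_inv, mul_mul_mul_comm]
            exact mul_mem ha hb
          inv_mem' := fun {a} ha => by
            show φ sw a⁻¹ * a⁻¹⁻¹ ∈ Cz
            rw [map_inv, ← mul_inv]
            exact inv_mem ha }
      let G1 : Subgroup Γw :=
        { carrier := {w | ∃ hw : w ∈ E, (⟨mk w, Subgroup.mem_map_of_mem mk hw⟩ : Eq') ∈ G0}
          one_mem' := ⟨one_mem E, by
            convert one_mem G0 using 1
            exact Subtype.ext (map_one mk)⟩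
          mul_mem' := fun {a b} ⟨ha, ha'⟩ ⟨hb, hb'⟩ => ⟨mul_mem ha hb, by
            convert mul_mem ha' hb' using 1
            exact Subtype.ext (map_mul mk a b)⟩
          inv_mem' := fun {a} ⟨ha, ha'⟩ => ⟨inv_mem ha, by
            convert inv_mem ha' using 1
            exact Subtype.ext (map_inv mk a)⟩ }
      have hle : E1 ⊔ F1 ≤ G1 := by
        refine sup_le (fun w hw => ⟨hH.movedPart_le _ hw, ?_⟩) fun w hw => ⟨hw.1, ?_⟩
        · have hCz : ∀ u, ∀ hu : u ∈ E1, (⟨mk u, Subgroup.mem_map_of_mem mk (hH.movedPart_le _ hu)⟩ : Eq') ∈ Cz :=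
            fun u hu => Subtype.ext (by
              rw [hφap]
              show mk z * mk u * (mk z)⁻¹ = mk u
              rw [← map_inv, ← map_mul, ← map_mul, hmk]
              exact hfix u hu)
          refine mul_mem ?_ (inv_mem (hCz w hw))
          have hw' : sw * w * sw⁻¹ ∈ E1 := hnorm1.left sw (Subgroup.mem_zpowers sw) w hw
          convert hCz _ hw' using 1
          exact Subtype.ext (by rw [hφap]; simp)
        · show φ sw _ * _ ∈ Cz
          convert one_mem Cz using 1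
          rw [mul_inv_eq_one]
          refine Subtype.ext ?_
          rw [hφap]
          show mk sw * mk w * (mk sw)⁻¹ = mk w
          rw [← map_inv, ← map_mul, ← map_mul, hmk]
          exact hw.2 sw (Subgroup.mem_zpowers sw)
      exact (hle hy').2
    have hJN : Jm ≤ N := fun a ha => (hcen a ha).symm
    have hJB : Jm ≤ B := hJmc.trans (Subgroup.commutator_le.2 fun a ha g hg => by
      rw [commutatorElement_def]
      refine mul_mem ⟨mul_mem (mul_mem (hJN ha) (hsB hg).1) (inv_mem (hJN ha)), fun t => ?_⟩ (inv_mem (hsB hg))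
      rw [MulAut.mul_apply, MulAut.mul_apply,
        show a (g (a⁻¹ t)) * t⁻¹ = a (g (a⁻¹ t) * (a⁻¹ t)⁻¹) by
          rw [map_mul, map_inv, MulAut.apply_inv_self]]
      exact hNC a (hJN ha) _ ((hsB hg).2 _))
    refine MulEquiv.ext fun t => ?_
    set e := φ z t * t⁻¹ with he
    have hef : φ z e = e := (hJB (Subgroup.mem_map_of_mem φ hzJ)).2 t
    have hit : ∀ i : ℕ, (φ z ^ i) t = e ^ i * t := fun i => by
      induction i with
      | zero => simp
      | succ i ih =>
        rw [pow_succ', MulAut.mul_apply, ih, map_mul, map_pow, hef, pow_succ, mul_assoc]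
        congr 1
        rw [he, inv_mul_cancel_right]
    have h1 := hit (orderOf z)
    rw [← map_pow, pow_orderOf_eq_one, map_one, MulAut.one_apply, right_eq_mul] at h1
    have h2 : e ^ Nat.card E = 1 := by
      obtain ⟨y, hy, hye⟩ := e.2
      refine Subtype.ext ?_
      rw [Subgroup.coe_pow, Subgroup.coe_one, ← hye, ← map_pow,
        orderOf_dvd_iff_pow_eq_one.1 (Subgroup.orderOf_dvd_natCard E hy), map_one]
    have h3 := pow_gcd_eq_one.2 ⟨h1, h2⟩
    rw [(hJQ'.coprime_dvd_left hzo).gcd_eq_one, pow_one, he, mul_inv_eq_one] at h3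
    exact h3
  -- the image is abelian
  have hDJ : ∀ g ∈ ⁅J, J⁆, ∀ a ∈ Jm, φ g * a = a * φ g := by
    set D := ⁅J, J⁆ with hD
    have hDJle : D ≤ J := Subgroup.commutator_le_self J
    haveI : Nontrivial J := by
      obtain ⟨g, hg, hne⟩ := hJne
      exact ⟨⟨g, hg⟩, 1, fun e => hne (by rw [show g = 1 from congrArg Subtype.val e, map_one])⟩
    have hDlt : D < J := by
      refine lt_of_le_of_ne hDJle fun e => ?_
      have h1 := Group.IsSolvable.commutator_lt_top_of_nontrivial J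
      refine h1.ne (Subgroup.map_injective J.subtype_injective ?_)
      rw [Subgroup.map_subtype_commutator, ← MonoidHom.range_eq_map, Subgroup.range_subtype]
      exact e
    have hsD : sw ∈ Subgroup.normalizer (D : Set Γw) := by
      have := FitTwo.Cfg.le_normalizer_commutator_of (zpowers_le_normalizer hJn) (zpowers_le_normalizer hJn)
      exact this (Subgroup.mem_zpowers sw)
    set J1 := ⁅D, Subgroup.zpowers sw⁆ with hJ1
    have hJ1D : J1 ≤ D := Cfsg.Lib.Coprime.commutator_le_of_le_normalizer (zpowers_le_normalizer hsD)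
    have hJ1tr : ∀ g ∈ J1, φ g = 1 := by
      by_contra hcon
      push Not at hcon
      refine hJmin J1 ⟨(hJ1D.trans hDJle).trans hJle,
        Subgroup.normalizer_commutator_ge_right D _ (Subgroup.mem_zpowers sw), ?_, hcon⟩ (hJ1D.trans_lt hDlt)
      rw [hJ1, Cfsg.Lib.Coprime.commutator_commutator_eq (zpowers_le_normalizer hsD)
        (coprime_zpowers hr hswr (hrJ'.coprime_dvd_right (Subgroup.card_dvd_of_le hDJle)))
        (Or.inl (isSolvable_zpowers sw))]
    have hDS : ⁅D.map φ, Sm⁆ = ⊥ := by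
      rw [← Subgroup.map_commutator, eq_bot_iff]
      rintro _ ⟨g, hg, rfl⟩
      exact hJ1tr g hg
    have h2 : ⁅⁅Sm, D.map φ⁆, Jm⁆ = ⊥ := by
      rw [Subgroup.commutator_comm Sm, hDS, Subgroup.commutator_bot_left]
    have h3 : ⁅⁅D.map φ, Jm⁆, Sm⁆ = ⊥ := by
      refine le_bot_iff.1 ((Subgroup.commutator_mono ?_ le_rfl).trans hDS.le)
      rw [← Subgroup.map_commutator]
      refine Subgroup.map_mono (Subgroup.commutator_le.2 fun a ha b hb => ?_)
      exact Subgroup.commutator_mem_commutator (hDJle ha) hb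
    have h4 := Subgroup.commutator_commutator_eq_bot_of_rotate h2 h3
    intro g hg a ha
    have h5 : ⁅a, φ g⁆ ∈ ⁅⁅Jm, Sm⁆, D.map φ⁆ :=
      Subgroup.commutator_mem_commutator (hJmc ha) (Subgroup.mem_map_of_mem φ hg)
    rw [h4, Subgroup.mem_bot, commutatorElement_eq_one_iff_mul_comm] at h5
    exact h5.symm
  have hDfix : ∀ g ∈ ⁅J, J⁆, φ g = 1 := by
    intro g hg
    refine hZ1 g (Subgroup.commutator_le_self J hg) (hDJ g hg) ?_
    by_contra hne
    -- the displacements of the derived group are trivial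
    set J1 := ⁅⁅J, J⁆, Subgroup.zpowers sw⁆ with hJ1
    have hsD : sw ∈ Subgroup.normalizer ((⁅J, J⁆ : Subgroup Γw) : Set Γw) :=
      FitTwo.Cfg.le_normalizer_commutator_of (zpowers_le_normalizer hJn) (zpowers_le_normalizer hJn)
        (Subgroup.mem_zpowers sw)
    have hlt : J1 < J := by
      refine lt_of_le_of_lt (Cfsg.Lib.Coprime.commutator_le_of_le_normalizer (zpowers_le_normalizer hsD))
        (lt_of_le_of_ne (Subgroup.commutator_le_self J) fun e => hne ?_)
      have h1 := hDJ g hg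
      haveI : Nontrivial J := by
        obtain ⟨a, ha, hane⟩ := hJne
        exact ⟨⟨a, ha⟩, 1, fun e' => hane (by rw [show a = 1 from congrArg Subtype.val e', map_one])⟩
      exact absurd (Subgroup.map_injective J.subtype_injective (by
        rw [Subgroup.map_subtype_commutator, ← MonoidHom.range_eq_map, Subgroup.range_subtype]; exact e))
        (Group.IsSolvable.commutator_lt_top_of_nontrivial J).ne
    refine hne (commutatorElement_eq_one_iff_mul_comm.1 ?_).symm
    rw [← map_commutatorElement]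
    by_contra h5
    refine hJmin J1 ⟨hlt.le.trans hJle, Subgroup.normalizer_commutator_ge_right _ _ (Subgroup.mem_zpowers sw), ?_,
      _, Subgroup.commutator_mem_commutator hg (Subgroup.mem_zpowers sw), h5⟩ hlt
    rw [hJ1, Cfsg.Lib.Coprime.commutator_commutator_eq (zpowers_le_normalizer hsD)
      (coprime_zpowers hr hswr (hrJ'.coprime_dvd_right (Subgroup.card_dvd_of_le (Subgroup.commutator_le_self J))))
      (Or.inl (isSolvable_zpowers sw))]
  have hab : ∀ a ∈ J, ∀ b ∈ J, φ a * φ b = φ b * φ a := fun a ha b hb => by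
    rw [← commutatorElement_eq_one_iff_mul_comm, ← map_commutatorElement]
    exact hDfix _ (Subgroup.commutator_mem_commutator ha hb)
  have hCs : ∀ g ∈ J, sw * g = g * sw → φ g = 1 := fun g hg e => hZ1 g hg
    (fun a ha => by obtain ⟨b, hb, rfl⟩ := ha; exact hab g hg b hb)
    (by rw [← map_mul, ← map_mul, e])
  have hdT : Even (finrank (ZMod 2) (Additive Eq')) := by
    obtain ⟨M⟩ := exists_model hH
    refine even_of_pow_eq_sq (n := M.n) ?_
    rw [← M.card_eq, ← card_map_mk E R, ← Nat.card_congr (Additive.toMul (α := Eq')),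
      Module.natCard_eq_pow_finrank (K := ZMod 2), Nat.card_zmod]
  have hdC : Even (finrank (ZMod 2) (fixedVec φ J)) := by
    obtain ⟨M⟩ := exists_model (hH.heis_fixed hJQ' (hNorm J))
    set F2 := fixedPart hH.le hH.abel (hNorm J) with hF2
    refine even_of_pow_eq_sq (n := M.n) ?_
    rw [← M.card_eq, ← card_map_mk F2 R, ← hcardT (fixedVec φ J)]
    have hmem : ∀ (w : Γw) (hw : w ∈ E),
        (Additive.ofMul (⟨mk w, Subgroup.mem_map_of_mem mk hw⟩ : Eq') ∈ fixedVec φ J ↔ w ∈ F2) := by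
      intro w hw
      rw [mem_fixedVec]
      refine ⟨fun e => ⟨hw, fun a ha => ?_⟩, fun e a ha => Subtype.ext ?_⟩
      · have := congrArg Subtype.val (e a ha)
        rw [hφap] at this
        rw [← hmk, map_mul, map_mul, map_inv]
        exact this
      · rw [hφap]
        show mk a * mk w * (mk a)⁻¹ = mk w
        rw [← map_inv, ← map_mul, ← map_mul, hmk]
        exact e.2 a ha
    refine Nat.card_congr
      { toFun := fun v => ⟨(v.1.toMul : Eq'), ?_⟩
        invFun := fun u => ⟨Additive.ofMul ⟨u, Subgroup.map_mono (show F2 ≤ E from fun _ hw => hw.1) u.2⟩, ?_⟩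
        left_inv := fun v => rfl
        right_inv := fun u => rfl }
    · obtain ⟨⟨t, w, hw, rfl⟩, hv⟩ := v
      exact Subgroup.mem_map_of_mem mk ((hmem w hw).1 hv)
    · obtain ⟨t, w, hw, rfl⟩ := u
      exact (hmem w hw.1).2 hw
  obtain ⟨a, ha⟩ : ∃ a, r = 2 ^ a + 1 := by
    have hd : (r - 1) ∣ Nat.card E := by
      refine (dvd_pow_self _ two_ne_zero).trans ?_
      rw [← hcard1]
      exact (Subgroup.card_quotient_dvd_card _).trans (Subgroup.card_dvd_of_le (hH.movedPart_le _))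
    obtain ⟨e, he⟩ := IsPGroup.iff_card.1 hQ
    rw [hcardE, he, hq2] at hd
    obtain ⟨b, -, hb⟩ := (Nat.dvd_prime_pow Nat.prime_two).1 hd
    exact ⟨b, by have := hr.two_le; omega⟩
  have ha0 : 0 < a := Nat.pos_of_ne_zero fun e => by
    rw [e] at ha; norm_num at ha; rw [ha] at hrodd; exact absurd hrodd (by decide)
  -- the part moved by `s`
  let E1m : Submodule (ZMod 2) (Additive Eq') :=
    { carrier := {v | (v.toMul : Γw ⧸ R) ∈ E1.map mk}
      zero_mem' := one_mem (E1.map mk)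
      add_mem' := fun {v w} (hv : (v.toMul : Γw ⧸ R) ∈ E1.map mk) (hw : (w.toMul : Γw ⧸ R) ∈ E1.map mk) =>
        (E1.map mk).mul_mem hv hw
      smul_mem' := fun c v (hv : (v.toMul : Γw ⧸ R) ∈ E1.map mk) => by
        rw [← ZMod.natCast_zmod_val c, Nat.cast_smul_eq_nsmul]
        exact (E1.map mk).pow_mem hv c.val }
  have hE1m : finrank (ZMod 2) E1m = 2 * a := by
    have h2a : (2 : ℕ) ^ a = r - 1 := by rw [ha]; rfl
    have h1 : Nat.card E1m = 2 ^ (2 * a) := by
      rw [show 2 * a = a * 2 from mul_comm _ _, pow_mul, h2a, ← hcard1, ← card_map_mk E1 R]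
      exact Nat.card_congr
        { toFun := fun v => ⟨(v.1.toMul : Eq'), v.2⟩
          invFun := fun u => ⟨Additive.ofMul ⟨u, Subgroup.map_mono (hH.movedPart_le _) u.2⟩, u.2⟩
          left_inv := fun v => rfl
          right_inv := fun u => rfl }
    rw [hcardT] at h1
    exact Nat.pow_right_injective le_rfl h1
  refine false_of_small (AlgebraicClosure (ZMod 2)) φ hr ha ha0 hswr hJn hrJ' hJodd hab hCs hJne hE1m
    (fun v hv => ?_) (fun v => ?_) hdT hdC
  · show ((φ sw⁻¹ v.toMul : Eq') : Γw ⧸ R) ∈ E1.map mk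
    obtain ⟨w, hw, hwe⟩ := hv
    rw [hφap, ← hwe, ← map_inv, ← map_mul, ← map_mul]
    exact Subgroup.mem_map_of_mem mk (hnorm1.left _ (inv_mem (Subgroup.mem_zpowers sw)) w hw)
  · obtain ⟨⟨_, y, hy, rfl⟩, rfl⟩ : ∃ t, Additive.ofMul t = v := ⟨v.toMul, rfl⟩
    let G2 : Subgroup Γw :=
      { carrier := {w | w ∈ E ∧ ∃ w1 ∈ E1, ∃ w2 ∈ F1, mk w = mk (w1 * w2)}
        one_mem' := ⟨one_mem E, 1, one_mem _, 1, one_mem _, by simp⟩
        mul_mem' := fun {b c} ⟨hb, b1, hb1, b2, hb2, eb⟩ ⟨hc, c1, hc1, c2, hc2, ec⟩ =>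
          ⟨mul_mem hb hc, b1 * c1, mul_mem hb1 hc1, b2 * c2, mul_mem hb2 hc2, by
            rw [map_mul, eb, ec, ← map_mul, hmk]
            have h1 := hH.abel b2 hb2.1 c1 (hH.movedPart_le _ hc1)
            have h2 := hRn.conj_mem _ h1 b1
            rwa [show b1 * b2 * (c1 * c2) * (b1 * c1 * (b2 * c2))⁻¹ = b1 * ⁅b2, c1⁆ * b1⁻¹ by
              rw [commutatorElement_def]; group]⟩
        inv_mem' := fun {b} ⟨hb, b1, hb1, b2, hb2, eb⟩ => ⟨inv_mem hb, b1⁻¹, inv_mem hb1, b2⁻¹, inv_mem hb2, by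
            rw [map_inv, eb, ← map_inv, hmk]
            have h1 := hH.abel b2⁻¹ (inv_mem hb2.1) b1⁻¹ (inv_mem (hH.movedPart_le _ hb1))
            rwa [show (b1 * b2)⁻¹ * (b1⁻¹ * b2⁻¹)⁻¹ = ⁅b2⁻¹, b1⁻¹⁆ by rw [commutatorElement_def]; group]⟩ }
    have hle : E1 ⊔ F1 ≤ G2 := sup_le
      (fun w hw => ⟨hH.movedPart_le _ hw, w, hw, 1, one_mem _, by rw [mul_one]⟩)
      (fun w hw => ⟨hw.1, 1, one_mem _, w, hw, by rw [one_mul]⟩)
    obtain ⟨-, w1, hw1, w2, hw2, e⟩ := hle ((hH.moved_sup_fixed hcs (hNorm _)).ge hy)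
    refine ⟨Additive.ofMul ⟨mk w1, Subgroup.mem_map_of_mem mk (hH.movedPart_le _ hw1)⟩,
      Subgroup.mem_map_of_mem mk hw1, Additive.ofMul ⟨mk w2, Subgroup.mem_map_of_mem mk hw2.1⟩, ?_, ?_⟩
    · refine Subtype.ext ?_
      rw [hφap]
      show mk sw⁻¹ * mk w2 * (mk sw⁻¹)⁻¹ = mk w2
      rw [← map_inv, ← map_mul, ← map_mul, hmk]
      exact hw2.2 _ (inv_mem (Subgroup.mem_zpowers sw))
    · exact congrArg Additive.ofMul (Subtype.ext (e.trans (map_mul mk w1 w2)))

end Stab

end Cfsg.Lib.FitHeight
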