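import Cfsg.Agent.Lib.FitHeight.Steps

/-!
# Counting in the fixed points
-/

set_option autoImplicit false

namespace Cfsg.Lib.FitHeight

open Subgroup
open scoped commutatorElement

variable {Γ : Type*} [Group Γ] [Finite Γ] {s : Γ} {X K : ℕ → Subgroup Γ} {F : ℕ → Type*} [∀ l, Field (F l)]
  [∀ l, IsAlgClosed (F l)] {G : Subgroup Γ} {r n : ℕ} {p : ℕ → ℕ}

/-- No tower of height `n + 3` over fixed points of Fitting length `n`. -/
theorem Sys.no_tower (S : Sys s X K F G r (n + 2) p) (Fs : ℕ → Subgroup Γ) (h0 : Fs 0 = ⊥) (hmono : Monotone Fs)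
    (hn : ∀ x ∈ G, s * x = x * s → x ∈ Fs n)
    (hnorm : ∀ i, ∀ x ∈ G, s * x = x * s → x ∈ normalizer (Fs i : Set Γ))
    (hnil : ∀ i, ∃ k, (Fs (i + 1)).lowerCentralSeries k ≤ Fs i) : False := by
  have hfix : ∀ {l}, l ≤ n + 2 → ∀ {x}, x ∈ fixs s (X l) → x ∈ G ∧ s * x = x * s := fun hl x hx =>
    ⟨S.T.le _ hl (mem_fixs.1 hx).1, (mem_fixs.1 hx).2⟩
  -- commutators with a subgroup of a term lie in the term
  have hin : ∀ (t : ℕ) (D E : Subgroup Γ), (∀ x ∈ D, x ∈ G ∧ s * x = x * s) → E ≤ Fs t → ⁅D, E⁆ ≤ Fs t :=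
    fun t D E hD hE => commutator_le.2 fun a ha b hb => by
      rw [commutatorElement_def]
      exact mul_mem (conj_mem (hnorm t a (hD a ha).1 (hD a ha).2) (hE hb)) (inv_mem (hE hb))
  -- reproducing commutators descend
  have hdrop : ∀ (t : ℕ) (D E : Subgroup Γ), (∀ x ∈ D, x ∈ G ∧ s * x = x * s) → E ≤ Fs t → D ≤ ⁅D, E⁆ →
      D ≤ Fs (t - 1) := by
    intro t D E hD hE hDE
    cases t with
    | zero => exact hDE.trans (hin 0 D E hD hE)
    | succ t =>
      obtain ⟨k, hk⟩ := hnil t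
      refine le_trans ?_ hk
      clear hk
      induction k with
      | zero => exact hDE.trans (hin _ D E hD hE)
      | succ k ih =>
        rw [Subgroup.lowerCentralSeries_succ]
        exact hDE.trans (commutator_mono ih hE)
  have hcomm : ∀ {l j}, l ≤ n + 2 → j < l → ∀ D : Subgroup Γ, D ≤ X j → (∀ x ∈ D, s * x = x * s) →
      D ≤ normalizer (fixs s (X l) : Set Γ) ∧ ⁅fixs s (X l), D⁆ ≤ fixs s (X l) := by
    intro l j hl hj D hD hsD
    have h1 : D ≤ normalizer (fixs s (X l) : Set Γ) := fun g hg => mem_normalizer_of_conj fun x hx => by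
      obtain ⟨hx1, hx2⟩ := mem_fixs.1 hx
      refine mem_fixs.2 ⟨conj_mem (S.T.norm l hl j hj (hD hg)) hx1, ?_⟩
      exact (((show Commute s g from hsD g hg).mul_right hx2).mul_right
        (show Commute s g from hsD g hg).inv_right).eq
    exact ⟨h1, Cfsg.Lib.Coprime.commutator_le_of_le_normalizer h1⟩
  have hprop : ∀ d l, 1 ≤ l → l + d = n + 1 → ∀ D : Subgroup Γ, D ≤ fixs s (X l) → D ≤ Fs (n + 2 - l) →
      ¬ Live s X K F l D := by
    intro d
    induction d with
    | zero | succ d ih => ?_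
    all_goals
      intro l hl hld D hD hb hlive
      obtain ⟨y, hy, f, hf, hmov⟩ := hlive
      have hl2 : l + 1 ≤ n + 2 := by omega
      obtain ⟨hyl, hsy⟩ := mem_fixs.1 (hD hy)
      obtain ⟨hnD, hle⟩ := hcomm hl2 (Nat.lt_succ_self l) D (hD.trans inf_le_left) fun x hx => (mem_fixs.1 (hD hx)).2
      set E := ⁅fixs s (X (l + 1)), D⁆ with hE
      have hEE : E ≤ ⁅E, D⁆ := (Cfsg.Lib.Coprime.commutator_commutator_eq hnD
        (((S.T.coprime (show l < n + 2 by omega)).coprime_dvd_left (card_dvd_of_le (hD.trans inf_le_left))).coprime_dvd_right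
          (card_dvd_of_le inf_le_left))
        (Or.inr (Cfsg.Lib.Coprime.isSolvable_of_le (inf_le_left.trans (S.T.le _ hl2)) S.sol))).ge
      have hEb : E ≤ Fs (n + 2 - (l + 1)) := by
        rw [show n + 2 - (l + 1) = n + 2 - l - 1 by omega]
        exact hdrop _ E D (fun x hx => hfix hl2 (hle hx)) hb hEE
    case zero =>
      refine S.step_top hl2 le_rfl hyl hsy hy hf hmov (le_bot_iff.1 ?_)
      rw [show n + 2 - (l + 1) = 0 by omega, h0] at hEb
      exact hEb
    case succ =>
      exact ih (l + 1) (by omega) (by omega) E hle hEb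
        (S.step_live (by omega) le_rfl hyl hsy (Or.inr ⟨hl, rfl⟩) hy hf hmov)
  have hlowb : ∀ j ≤ n, (∀ i ≤ j, ∀ x ∈ X i, s * x = x * s) → X j ≤ Fs (n - j) := by
    intro j hj hlow
    induction j with
    | zero => exact fun x hx => hn x (S.T.le 0 (by omega) hx) (hlow 0 le_rfl x hx)
    | succ j ih =>
      rw [show n - (j + 1) = n - j - 1 by omega]
      exact hdrop _ _ _ (fun x hx => ⟨S.T.le _ (by omega) hx, hlow _ le_rfl x hx⟩)
        (ih (by omega) fun i hi => hlow i (by omega)) (S.T.gen j (by omega))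
  by_cases hall : ∀ i ≤ n, ∀ x ∈ X i, s * x = x * s
  · have h := hlowb n le_rfl hall
    rw [Nat.sub_self, h0, le_bot_iff] at h
    exact S.T.ne_bot (show n ≤ n + 2 by omega) h
  classical
  have hex : ∃ i, i ≤ n ∧ ∃ x ∈ X i, s * x ≠ x * s := by
    push Not at hall
    exact hall
  obtain ⟨hi, hmov⟩ := Nat.find_spec hex
  have hlow : ∀ j < Nat.find hex, ∀ x ∈ X j, s * x = x * s := fun j hj x hx => by
    by_contra h
    exact Nat.find_min hex hj ⟨by omega, x, hx, h⟩
  generalize Nat.find hex = i at hi hmov hlow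
  cases i with
  | zero =>
    obtain ⟨f, hf, hf0⟩ := S.bottom (by omega) hmov
    have hb : fixs s (X 2) ≤ Fs n := fun x hx => hn x (hfix (show 2 ≤ n + 2 by omega) hx).1 (mem_fixs.1 hx).2
    rcases Nat.eq_zero_or_pos n with rfl | hpos
    · rw [h0, le_bot_iff] at hb
      exact S.zero_top (show 1 + 1 ≤ 0 + 2 by omega) hf hf0 hb
    · exact hprop (n - 1) 2 (by omega) (by omega) _ le_rfl (hb.trans (hmono (by omega)))
        (S.zero_live (show 1 + 2 ≤ n + 2 by omega) hf hf0)
  | succ l =>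
    have hXl : ∀ x ∈ X l, x ∈ G ∧ s * x = x * s := fun x hx =>
      ⟨S.T.le l (by omega) hx, hlow l (Nat.lt_succ_self l) x hx⟩
    by_cases hX : Live s X K F (l + 1) (X l)
    · obtain ⟨y, hy, f, hf, hm⟩ := hX
      have hlive := S.step_live (show l + 1 + 2 ≤ n + 2 by omega) (Nat.le_succ l) hy (hXl y hy).2
        (Or.inl (S.T.coprime (by omega))) hy hf hm
      obtain ⟨-, hle⟩ := hcomm (show l + 2 ≤ n + 2 by omega) (show l < l + 2 by omega) (X l) le_rfl
        fun x hx => (hXl x hx).2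
      refine hprop (n - l - 1) (l + 2) (by omega) (by omega) _ hle ?_ hlive
      rw [show n + 2 - (l + 2) = n - l by omega]
      exact hin _ _ _ (fun x hx => hfix (by omega) hx) (hlowb l (by omega) fun i hi => hlow i (by omega))
    · have hlive := S.sign_live (show l + 2 ≤ n + 2 by omega) (fun j hj => hlow j (by omega)) hmov hX
      rcases Nat.eq_zero_or_pos l with rfl | hl
      · rw [if_pos rfl] at hlive
        refine hprop n 1 le_rfl (by omega) _ le_rfl (fun x hx => hmono (by omega) (hn x ?_ (mem_fixs.1 hx).2)) hlive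
        exact (hfix (show 1 ≤ n + 2 by omega) hx).1
      · rw [if_neg (by omega)] at hlive
        obtain ⟨-, hle⟩ := hcomm (show l + 1 ≤ n + 2 by omega) (show l - 1 < l + 1 by omega) (X (l - 1)) le_rfl
          fun x hx => hlow (l - 1) (by omega) x hx
        refine hprop (n - l) (l + 1) (by omega) (by omega) _ hle ?_ hlive
        rw [show n + 2 - (l + 1) = n - (l - 1) by omega]
        exact hin _ _ _ (fun x hx => hfix (by omega) hx) (hlowb (l - 1) (by omega) fun i hi => hlow i (by omega))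

end Cfsg.Lib.FitHeight
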