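import Cfsg.Agent.Lib.FitHeight.Heis
import Cfsg.Agent.Lib.FitTwo.Rep

/-!
# The components of a module for a group of class at most two
-/

set_option autoImplicit false

namespace Cfsg.Lib.FitHeight

open Module Cfsg.Lib.Local Cfsg.Lib.FitTwo
open scoped commutatorElement

variable {Γ : Type*} [Group Γ] [Finite Γ] {K : Type*} [Field K] {V : Type*} [AddCommGroup V] [Module K V]

/-- `Z` is central in `Q` and contains its commutators. -/
structure Cls (Q Z : Subgroup Γ) : Prop where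
  le : Z ≤ Q
  cent : ∀ z ∈ Z, ∀ x ∈ Q, z * x = x * z
  comm : ∀ x ∈ Q, ∀ y ∈ Q, ⁅x, y⁆ ∈ Z

variable {Q Z : Subgroup Γ} (h : Cls Q Z) (ρ : Γ →* End K V)

theorem Cls.comm_mul (h : Cls Q Z) {a b y : Γ} (ha : a ∈ Q) (hb : b ∈ Q) (hy : y ∈ Q) :
    ⁅a * b, y⁆ = ⁅a, y⁆ * ⁅b, y⁆ := by
  calc ⁅a * b, y⁆ = a * ⁅b, y⁆ * a⁻¹ * ⁅a, y⁆ := by simp only [commutatorElement_def]; group
    _ = ⁅b, y⁆ * ⁅a, y⁆ := by rw [← h.cent _ (h.comm b hb y hy) a ha, mul_inv_cancel_right]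
    _ = _ := (h.cent _ (h.comm a ha y hy) _ (h.le (h.comm b hb y hy))).symm

/-- The radical of the commutator form of a function on `Z`. -/
def rad (ω : Γ → K) : Subgroup Γ where
  carrier := {x | x ∈ Q ∧ ∀ y ∈ Q, ∀ w ∈ eigenOf ρ Z ω, ρ ⁅x, y⁆ w = w}
  one_mem' := ⟨one_mem _, fun y _ w _ => by rw [commutatorElement_one_left, map_one]; rfl⟩
  mul_mem' := fun {a b} ha hb => ⟨mul_mem ha.1 hb.1, fun y hy w hw => by
    rw [h.comm_mul ha.1 hb.1 hy, map_mul, End.mul_apply, hb.2 y hy w hw, ha.2 y hy w hw]⟩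
  inv_mem' := fun {a} ha => ⟨inv_mem ha.1, fun y hy w hw => by
    have h1 := h.comm_mul ha.1 (inv_mem ha.1) hy
    rw [mul_inv_cancel, commutatorElement_one_left] at h1
    rw [eq_inv_of_mul_eq_one_right h1.symm]
    conv_lhs => rw [← ha.2 y hy w hw]
    rw [← End.mul_apply, ← map_mul, inv_mul_cancel, map_one]; rfl⟩

theorem rad_le (ω : Γ → K) : rad h ρ ω ≤ Q := fun _ hx => hx.1

theorem le_rad (ω : Γ → K) : Z ≤ rad h ρ ω := fun z hz => ⟨h.le hz, fun y hy w _ => by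
  rw [commutatorElement_eq_one_iff_mul_comm.2 (h.cent z hz y hy), map_one]; rfl⟩

theorem eigenOf_congr {A : Subgroup Γ} {ω ω' : Γ → K} (e : ∀ a ∈ A, ω a = ω' a) :
    eigenOf ρ A ω = eigenOf ρ A ω' := by
  ext v
  simp only [mem_eigenOf]
  exact forall₂_congr fun a ha => by rw [e a ha]

theorem rad_congr {ω ω' : Γ → K} (e : ∀ z ∈ Z, ω z = ω' z) : rad h ρ ω = rad h ρ ω' := by
  ext x
  show (x ∈ Q ∧ _) ↔ (x ∈ Q ∧ _)
  rw [eigenOf_congr ρ e]

/-- The space of a component. -/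
noncomputable def cspace (ω : Γ → K) : Submodule K V := eigenOf ρ (rad h ρ ω) ω

/-- A component: an occurring function on its own radical. -/
structure Comp (ω : Γ → K) : Prop where
  occurs : cspace h ρ ω ≠ ⊥
  zero : ∀ x, x ∉ rad h ρ ω → ω x = 0

variable {h ρ} {ω : Γ → K}

theorem cspace_le_eigen (ω : Γ → K) : cspace h ρ ω ≤ eigenOf ρ Z ω := fun _ hv =>
  mem_eigenOf.2 fun z hz => mem_eigenOf.1 hv z (le_rad h ρ ω hz)

theorem apply_rad {v : V} (hv : v ∈ cspace h ρ ω) {x : Γ} (hx : x ∈ rad h ρ ω) : ρ x v = ω x • v :=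
  mem_eigenOf.1 hv x hx

theorem Comp.mem_rad_iff (hω : Comp h ρ ω) {x : Γ} :
    x ∈ rad h ρ ω ↔ x ∈ Q ∧ ∀ y ∈ Q, ω ⁅x, y⁆ = 1 := by
  refine and_congr_right fun hx => ⟨fun hh y hy => ?_, fun hh y hy w hw => ?_⟩
  · obtain ⟨v, hv, hv0⟩ := Submodule.exists_mem_ne_zero_of_ne_bot hω.occurs
    refine smul_left_injective K hv0 ?_
    simp only [one_smul]
    rw [← mem_eigenOf.1 (cspace_le_eigen ω hv) _ (h.comm x hx y hy), hh y hy v (cspace_le_eigen ω hv)]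
  · rw [mem_eigenOf.1 hw _ (h.comm x hx y hy), hh y hy, one_smul]

theorem Comp.mul (hω : Comp h ρ ω) {a b : Γ} (ha : a ∈ rad h ρ ω) (hb : b ∈ rad h ρ ω) :
    ω (a * b) = ω a * ω b := eigen_mul hω.occurs ha hb

theorem Comp.inv (hω : Comp h ρ ω) {a : Γ} (ha : a ∈ rad h ρ ω) : ω a⁻¹ = (ω a)⁻¹ := eigen_inv hω.occurs ha

theorem Comp.one (hω : Comp h ρ ω) : ω 1 = 1 := eigen_one hω.occurs

theorem Comp.ne_zero (hω : Comp h ρ ω) {a : Γ} (ha : a ∈ rad h ρ ω) : ω a ≠ 0 := eigen_ne_zero hω.occurs ha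

theorem Comp.conj (hω : Comp h ρ ω) {a x : Γ} (ha : a ∈ rad h ρ ω) (hx : x ∈ Q) :
    x * a * x⁻¹ ∈ rad h ρ ω ∧ ω (x * a * x⁻¹) = ω a := by
  have hz : ⁅x, a⁆ ∈ Z := h.comm x hx a (rad_le h ρ ω ha)
  have e : x * a * x⁻¹ = ⁅x, a⁆ * a := by rw [commutatorElement_def]; group
  refine ⟨e ▸ mul_mem (le_rad h ρ ω hz) ha, ?_⟩
  rw [e, hω.mul (le_rad h ρ ω hz) ha, ← commutatorElement_inv, hω.inv (le_rad h ρ ω (h.comm a (rad_le h ρ ω ha) x hx)),
    ((hω.mem_rad_iff).1 ha).2 x hx, inv_one, one_mul]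

theorem Comp.maps (hω : Comp h ρ ω) {x : Γ} (hx : x ∈ Q) {v : V} (hv : v ∈ cspace h ρ ω) :
    ρ x v ∈ cspace h ρ ω := by
  refine mem_eigenOf.2 fun a ha => ?_
  obtain ⟨h1, h2⟩ := hω.conj ha (inv_mem hx)
  rw [inv_inv] at h1 h2
  rw [← End.mul_apply, ← map_mul, show a * x = x * (x⁻¹ * a * x) by group, map_mul, End.mul_apply,
    apply_rad hv h1, map_smul, h2]

theorem Comp.eq_of_mem {ω' : Γ → K} (hω : Comp h ρ ω) (hω' : Comp h ρ ω') {v : V} (hv : v ∈ cspace h ρ ω)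
    (hv' : v ∈ cspace h ρ ω') (hv0 : v ≠ 0) : ω = ω' := by
  have hr : rad h ρ ω = rad h ρ ω' := rad_congr h ρ fun z hz => smul_left_injective K hv0 (by
    show ω z • v = ω' z • v
    rw [← apply_rad hv (le_rad h ρ ω hz), ← apply_rad hv' (le_rad h ρ ω' hz)])
  funext x
  by_cases hx : x ∈ rad h ρ ω
  · refine smul_left_injective K hv0 ?_
    show ω x • v = ω' x • v
    rw [← apply_rad hv hx, ← apply_rad hv' (hr ▸ hx)]
  · rw [hω.zero x hx, hω'.zero x (hr ▸ hx)]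

section Average

/-- The averaged operator of a function on a subgroup. -/
noncomputable def eavg (ρ : Γ →* End K V) (A : Subgroup Γ) (f : Γ → K) : End K V :=
  letI := Fintype.ofFinite A
  (Nat.card A : K)⁻¹ • ∑ a : A, (f (a : Γ))⁻¹ • ρ (a : Γ)

theorem eavg_mem {A : Subgroup Γ} {f : Γ → K} (hm : ∀ a ∈ A, ∀ b ∈ A, f (a * b) = f a * f b)
    (hne : ∀ a ∈ A, f a ≠ 0) (v : V) : eavg ρ A f v ∈ eigenOf ρ A f := by
  letI := Fintype.ofFinite A
  refine mem_eigenOf.2 fun b hb => ?_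
  simp only [eavg, LinearMap.smul_apply, map_smul, LinearMap.sum_apply, map_sum]
  rw [smul_comm (f b)]
  congr 1
  rw [Finset.smul_sum]
  refine Fintype.sum_equiv (Equiv.mulLeft (⟨b, hb⟩ : A)) _ _ fun a => ?_
  simp only [Equiv.coe_mulLeft, Subgroup.coe_mul, map_mul, End.mul_apply, smul_smul]
  congr 1
  rw [hm b hb a a.2, mul_inv, ← mul_assoc, mul_inv_cancel₀ (hne b hb), one_mul]

theorem eavg_apply {A : Subgroup Γ} {f : Γ → K} (hA : (Nat.card A : K) ≠ 0) (hne : ∀ a ∈ A, f a ≠ 0) {v : V}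
    (hv : v ∈ eigenOf ρ A f) : eavg ρ A f v = v := by
  letI := Fintype.ofFinite A
  simp only [eavg, LinearMap.smul_apply, LinearMap.sum_apply]
  rw [Finset.sum_congr rfl fun (a : A) _ => show (f (a : Γ))⁻¹ • ρ (a : Γ) v = v by
    rw [mem_eigenOf.1 hv a a.2, smul_smul, inv_mul_cancel₀ (hne a a.2), one_smul]]
  rw [Finset.sum_const, Finset.card_univ, ← Nat.card_eq_fintype_card, ← Nat.cast_smul_eq_nsmul K, smul_smul,
    inv_mul_cancel₀ hA, one_smul]

theorem eavg_kill {A : Subgroup Γ} {f : Γ → K} (hm : ∀ a ∈ A, ∀ b ∈ A, f (a * b) = f a * f b)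
    (hne : ∀ a ∈ A, f a ≠ 0) {v : V} {b : Γ} (hb : b ∈ A) {c : K} (hv : ρ b v = c • v) (hc : c ≠ f b) :
    eavg ρ A f v = 0 := by
  letI := Fintype.ofFinite A
  have h1 : eavg ρ A f (ρ b v) = f b • eavg ρ A f v := by
    simp only [eavg, LinearMap.smul_apply, LinearMap.sum_apply]
    rw [smul_comm (f b)]
    congr 1
    rw [Finset.smul_sum]
    refine Fintype.sum_equiv (Equiv.mulRight (⟨b, hb⟩ : A)) _ _ fun a => ?_
    simp only [Equiv.coe_mulRight, Subgroup.coe_mul, map_mul, End.mul_apply, smul_smul]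
    congr 1
    rw [hm a a.2 b hb, mul_inv, mul_comm (f (a : Γ))⁻¹, ← mul_assoc, mul_inv_cancel₀ (hne b hb), one_mul]
  rw [hv, map_smul] at h1
  have h2 : (c - f b) • eavg ρ A f v = 0 := by rw [sub_smul, h1, sub_self]
  exact (smul_eq_zero.1 h2).resolve_left (sub_ne_zero.2 hc)

theorem cast_card_ne_zero {A B : Subgroup Γ} (hAB : A ≤ B) (hB : (Nat.card B : K) ≠ 0) :
    (Nat.card A : K) ≠ 0 := fun e => hB (by
  obtain ⟨m, hm⟩ := Subgroup.card_dvd_of_le hAB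
  rw [hm, Nat.cast_mul, e, zero_mul])

variable (h ρ) in
/-- The projection to a component. -/
noncomputable def cproj (ω : Γ → K) : End K V := eavg ρ (rad h ρ ω) ω

theorem Comp.cproj_mem (hω : Comp h ρ ω) (v : V) : cproj h ρ ω v ∈ cspace h ρ ω :=
  eavg_mem (fun _ ha _ hb => hω.mul ha hb) (fun _ ha => hω.ne_zero ha) v

theorem Comp.cproj_apply (hω : Comp h ρ ω) (hQ : (Nat.card Q : K) ≠ 0) {v : V} (hv : v ∈ cspace h ρ ω) :
    cproj h ρ ω v = v :=
  eavg_apply (cast_card_ne_zero (rad_le h ρ ω) hQ) (fun _ ha => hω.ne_zero ha) hv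

theorem Comp.cproj_kill {ω' : Γ → K} (hω : Comp h ρ ω) (hω' : Comp h ρ ω') (hne : ω ≠ ω') {v : V}
    (hv : v ∈ cspace h ρ ω') : cproj h ρ ω v = 0 := by
  by_cases hz : ∀ z ∈ Z, ω z = ω' z
  · obtain ⟨x, hx⟩ := Function.ne_iff.1 hne
    have hr := rad_congr h ρ hz
    have hxr : x ∈ rad h ρ ω := by
      by_contra hxr
      exact hx (by rw [hω.zero x hxr, hω'.zero x (hr ▸ hxr)])
    exact eavg_kill (fun _ ha _ hb => hω.mul ha hb) (fun _ ha => hω.ne_zero ha) hxr (apply_rad hv (hr ▸ hxr))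
      (Ne.symm hx)
  · push Not at hz
    obtain ⟨z, hz1, hz2⟩ := hz
    exact eavg_kill (fun _ ha _ hb => hω.mul ha hb) (fun _ ha => hω.ne_zero ha) (le_rad h ρ ω hz1)
      (apply_rad hv (le_rad h ρ ω' hz1)) (Ne.symm hz2)

theorem Comp.cproj_comm (hω : Comp h ρ ω) {x : Γ} (hx : x ∈ Q) (v : V) :
    cproj h ρ ω (ρ x v) = ρ x (cproj h ρ ω v) := by
  letI := Fintype.ofFinite (rad h ρ ω)
  simp only [cproj, eavg, LinearMap.smul_apply, LinearMap.sum_apply, map_smul, map_sum]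
  congr 1
  let φ : rad h ρ ω ≃ rad h ρ ω :=
    { toFun := fun a => ⟨x⁻¹ * a * x, by simpa using (hω.conj a.2 (inv_mem hx)).1⟩
      invFun := fun a => ⟨x * a * x⁻¹, (hω.conj a.2 hx).1⟩
      left_inv := fun a => Subtype.ext (by group)
      right_inv := fun a => Subtype.ext (by group) }
  refine Fintype.sum_equiv φ _ _ fun a => ?_
  show _ = (ω (x⁻¹ * (a : Γ) * x))⁻¹ • ρ x (ρ (x⁻¹ * (a : Γ) * x) v)
  have h2 := (hω.conj a.2 (inv_mem hx)).2
  rw [inv_inv] at h2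
  rw [h2]
  congr 1
  rw [← End.mul_apply, ← map_mul, ← End.mul_apply, ← map_mul]
  congr 2
  group

variable [IsAlgClosed K] [FiniteDimensional K V]

/-- Every nonzero invariant subspace meets a component. -/
theorem exists_comp (h : Cls Q Z) (ρ : Γ →* End K V) {U : Submodule K V} (hU : U ≠ ⊥)
    (hinv : ∀ x ∈ Q, ∀ v ∈ U, ρ x v ∈ U) : ∃ ω, Comp h ρ ω ∧ ∃ v ∈ U, v ≠ 0 ∧ v ∈ cspace h ρ ω := by
  classical
  obtain ⟨ζ, v0, hv0U, hv00, hv0⟩ := exists_common_eigenvector ρ Z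
    (fun a ha b hb => h.cent a ha b (h.le hb)) U hU (fun a ha => hinv a (h.le ha))
  obtain ⟨U', ⟨hU1, hU2, hU3⟩, hmin⟩ := wellFounded_lt.has_min
    {U' : Submodule K V | U' ≤ U ⊓ eigenOf ρ Z ζ ∧ U' ≠ ⊥ ∧ ∀ c ∈ rad h ρ ζ, ∀ v ∈ U', ρ c v ∈ U'}
    ⟨U ⊓ eigenOf ρ Z ζ, le_rfl, fun e => hv00 ((Submodule.eq_bot_iff _).1 e v0 ⟨hv0U, hv0⟩),
      fun c hc v hv => ⟨hinv c hc.1 v hv.1, mem_eigenOf.2 fun z hz => by
        rw [← End.mul_apply, ← map_mul, h.cent z hz c hc.1, map_mul, End.mul_apply, mem_eigenOf.1 hv.2 z hz,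
          map_smul]⟩⟩
  haveI : Nontrivial U' := Submodule.nontrivial_iff_ne_bot.2 hU2
  have hscal : ∀ c : rad h ρ ζ, ∃ a : K, ∀ v ∈ U', ρ (c : Γ) v = a • v := by
    intro c
    obtain ⟨a, ha⟩ := Module.End.exists_eigenvalue ((ρ (c : Γ)).restrict (hU3 c c.2))
    obtain ⟨w, hw⟩ := ha.exists_hasEigenvector
    refine ⟨a, fun v hv => ?_⟩
    have hweq : ρ (c : Γ) (w : V) = a • (w : V) := congrArg Subtype.val hw.apply_eq_smul
    let U'' : Submodule K V := U' ⊓ LinearMap.ker (ρ (c : Γ) - a • (1 : End K V))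
    have hne : U'' ≠ ⊥ := fun e => hw.2 (Subtype.ext ((Submodule.eq_bot_iff _).1 e (w : V)
      ⟨w.2, by simp [LinearMap.mem_ker, hweq]⟩))
    have heq : U'' = U' := eq_of_le_of_not_lt inf_le_left (hmin _ ⟨inf_le_left.trans hU1, hne,
      fun d hd u hu => ⟨hU3 d hd u hu.1, by
        have h2 : ρ (c : Γ) u = a • u := by simpa [LinearMap.mem_ker, sub_eq_zero] using hu.2
        have h3 : ρ ((c : Γ) * d) u = ρ (d * c) u := by
          have hdu := hU3 d hd u hu.1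
          have hcu := hU3 c c.2 u hu.1
          have hdc := (hU1 (hU3 d hd _ hcu)).2
          rw [show (c : Γ) * d = ⁅(c : Γ), d⁆ * (d * c) by rw [commutatorElement_def]; group,
            map_mul ρ ⁅(c : Γ), d⁆, End.mul_apply, map_mul, End.mul_apply,
            c.2.2 d hd.1 _ hdc]
        simp only [SetLike.mem_coe, LinearMap.mem_ker, LinearMap.sub_apply, LinearMap.smul_apply,
          End.one_apply, sub_eq_zero]
        rw [← End.mul_apply, ← map_mul, h3, map_mul, End.mul_apply, h2, map_smul]⟩⟩)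
    simpa [LinearMap.mem_ker, sub_eq_zero] using (heq.ge hv).2
  choose a ha using hscal
  obtain ⟨v, hv, hvne⟩ := Submodule.exists_mem_ne_zero_of_ne_bot hU2
  let ω : Γ → K := fun c => if hc : c ∈ rad h ρ ζ then a ⟨c, hc⟩ else 0
  have hωζ : ∀ z ∈ Z, ω z = ζ z := fun z hz => smul_left_injective K hvne (by
    show ω z • v = ζ z • v
    rw [show ω z = a ⟨z, le_rad h ρ ζ hz⟩ from dif_pos (le_rad h ρ ζ hz), ← ha ⟨z, le_rad h ρ ζ hz⟩ v hv,
      ← mem_eigenOf.1 (hU1 hv).2 z hz])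
  have hr := rad_congr h ρ hωζ
  have hvω : v ∈ cspace h ρ ω := mem_eigenOf.2 fun c hc => by
    rw [hr] at hc
    rw [show ω c = a ⟨c, hc⟩ from dif_pos hc]
    exact ha ⟨c, hc⟩ v hv
  exact ⟨ω, ⟨fun e => hvne ((Submodule.eq_bot_iff _).1 e v hvω), fun x hx => dif_neg (hr ▸ hx)⟩,
    v, (hU1 hv).1, hvne, hvω⟩

/-- A vector killed by every projection is zero. -/
theorem eq_zero_of_cproj (h : Cls Q Z) (ρ : Γ →* End K V) (hQ : (Nat.card Q : K) ≠ 0) {v : V}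
    (hv : ∀ ω, Comp h ρ ω → cproj h ρ ω v = 0) : v = 0 := by
  by_contra hne
  let U : Submodule K V := ⨅ ω : {ω // Comp h ρ ω}, LinearMap.ker (cproj h ρ ω.1)
  have hU : U ≠ ⊥ := fun e => hne ((Submodule.eq_bot_iff _).1 e v
    (Submodule.mem_iInf _ |>.2 fun ω => LinearMap.mem_ker.2 (hv ω.1 ω.2)))
  obtain ⟨ω, hω, w, hwU, hw0, hw⟩ := exists_comp h ρ hU fun x hx u hu => (Submodule.mem_iInf _).2 fun ω => by
    rw [LinearMap.mem_ker, ω.2.cproj_comm hx, LinearMap.mem_ker.1 ((Submodule.mem_iInf _).1 hu ω), map_zero]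
  exact hw0 (by rw [← hω.cproj_apply hQ hw]; exact LinearMap.mem_ker.1 ((Submodule.mem_iInf _).1 hwU ⟨ω, hω⟩))

/-- An element of `Q` fixing every component acts trivially. -/
theorem eq_one_of_comp (h : Cls Q Z) (ρ : Γ →* End K V) (hQ : (Nat.card Q : K) ≠ 0) {x : Γ} (hx : x ∈ Q)
    (hfix : ∀ ω, Comp h ρ ω → ∀ v ∈ cspace h ρ ω, ρ x v = v) : ρ x = 1 := by
  refine LinearMap.ext fun v => sub_eq_zero.1 (eq_zero_of_cproj h ρ hQ fun ω hω => ?_)
  rw [map_sub, hω.cproj_comm hx, hfix ω hω _ (hω.cproj_mem v), End.one_apply, sub_self]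

end Average

section Translate

variable {g : Γ}

theorem translate_mem_iff (hgQ : g ∈ Subgroup.normalizer (Q : Set Γ))
    (hgZ : g ∈ Subgroup.normalizer (Z : Set Γ)) (ω : Γ → K) {x : Γ} :
    x ∈ rad h ρ (translate g ω) ↔ g⁻¹ * x * g ∈ rad h ρ ω := by
  have hev : ∀ w, w ∈ eigenOf ρ Z (translate g ω) ↔ ρ g⁻¹ w ∈ eigenOf ρ Z ω := by
    intro w
    simp only [mem_eigenOf]
    constructor
    · intro hw a ha
      have h1 : g * a * g⁻¹ ∈ Z := (Subgroup.mem_normalizer_iff.1 hgZ a).1 ha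
      rw [← End.mul_apply, ← map_mul, show a * g⁻¹ = g⁻¹ * (g * a * g⁻¹) by group, map_mul, End.mul_apply,
        hw _ h1, map_smul]
      congr 1
      show ω (g⁻¹ * (g * a * g⁻¹) * g) = ω a
      congr 1; group
    · intro hw a ha
      have h1 : g⁻¹ * a * g ∈ Z := (Subgroup.mem_normalizer_iff.1 hgZ _).2 (by simpa [mul_assoc] using ha)
      have h2 := congrArg (ρ g) (hw _ h1)
      simp only [map_smul, ← End.mul_apply, ← map_mul] at h2
      rw [show g * (g⁻¹ * a * g * g⁻¹) = a by group, mul_inv_cancel, map_one, End.one_apply] at h2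
      exact h2
  constructor
  · rintro ⟨hx, hh⟩
    refine ⟨(Subgroup.mem_normalizer_iff.1 hgQ _).2 (by simpa [mul_assoc] using hx), fun y hy w hw => ?_⟩
    have hgy : g * y * g⁻¹ ∈ Q := (Subgroup.mem_normalizer_iff.1 hgQ y).1 hy
    have h1 := hh _ hgy (ρ g w) ((hev _).2 (by
      rw [← End.mul_apply, ← map_mul, inv_mul_cancel, map_one]; exact hw))
    have h2 := congrArg (ρ g⁻¹) h1
    rw [← End.mul_apply, ← map_mul, ← End.mul_apply, ← map_mul, ← End.mul_apply, ← map_mul, inv_mul_cancel,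
      map_one, End.one_apply, commutatorElement_def] at h2
    rw [commutatorElement_def]
    convert h2 using 3
    group
  · rintro ⟨hx, hh⟩
    refine ⟨by simpa [mul_assoc] using (Subgroup.mem_normalizer_iff.1 hgQ _).1 hx, fun y hy w hw => ?_⟩
    have hgy : g⁻¹ * y * g ∈ Q := (Subgroup.mem_normalizer_iff.1 hgQ _).2 (by simpa [mul_assoc] using hy)
    have h1 := congrArg (ρ g) (hh _ hgy _ ((hev w).1 hw))
    rw [← End.mul_apply, ← map_mul, ← End.mul_apply, ← map_mul, ← End.mul_apply, ← map_mul, mul_inv_cancel,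
      map_one, End.one_apply, commutatorElement_def] at h1
    rw [commutatorElement_def]
    convert h1 using 3
    group

theorem map_cspace (hgQ : g ∈ Subgroup.normalizer (Q : Set Γ)) (hgZ : g ∈ Subgroup.normalizer (Z : Set Γ))
    {v : V} (hv : v ∈ cspace h ρ ω) : ρ g v ∈ cspace h ρ (translate g ω) := by
  refine mem_eigenOf.2 fun a ha => ?_
  rw [← End.mul_apply, ← map_mul, show a * g = g * (g⁻¹ * a * g) by group, map_mul, End.mul_apply,
    apply_rad hv ((translate_mem_iff hgQ hgZ ω).1 ha), map_smul]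
  rfl

theorem Comp.translate (hω : Comp h ρ ω) (hgQ : g ∈ Subgroup.normalizer (Q : Set Γ))
    (hgZ : g ∈ Subgroup.normalizer (Z : Set Γ)) : Comp h ρ (translate g ω) := by
  obtain ⟨v, hv, hv0⟩ := Submodule.exists_mem_ne_zero_of_ne_bot hω.occurs
  exact ⟨fun e => rho_apply_ne ρ g hv0 ((Submodule.eq_bot_iff _).1 e _ (map_cspace hgQ hgZ hv)),
    fun x hx => hω.zero _ (mt (translate_mem_iff hgQ hgZ ω).2 hx)⟩

end Translate

end Cfsg.Lib.FitHeight
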