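import Cfsg.Agent.Lib.FitHeight.Orbit

/-!
# Vectors with fixed traces
-/

set_option autoImplicit false

namespace Cfsg.Lib.FitHeight

open Module Cfsg.Lib.Local
open scoped commutatorElement

variable {G : Type*} [Group G] [Finite G] {K : Type*} [Field K] {W : Type*} [AddCommGroup W] [Module K W]
  (π : G →* End K W) {R B : Subgroup G} {s : G} {r : ℕ}

omit [Finite G] in
theorem pi_pow_fixed {v : W} (hv : π s v = v) (i : ℕ) : π (s ^ i) v = v := by
  induction i with
  | zero => simp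
  | succ i ih => rw [pow_succ', map_mul, End.mul_apply, ih, hv]

omit [Finite G] in
theorem trOf_fixed {v : W} (hv : π s v = v) : trOf π s r v = (r : K) • v := by
  rw [trOf_apply, Finset.sum_congr rfl fun i _ => pi_pow_fixed π hv i, Finset.sum_const, Finset.card_range,
    ← Nat.cast_smul_eq_nsmul K]

omit [Finite G] in
theorem pi_conj_fixed {v : W} (hv : π s v = v) (i : ℕ) (g : G) :
    π (s ^ i) (π g v) = π (s ^ i * g * (s ^ i)⁻¹) v := by
  conv_rhs => rw [← pi_pow_fixed π hv i]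
  rw [← End.mul_apply, ← map_mul, ← End.mul_apply, ← map_mul, inv_mul_cancel_right]

omit [Finite G] in
/-- The product of two traces. -/
theorem trOf_mul {v : W} (hv : π s v = v) (g k : G) :
    trOf π s r (π g (trOf π s r (π k v))) =
      ∑ j ∈ Finset.range r, trOf π s r (π (g * (s ^ j * k * (s ^ j)⁻¹)) v) := by
  rw [trOf_apply π s r (π k v), map_sum, map_sum]
  refine Finset.sum_congr rfl fun j _ => ?_
  rw [pi_conj_fixed π hv, ← End.mul_apply (π g), ← map_mul]

section Fixed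

variable (hr : r.Prime) (hrK : (r : K) ≠ 0) (hsr : s ^ r = 1) (hsR : s ∈ Subgroup.normalizer (R : Set G))
  (hsB : s ∈ Subgroup.normalizer (B : Set G)) (hfp : ∀ k ∈ R, ∀ j, 0 < j → j < r →
    k⁻¹ * (s ^ j * k * (s ^ j)⁻¹) ∈ B → k ∈ B)
include hr hrK hsr hsR hsB hfp

omit [Finite G] hrK in
theorem conj_diff {k : G} (hk : k ∈ R) (hkB : k ∉ B) {i j : ℕ} (hi : i < r) (hj : j < r)
    (h : (s ^ i * k * (s ^ i)⁻¹)⁻¹ * (s ^ j * k * (s ^ j)⁻¹) ∈ B) : i = j := by
  by_contra hne
  rcases lt_or_gt_of_ne hne with hlt | hlt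
  · refine hkB (hfp k hk (j - i) (by omega) (by omega) ?_)
    have h1 := (Subgroup.mem_normalizer_iff.1 (inv_mem (pow_mem hsB i)) _).1 h
    rw [show j = i + (j - i) by omega, pow_add] at h1
    convert h1 using 1
    group
  · refine hkB (hfp k hk (i - j) (by omega) (by omega) (inv_mem_iff.1 ?_))
    have h1 := inv_mem ((Subgroup.mem_normalizer_iff.1 (inv_mem (pow_mem hsB j)) _).1 (inv_mem h))
    rw [show i = j + (i - j) by omega, pow_add] at h1
    convert h1 using 1
    group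

omit [Finite G] in
/-- A fixed vector with vanishing traces off `B` vanishes. -/
theorem core_zero {v : W} (hv : π s v = v) (hne : ∃ k ∈ R, k ∉ B)
    (h0 : ∀ k ∈ R, k ∉ B → trOf π s r (π k v) = 0) : v = 0 := by
  obtain ⟨k, hk, hkB⟩ := hne
  have h1 := trOf_mul π (r := r) hv k⁻¹ k
  rw [h0 k hk hkB, map_zero, map_zero, Finset.sum_eq_single 0] at h1
  · rw [show k⁻¹ * (s ^ 0 * k * (s ^ 0)⁻¹) = 1 by simp, map_one, End.one_apply, trOf_fixed π hv] at h1
    exact (smul_eq_zero.1 h1.symm).resolve_left hrK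
  · intro j hj hj0
    refine h0 _ (mul_mem (inv_mem hk) ((Subgroup.mem_normalizer_iff.1 (pow_mem hsR j) k).1 hk)) fun hh => ?_
    exact hkB (hfp k hk j (Nat.pos_of_ne_zero hj0) (Finset.mem_range.1 hj) hh)
  · exact fun h' => absurd (Finset.mem_range.2 hr.pos) h'

/-- An element fixing the traces off `B` of an eigenvector of `B` fixes the vector. -/
theorem core_fixed {y : G} (hsy : s * y = y * s) (hyR : y ∈ Subgroup.normalizer (R : Set G))
    (hBR : B ≤ R) (hyr : (orderOf y).Coprime r) {v : W} (hv : π s v = v)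
    (hB : ∀ b ∈ B, ∃ x : K, π b v = x • v)
    (hfix : ∀ k ∈ R, k ∉ B → π y (trOf π s r (π k v)) = trOf π s r (π k v)) (hne : ∃ k ∈ R, k ∉ B)
    (hopt : (orderOf y).Coprime (Nat.card R) ∨ ∀ k ∈ R, ∀ m ∈ R,
      π (m⁻¹ * ((y * k * y⁻¹)⁻¹ * k) * m) v = π ((y * k * y⁻¹)⁻¹ * k) v) :
    π y v = v := by
  classical
  set H : Submodule K W := Submodule.span K {x | ∃ k ∈ R, k ∉ B ∧ x = trOf π s r (π k v)} with hH
  have hHfix : ∀ x ∈ H, π y x = x := by
    intro x hx
    induction hx using Submodule.span_induction with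
    | mem x hx => obtain ⟨k, hk, hkB, rfl⟩ := hx; exact hfix k hk hkB
    | zero => simp
    | add x z _ _ hx hz => rw [map_add, hx, hz]
    | smul c x _ hx => rw [map_smul, hx]
  by_cases hvH : v ∈ H
  · exact hHfix v hvH
  have hv0 : v ≠ 0 := fun e => hvH (e ▸ H.zero_mem)
  choose χ hχ using hB
  have hscj : ∀ {k : G}, k ∈ R → ∀ j : ℕ, s ^ j * k * (s ^ j)⁻¹ ∈ R := fun hk j =>
    (Subgroup.mem_normalizer_iff.1 (pow_mem hsR j) _).1 hk
  have hyj : ∀ (j : ℕ) (k : G), y * (s ^ j * k * (s ^ j)⁻¹) * y⁻¹ = s ^ j * (y * k * y⁻¹) * (s ^ j)⁻¹ :=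
    fun j k => by
      have e : y * s ^ j = s ^ j * y := ((show Commute s y from hsy).pow_left j).eq.symm
      calc y * (s ^ j * k * (s ^ j)⁻¹) * y⁻¹ = y * s ^ j * k * (y * s ^ j)⁻¹ := by group
        _ = _ := by rw [e]; group
  -- the trace of an element of `B`
  have htrB : ∀ {b : G} (hb : b ∈ B), trOf π s r (π b v) = (r : K) • π b v := fun {b} hb => by
    refine trOf_fixed π ?_
    rw [hχ b hb, map_smul, hv]
  have hgood : ∀ {g : G}, g ∈ R → g ∉ B → trOf π s r (π g v) ∈ H := fun {g} hg hgB =>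
    Submodule.subset_span ⟨g, hg, hgB, rfl⟩
  -- the image of the product of traces
  have hprod : ∀ k, π y (trOf π s r (π k⁻¹ (trOf π s r (π k v)))) =
      trOf π s r (π (y * k⁻¹ * y⁻¹) (π y (trOf π s r (π k v)))) := by
    intro k
    rw [trOf_apply π s r (π k⁻¹ _), trOf_apply π s r (π (y * k⁻¹ * y⁻¹) _), map_sum]
    refine Finset.sum_congr rfl fun i _ => ?_
    rw [← End.mul_apply (π y), ← map_mul, ← End.mul_apply (π (y * s ^ i)), ← map_mul,
      ← End.mul_apply (π (s ^ i)), ← map_mul, ← End.mul_apply (π (s ^ i * (y * k⁻¹ * y⁻¹))), ← map_mul]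
    refine LinearMap.congr_fun (congrArg π ?_) _
    rw [mul_assoc y]
    have e : y * s ^ i = s ^ i * y := ((show Commute s y from hsy).pow_left i).eq.symm
    calc y * (s ^ i * k⁻¹) = y * s ^ i * k⁻¹ := (mul_assoc _ _ _).symm
      _ = s ^ i * (y * k⁻¹ * y⁻¹) * y := by rw [e]; group
      _ = _ := rfl
  have hlhs : ∀ k ∈ R, k ∉ B → ∃ x ∈ H, trOf π s r (π k⁻¹ (trOf π s r (π k v))) = (r : K) • v + x := by
    intro k hk hkB
    rw [trOf_mul π hv, ← Finset.add_sum_erase _ _ (Finset.mem_range.2 hr.pos), pow_zero, one_mul, inv_one, mul_one,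
      inv_mul_cancel, map_one, End.one_apply, trOf_fixed π hv]
    refine ⟨_, Submodule.sum_mem _ fun j hj => ?_, rfl⟩
    obtain ⟨hj0, hj⟩ := Finset.mem_erase.1 hj
    exact hgood (mul_mem (inv_mem hk) (hscj hk j)) fun hh =>
      hkB (hfp k hk j (Nat.pos_of_ne_zero hj0) (Finset.mem_range.1 hj) hh)
  -- every coset off `B` is moved to a translate
  have hstep : ∀ k ∈ R, k ∉ B → ∃ j < r, (y * k * y⁻¹)⁻¹ * (s ^ j * k * (s ^ j)⁻¹) ∈ B := by
    intro k hk hkB
    by_contra hcon
    push Not at hcon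
    obtain ⟨x, hx, e⟩ := hlhs k hk hkB
    have h1 := hprod k
    rw [e, hfix k hk hkB, map_add, map_smul, hHfix x hx, trOf_mul π hv] at h1
    have h2 : (r : K) • π y v ∈ H := by
      rw [eq_sub_of_add_eq h1]
      refine H.sub_mem (Submodule.sum_mem _ fun j hj => hgood ?_ ?_) hx
      · exact mul_mem ((Subgroup.mem_normalizer_iff.1 hyR _).1 (inv_mem hk)) (hscj hk j)
      · rw [← conj_inv]
        exact hcon j (Finset.mem_range.1 hj)
    have h3 : π y v ∈ H := by
      have := H.smul_mem (r : K)⁻¹ h2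
      rwa [smul_smul, inv_mul_cancel₀ hrK, one_smul] at this
    refine hvH ?_
    have h4 := congrArg (π y⁻¹) (hHfix _ h3)
    simp only [← End.mul_apply, ← map_mul] at h4
    rw [← mul_assoc, inv_mul_cancel, one_mul, map_one, End.one_apply] at h4
    rwa [h4] at h3
  have hyB : ∀ k ∈ R, k ∉ B → y * k * y⁻¹ ∉ B := by
    intro k hk hkB hh
    obtain ⟨j, -, hj⟩ := hstep k hk hkB
    have h1 := mul_mem hh hj
    rw [mul_inv_cancel_left] at h1
    exact hkB ((Subgroup.mem_normalizer_iff.1 (pow_mem hsB j) k).2 h1)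
  have hyBB : ∀ b ∈ B, y * b * y⁻¹ ∈ B := by
    intro b hb
    by_contra hh
    let A := {k // k ∈ R ∧ k ∉ B}
    let f : A → A := fun k => ⟨y * k.1 * y⁻¹, (Subgroup.mem_normalizer_iff.1 hyR _).1 k.2.1, hyB _ k.2.1 k.2.2⟩
    have hf : Function.Injective f := fun a c e =>
      Subtype.ext (mul_left_cancel (mul_right_cancel (congrArg Subtype.val e)))
    obtain ⟨⟨k, hk, hkB⟩, e⟩ := (Finite.surjective_of_injective hf) (⟨y * b * y⁻¹,
      (Subgroup.mem_normalizer_iff.1 hyR _).1 (hBR hb), hh⟩ : A)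
    obtain rfl : k = b := mul_left_cancel (mul_right_cancel (congrArg Subtype.val e))
    exact hkB hb
  -- so `y` is trivial on the cosets
  have hbB : ∀ k ∈ R, (y * k * y⁻¹)⁻¹ * k ∈ B := by
    intro k hk
    by_cases hkB : k ∈ B
    · exact mul_mem (inv_mem (hyBB k hkB)) hkB
    obtain ⟨j, hjr, hj⟩ := hstep k hk hkB
    have hiter : ∀ m : ℕ, (y ^ m * k * (y ^ m)⁻¹)⁻¹ * (s ^ (j * m) * k * (s ^ (j * m))⁻¹) ∈ B := by
      intro m
      induction m with
      | zero => simp
      | succ m ih =>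
        have h1 := hyBB _ ih
        have h2 := (Subgroup.mem_normalizer_iff.1 (pow_mem hsB (j * m)) _).1 hj
        have e : y * ((y ^ m * k * (y ^ m)⁻¹)⁻¹ * (s ^ (j * m) * k * (s ^ (j * m))⁻¹)) * y⁻¹ =
            (y ^ (m + 1) * k * (y ^ (m + 1))⁻¹)⁻¹ * (s ^ (j * m) * (y * k * y⁻¹) * (s ^ (j * m))⁻¹) := by
          rw [← hyj, pow_succ']; group
        rw [e] at h1
        have h3 := mul_mem h1 h2
        rw [Nat.mul_succ, pow_add]
        convert h3 using 1
        group
    have h4 := hiter (orderOf y)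
    rw [pow_orderOf_eq_one] at h4
    simp only [one_mul, inv_one, mul_one] at h4
    have h5 : j = 0 := by
      by_contra hj0
      have hnd : ¬ r ∣ j * orderOf y := fun hd => by
        rcases (hr.dvd_mul).1 hd with hd | hd
        · exact absurd (Nat.le_of_dvd (Nat.pos_of_ne_zero hj0) hd) (not_le.2 hjr)
        · exact hr.one_lt.ne' (Nat.eq_one_of_dvd_coprimes hyr hd dvd_rfl)
      rw [pow_eq_pow_mod _ hsr] at h4
      exact hkB (hfp k hk _ (Nat.pos_of_ne_zero fun e => hnd (Nat.dvd_of_mod_eq_zero e)) (Nat.mod_lt _ hr.pos) h4)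
    rwa [h5, pow_zero, one_mul, inv_one, mul_one] at hj
  obtain ⟨φ, hφv, hφH⟩ : ∃ φ : W →ₗ[K] K, φ v = 1 ∧ ∀ x ∈ H, φ x = 0 := by
    obtain ⟨φ, hφ, hφH⟩ := Submodule.exists_dual_map_eq_bot_of_notMem hvH inferInstance
    refine ⟨(φ v)⁻¹ • φ, by simp [hφ], fun x hx => ?_⟩
    have : φ x = 0 := (Submodule.mem_bot K).1 (hφH ▸ Submodule.mem_map_of_mem hx)
    simp [this]
  have hrel : ∀ k (hk : k ∈ R), k ∉ B → φ (π y v) = χ _ (hbB k hk) := by
    intro k hk hkB
    obtain ⟨x, hx, e⟩ := hlhs k hk hkB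
    have h1 := congrArg φ (hprod k)
    rw [e, hfix k hk hkB, map_add, map_smul, hHfix x hx, trOf_mul π hv, map_add, hφH x hx, add_zero,
      map_smul, map_sum, Finset.sum_eq_single 0] at h1
    · rw [pow_zero, one_mul, inv_one, mul_one, ← conj_inv, htrB (hbB k hk), hχ _ (hbB k hk), map_smul, map_smul, hφv,
        smul_eq_mul, smul_eq_mul, smul_eq_mul, mul_one] at h1
      exact mul_left_cancel₀ hrK h1
    · intro j hj hj0
      refine hφH _ (hgood (mul_mem ((Subgroup.mem_normalizer_iff.1 hyR _).1 (inv_mem hk)) (hscj hk j)) fun hh => ?_)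
      rw [← conj_inv] at hh
      refine hj0 (conj_diff hr hsr hsR hsB hfp hk hkB hr.pos (Finset.mem_range.1 hj) ?_).symm
      have h2 := mul_mem (inv_mem (hbB k hk)) hh
      simpa [mul_assoc] using h2
    · exact fun h' => absurd (Finset.mem_range.2 hr.pos) h'
  -- one such element fixes `v`
  obtain ⟨k, hk, hkB, hbv, hbm⟩ : ∃ k, ∃ hk : k ∈ R, k ∉ B ∧ π ((y * k * y⁻¹)⁻¹ * k) v = v ∧
      ∀ m ∈ R, π (m⁻¹ * ((y * k * y⁻¹)⁻¹ * k) * m) v = π ((y * k * y⁻¹)⁻¹ * k) v := by
    rcases hopt with hcop | hcen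
    · obtain ⟨k, hk, hkB⟩ := hne
      have hyBn : y ∈ Subgroup.normalizer (B : Set G) := Subgroup.mem_normalizer_iff.2 fun z => ⟨hyBB z, fun hz => by
        have hpow : ∀ m : ℕ, ∀ z ∈ B, y ^ m * z * (y ^ m)⁻¹ ∈ B := by
          intro m
          induction m with
          | zero => intro z hz; simpa using hz
          | succ m ih =>
            intro z hz
            rw [pow_succ', show y * y ^ m * z * (y * y ^ m)⁻¹ = y * (y ^ m * z * (y ^ m)⁻¹) * y⁻¹ by group]
            exact hyBB _ (ih z hz)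
        have := hpow (orderOf y - 1) _ hz
        rw [show y ^ (orderOf y - 1) = y⁻¹ from eq_inv_of_mul_eq_one_left (by
          rw [← pow_succ, Nat.sub_add_cancel (orderOf_pos y), pow_orderOf_eq_one])] at this
        simpa [mul_assoc] using this⟩
      have hall : ∀ a ∈ Subgroup.zpowers y, ⁅k, a⁆ ∈ B := by
        intro a ha
        obtain ⟨m, rfl⟩ := mem_powers_iff_mem_zpowers.2 ha
        clear ha
        show ⁅k, y ^ m⁆ ∈ B
        induction m with
        | zero => simp
        | succ m ih =>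
          rw [show ⁅k, y ^ (m + 1)⁆ = ⁅k, y ^ m⁆ * (y ^ m * ⁅k, y⁆ * (y ^ m)⁻¹) by
            rw [pow_succ]; simp only [commutatorElement_def]; group]
          refine mul_mem ih ((Subgroup.mem_normalizer_iff.1 (pow_mem hyBn m) _).1 ?_)
          have := inv_mem (hbB k⁻¹ (inv_mem hk))
          rwa [show ((y * k⁻¹ * y⁻¹)⁻¹ * k⁻¹)⁻¹ = ⁅k, y⁆ by rw [commutatorElement_def]; group] at this
      obtain ⟨n, hn, c, hc, rfl⟩ := Cfsg.Lib.Coprime.exists_mul_centralizer_of_commutator_mem
        (zpowers_le_normalizer hyR) (by rwa [Nat.card_zpowers]) (Or.inl (isSolvable_zpowers y)) hBR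
        (zpowers_le_normalizer hyBn) hk hall
      have he : (y * c * y⁻¹)⁻¹ * c = 1 := by
        rw [Subgroup.mem_centralizer_iff.1 hc.2 y (Subgroup.mem_zpowers y), mul_inv_cancel_right, inv_mul_cancel]
      exact ⟨c, hc.1, fun h' => hkB (mul_mem hn h'), by rw [he, map_one]; rfl, fun m _ => by
        rw [he, mul_one, inv_mul_cancel]⟩
    · have hbmul : ∀ k1 (h1 : k1 ∈ R) k2 (h2 : k2 ∈ R),
          χ _ (hbB (k1 * k2) (mul_mem h1 h2)) = χ _ (hbB k2 h2) * χ _ (hbB k1 h1) := by
        intro k1 h1 k2 h2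
        refine smul_left_injective K hv0 ?_
        show _ • v = _ • v
        rw [← hχ, show (y * (k1 * k2) * y⁻¹)⁻¹ * (k1 * k2) = (y * k2 * y⁻¹)⁻¹ * k2 *
          (k2⁻¹ * ((y * k1 * y⁻¹)⁻¹ * k1) * k2) by group, map_mul, End.mul_apply, hcen k1 h1 k2 h2, hχ _ (hbB k1 h1),
          map_smul, hχ _ (hbB k2 h2), smul_smul, mul_comm]
      have hχ0 : ∀ b (hb : b ∈ B), χ b hb ≠ 0 := fun b hb e => by
        have h1 := hχ b hb
        rw [e, zero_smul] at h1
        exact rho_apply_ne π b hv0 h1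
      obtain ⟨k, hk, hkB⟩ := hne
      obtain ⟨k2, hk2, hk2B, hk12⟩ : ∃ k2 ∈ R, k2 ∉ B ∧ k * k2 ∉ B := by
        by_cases hkk : k * k ∈ B
        · refine ⟨s ^ 1 * k * (s ^ 1)⁻¹, hscj hk 1, fun hh => hkB ((Subgroup.mem_normalizer_iff.1 (pow_mem hsB 1) k).2 hh),
            fun hh => hkB (hfp k hk 1 one_pos hr.one_lt ?_)⟩
          have := mul_mem (inv_mem hkk) hh
          simpa [mul_assoc] using this
        · exact ⟨k, hk, hkB, hkk⟩
      have h1 := hrel _ (mul_mem hk hk2) hk12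
      rw [hbmul k hk k2 hk2, ← hrel k hk hkB, ← hrel k2 hk2 hk2B] at h1
      have hα : φ (π y v) = 1 := by
        have hne0 : φ (π y v) ≠ 0 := by rw [hrel k hk hkB]; exact hχ0 _ _
        exact (mul_eq_left₀ hne0).1 h1.symm
      refine ⟨k, hk, hkB, ?_, fun m hm => hcen k hk m hm⟩
      rw [hχ _ (hbB k hk), ← hrel k hk hkB, hα, one_smul]
  have h1 := hprod k
  rw [hfix k hk hkB, trOf_mul π hv, trOf_mul π hv, map_sum, ← Finset.add_sum_erase _ _ (Finset.mem_range.2 hr.pos),
    ← Finset.add_sum_erase _ _ (Finset.mem_range.2 hr.pos)] at h1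
  have hterm : ∀ j, j ≠ 0 → j < r → π y (trOf π s r (π (k⁻¹ * (s ^ j * k * (s ^ j)⁻¹)) v)) =
      trOf π s r (π (y * k⁻¹ * y⁻¹ * (s ^ j * k * (s ^ j)⁻¹)) v) := by
    intro j hj0 hj
    set m := k⁻¹ * (s ^ j * k * (s ^ j)⁻¹) with hm
    have hmR : m ∈ R := mul_mem (inv_mem hk) (hscj hk j)
    rw [hfix m hmR fun hh => hkB (hfp k hk j (Nat.pos_of_ne_zero hj0) hj hh),
      show y * k⁻¹ * y⁻¹ * (s ^ j * k * (s ^ j)⁻¹) = m * (m⁻¹ * ((y * k * y⁻¹)⁻¹ * k) * m) by rw [hm]; group,
      map_mul π m, End.mul_apply, hbm m hmR, hbv]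
  rw [Finset.sum_congr rfl fun j hj => hterm j (Finset.mem_erase.1 hj).1 (Finset.mem_range.1 (Finset.mem_erase.1 hj).2),
    add_left_inj] at h1
  simp only [pow_zero, one_mul, inv_one, mul_one, inv_mul_cancel, map_one, End.one_apply] at h1
  rw [trOf_fixed π hv, map_smul, ← conj_inv, htrB (hbB k hk), hbv] at h1
  exact smul_right_injective W hrK h1

end Fixed

/-- A submodule containing every common eigenvector of an invariant one contains it. -/
theorem le_of_eigen [FiniteDimensional K W] [IsAlgClosed K] (C : Subgroup G) (hCK : (Nat.card C : K) ≠ 0)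
    (E : Submodule K W) :
    ∀ (n : ℕ) (S : Submodule K W), finrank K S ≤ n → (∀ c ∈ C, ∀ v ∈ S, π c v ∈ S) →
      (∀ a ∈ C, ∀ b ∈ C, ∀ v ∈ S, π a (π b v) = π b (π a v)) →
      (∀ v ∈ S, (∀ c ∈ C, ∃ x : K, π c v = x • v) → v ∈ E) → S ≤ E := by
  intro n
  induction n with
  | zero =>
    intro S hS _ _ _
    rw [Nat.le_zero, Submodule.finrank_eq_zero] at hS
    rw [hS]; exact bot_le
  | succ n ih =>
    intro S hS hinv hC hE
    by_cases hall : ∀ c ∈ C, ∀ v ∈ S, ∃ x : K, π c v = x • v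
    · exact fun v hv => hE v hv fun c hc => hall c hc v hv
    push Not at hall
    obtain ⟨c, hc, v1, hv1, hv1ne⟩ := hall
    haveI : Nontrivial S := Submodule.nontrivial_iff_ne_bot.2 fun e => hv1ne 0 (by
      rw [e, Submodule.mem_bot] at hv1; simp [hv1])
    obtain ⟨a, ha⟩ := Module.End.exists_eigenvalue ((π c).restrict (hinv c hc))
    obtain ⟨w, hw⟩ := ha.exists_hasEigenvector
    have hweq : π c (w : W) = a • (w : W) := congrArg Subtype.val hw.apply_eq_smul
    set f : End K W := π c - a • 1 with hf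
    have hfap : ∀ v, f v = π c v - a • v := fun v => by simp [hf]
    have hfcomm : ∀ b ∈ C, ∀ v ∈ S, π b (f v) = f (π b v) := fun b hb v hv => by
      rw [hfap, hfap, map_sub, map_smul, hC b hb c hc v hv]
    set S1 := S ⊓ LinearMap.ker f with hS1
    set S2 := S.map f with hS2
    have hS2le : S2 ≤ S := by
      rintro _ ⟨v, hv, rfl⟩
      rw [hfap]; exact S.sub_mem (hinv c hc v hv) (S.smul_mem a hv)
    have hdis : ∀ v ∈ S2, f v = 0 → v = 0 := by
      rintro _ ⟨u, hu, rfl⟩ hfv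
      set v := f u with hv
      have h1 : π c v = a • v := by rw [← sub_eq_zero, ← hfap]; exact hfv
      have h2 : π c u = a • u + v := by rw [hv, hfap]; abel
      have h3 : ∀ i : ℕ, π (c ^ (i + 1)) u = a ^ (i + 1) • u + ((i + 1 : ℕ) * a ^ i : K) • v := by
        intro i
        induction i with
        | zero => simp [h2]
        | succ i ih =>
          rw [pow_succ' c, map_mul, End.mul_apply, ih, map_add, map_smul, map_smul, h2, h1, smul_add, smul_smul,
            smul_smul, pow_succ a (i + 1), pow_succ a i, add_assoc, ← add_smul]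
          congr 2
          push_cast
          ring
      have hN : c ^ Nat.card C = 1 := orderOf_dvd_iff_pow_eq_one.1 (Subgroup.orderOf_dvd_natCard C hc)
      have hcp : ∀ i : ℕ, π (c ^ i) (w : W) = a ^ i • (w : W) := by
        intro i
        induction i with
        | zero => simp
        | succ i ih => rw [pow_succ', map_mul, End.mul_apply, ih, map_smul, hweq, smul_smul, ← pow_succ]
      have ha1 : a ^ Nat.card C = 1 := by
        refine smul_left_injective K (show (w : W) ≠ 0 from fun e => hw.2 (Subtype.ext e)) ?_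
        show a ^ Nat.card C • (w : W) = (1 : K) • (w : W)
        rw [← hcp, hN, map_one, one_smul]; rfl
      have h4 := h3 (Nat.card C - 1)
      rw [Nat.sub_add_cancel Nat.card_pos, hN, map_one, End.one_apply, ha1, one_smul, left_eq_add] at h4
      exact (smul_eq_zero.1 h4).resolve_left (mul_ne_zero hCK (pow_ne_zero _ fun e => by
        rw [e, zero_pow Nat.card_pos.ne'] at ha1; exact zero_ne_one ha1))
    let g : S →ₗ[K] W := f.comp S.subtype
    have hdim : finrank K S1 + finrank K S2 = finrank K S := by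
      have h1 := LinearMap.finrank_range_add_finrank_ker g
      rw [show LinearMap.range g = S2 by rw [LinearMap.range_comp, Submodule.range_subtype]] at h1
      have h2 : finrank K (LinearMap.ker g) = finrank K S1 := by
        rw [← Submodule.finrank_map_subtype_eq]
        congr 2
        all_goals
          ext v
          constructor
          · rintro ⟨u, hu, rfl⟩; exact ⟨u.2, hu⟩
          · exact fun hv => ⟨⟨v, hv.1⟩, hv.2, rfl⟩
      omega
    have hsum : S ≤ S1 ⊔ S2 := by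
      refine (Submodule.eq_of_le_of_finrank_le (sup_le inf_le_left hS2le) ?_).ge
      have h1 := Submodule.finrank_sup_add_finrank_inf_eq S1 S2
      rw [show S1 ⊓ S2 = ⊥ from (Submodule.eq_bot_iff _).2 fun v hv => hdis v hv.2 hv.1.2, finrank_bot] at h1
      omega
    have h1ne : finrank K S1 ≠ 0 := fun e => hw.2 (Subtype.ext ((Submodule.eq_bot_iff _).1
      (Submodule.finrank_eq_zero.1 e) (w : W) ⟨w.2, by simp [hfap, hweq]⟩))
    have h2ne : finrank K S2 ≠ 0 := fun e => by
      refine hv1ne a ?_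
      rw [← sub_eq_zero, ← hfap]
      exact (Submodule.eq_bot_iff _).1 (Submodule.finrank_eq_zero.1 e) _ ⟨v1, hv1, rfl⟩
    refine hsum.trans (sup_le (ih S1 (by omega) (fun b hb v hv => ⟨hinv b hb v hv.1, ?_⟩)
      (fun a ha b hb v hv => hC a ha b hb v hv.1) fun v hv => hE v hv.1)
      (ih S2 (by omega) ?_ (fun a ha b hb v hv => hC a ha b hb v (hS2le hv)) fun v hv => hE v (hS2le hv)))
    · show f (π b v) = 0
      rw [← hfcomm b hb v hv.1, show f v = 0 from hv.2, map_zero]
    · rintro b hb _ ⟨u, hu, rfl⟩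
      exact ⟨π b u, hinv b hb u hu, (hfcomm b hb u hu).symm⟩

end Cfsg.Lib.FitHeight
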