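import Cfsg.Agent.Lib.FitHeight.Spectral

/-!
# A dimension count in a matrix algebra with a monomially permuted basis
-/

set_option autoImplicit false

namespace Cfsg.Lib.FitHeight

open Module Polynomial Equiv

variable {K : Type*} [Field K] [IsAlgClosed K] [DecidableEq K] {U : Type*} [AddCommGroup U] [Module K U]
  [FiniteDimensional K U] {T : Type*} [Fintype T]

/-- Conjugation by `g` permutes the basis `b` monomially, as `π` does, and `π` is free of period `N` off the
basis vector `1`. -/
structure FreeMove (b : Basis T K (End K U)) (x0 : T) (g : End K U) (π : Perm T) (N : ℕ) : Prop where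
  pos : 0 < N
  base : b x0 = 1
  pow : g ^ N = 1
  move : ∀ x, ∃ c : K, g * b x = c • (b (π x) * g)
  fix : π x0 = x0
  period : π ^ N = 1
  free : ∀ x, x ≠ x0 → ∀ j, 0 < j → j < N → (π ^ j) x ≠ x

variable {b : Basis T K (End K U)} {x0 : T} {g : End K U} {π : Perm T} {N : ℕ}

omit [IsAlgClosed K] [DecidableEq K] [FiniteDimensional K U] [Fintype T] in
/-- The commutant of `g` has one dimension for each orbit. -/
theorem FreeMove.commutant_dim [FiniteDimensional K U] [Finite T] (h : FreeMove b x0 g π N) :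
    ∃ k, N * k + 1 = Nat.card T ∧ finrank K (commutant g) ≤ k + 1 ∧
      ((N : K) ≠ 0 → finrank K (commutant g) = k + 1) := by
  classical
  haveI := Fintype.ofFinite T
  choose c hc using h.move
  let gi := g ^ (N - 1)
  have hgi : gi * g = 1 := by rw [← pow_succ, Nat.sub_add_cancel h.pos, h.pow]
  have hig : g * gi = 1 := by rw [← pow_succ', Nat.sub_add_cancel h.pos, h.pow]
  let ad : End K U →ₗ[K] End K U := LinearMap.mulLeft K g ∘ₗ LinearMap.mulRight K gi
  have had : ∀ x, ad (b x) = c x • b (π x) := fun x => by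
    simp only [ad, LinearMap.comp_apply, LinearMap.mulLeft_apply, LinearMap.mulRight_apply]
    rw [← mul_assoc, hc, smul_mul_assoc, mul_assoc, hig, mul_one]
  have hadj : ∀ (j : ℕ) (x : T), ∃ e : K, (ad ^ j) (b x) = e • b ((π ^ j) x) := by
    intro j
    induction j with
    | zero => exact fun x => ⟨1, by simp⟩
    | succ j ih =>
      intro x
      obtain ⟨e, he⟩ := ih x
      exact ⟨e * c ((π ^ j) x), by rw [pow_succ', End.mul_apply, he, map_smul, had, smul_smul, pow_succ',
        Perm.mul_apply]⟩
  have hfix : ∀ X, X ∈ commutant g ↔ ad X = X := by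
    intro X
    simp only [ad, mem_commutant, LinearMap.comp_apply, LinearMap.mulLeft_apply, LinearMap.mulRight_apply]
    constructor
    · intro e; rw [← mul_assoc, e, mul_assoc, hig, mul_one]
    · intro e
      calc g * X = g * (X * gi) * g := by rw [mul_assoc, mul_assoc, hgi, mul_one]
        _ = X * g := by rw [e]
  have hrepr : ∀ X x, b.repr (ad X) (π x) = c x * b.repr X x := by
    intro X x
    conv_lhs => rw [← b.sum_repr X]
    simp only [map_sum, map_smul, had, Finsupp.coe_finset_sum, Finset.sum_apply, Finsupp.coe_smul, Pi.smul_apply,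
      smul_eq_mul, Basis.repr_self]
    rw [Finset.sum_eq_single x]
    · rw [Finsupp.single_eq_same, mul_one, mul_comm]
    · intro y _ hy
      rw [Finsupp.single_eq_of_ne (fun e => hy (π.injective e.symm)), mul_zero, mul_zero]
    · intro hx; exact absurd (Finset.mem_univ x) hx
  -- representatives of the orbits
  let R : T → T := fun x => (Quotient.mk (Perm.SameCycle.setoid π) x).out
  have hRsame : ∀ x, π.SameCycle (R x) x := fun x =>
    Quotient.exact (Quotient.out_eq (Quotient.mk (Perm.SameCycle.setoid π) x))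
  have hRR : ∀ x, R (R x) = R x := fun x => congrArg Quotient.out (Quotient.out_eq _)
  have hreach : ∀ x, ∃ j, j < N ∧ (π ^ j) (R x) = x := by
    intro x
    obtain ⟨i, hi⟩ := hRsame x
    have hN' : (N : ℤ) ≠ 0 := by exact_mod_cast h.pos.ne'
    refine ⟨(i % (N : ℤ)).toNat, ?_, ?_⟩
    · have := Int.emod_lt_of_pos i (show (0 : ℤ) < N by exact_mod_cast h.pos)
      have := Int.emod_nonneg i hN'
      omega
    · have hpi : π ^ i = π ^ (i % (N : ℤ)) := by
        conv_lhs => rw [← Int.emod_add_mul_ediv i N, zpow_add, zpow_mul, zpow_natCast, h.period, one_zpow, mul_one]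
      rw [hpi] at hi
      rw [← zpow_natCast, Int.toNat_of_nonneg (Int.emod_nonneg i hN')]
      exact hi
  have hfix' : ∀ j : ℕ, (π ^ j) x0 = x0 := fun j => by
    induction j with
    | zero => rfl
    | succ j ih => rw [pow_succ', Perm.mul_apply, ih, h.fix]
  let O : Finset T := Finset.univ.filter fun x => x ≠ x0 ∧ R x = x
  have hRO : ∀ x, x ≠ x0 → R x ∈ O := fun x hx => Finset.mem_filter.2 ⟨Finset.mem_univ _, fun e => hx (by
    obtain ⟨j, -, hj⟩ := hreach x
    rw [← hj, e, hfix']), hRR x⟩
  have huniq : ∀ o ∈ O, ∀ o' ∈ O, ∀ j j', j < N → j' < N → (π ^ j) o = (π ^ j') o' → o = o' ∧ j = j' := by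
    intro o ho o' ho' j j' hj hj' e
    have hoo : o = o' := by
      rw [← (Finset.mem_filter.1 ho).2.2, ← (Finset.mem_filter.1 ho').2.2]
      refine congrArg Quotient.out (Quotient.sound ?_)
      exact ((Perm.sameCycle_pow_right.2 (Perm.SameCycle.refl π o)).trans
        (e ▸ Perm.sameCycle_pow_left.2 (Perm.SameCycle.refl π o')) : π.SameCycle o o')
    subst hoo
    refine ⟨rfl, ?_⟩
    wlog hle : j ≤ j' generalizing j j'
    · exact (this j' j hj' hj e.symm (le_of_not_ge hle)).symm
    by_contra hne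
    refine h.free o (Finset.mem_filter.1 ho).2.1 (j' - j) (by omega) (by omega) ((π ^ j).injective ?_)
    rw [← Perm.mul_apply, ← pow_add, Nat.add_sub_cancel' hle, e]
  have hbij : N * O.card + 1 = Nat.card T := by
    have h1 : (Finset.univ.erase x0).card = (O ×ˢ Finset.range N).card := by
      refine (Finset.card_bij (fun p _ => (π ^ p.2) p.1) ?_ ?_ ?_).symm
      · intro p hp
        obtain ⟨ho, -⟩ := Finset.mem_product.1 hp
        refine Finset.mem_erase.2 ⟨fun e => (Finset.mem_filter.1 ho).2.1 ((π ^ p.2).injective ?_), Finset.mem_univ _⟩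
        rw [e, hfix']
      · intro p hp p' hp' e
        obtain ⟨ho, hj⟩ := Finset.mem_product.1 hp
        obtain ⟨ho', hj'⟩ := Finset.mem_product.1 hp'
        obtain ⟨e1, e2⟩ := huniq _ ho _ ho' _ _ (Finset.mem_range.1 hj) (Finset.mem_range.1 hj') e
        exact Prod.ext e1 e2
      · intro x hx
        obtain ⟨j, hj, e⟩ := hreach x
        exact ⟨(R x, j), Finset.mem_product.2 ⟨hRO x (Finset.mem_erase.1 hx).1, Finset.mem_range.2 hj⟩, e⟩
    rw [Finset.card_product, Finset.card_range, Finset.card_erase_of_mem (Finset.mem_univ _),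
      Finset.card_univ] at h1
    have hpos : 0 < Fintype.card T := Fintype.card_pos_iff.2 ⟨x0⟩
    rw [Nat.card_eq_fintype_card, mul_comm, ← h1]
    omega
  have hnot : x0 ∉ O := fun h' => (Finset.mem_filter.1 h').2.1 rfl
  let O' := insert x0 O
  have hO' : O'.card = O.card + 1 := Finset.card_insert_of_notMem hnot
  let Φ : commutant g →ₗ[K] (O' → K) :=
    { toFun := fun X o => b.repr (X : End K U) (o : T)
      map_add' := fun X Y => by ext o; simp
      map_smul' := fun e X => by ext o; simp }
  have hinj : Function.Injective Φ := by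
    rw [← LinearMap.ker_eq_bot, Submodule.eq_bot_iff]
    intro X hX
    have hX' : ∀ o ∈ O', b.repr (X : End K U) o = 0 := fun o ho => congrFun (LinearMap.mem_ker.1 hX) ⟨o, ho⟩
    have hstep : ∀ (j : ℕ) (o : T), b.repr (X : End K U) o = 0 → b.repr (X : End K U) ((π ^ j) o) = 0 := by
      intro j o ho
      induction j with
      | zero => exact ho
      | succ j ih =>
        rw [pow_succ', Perm.mul_apply, ← (hfix _).1 X.2, hrepr, ih, mul_zero]
    refine Subtype.ext (b.repr.injective (Finsupp.ext fun x => ?_))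
    simp only [ZeroMemClass.coe_zero, map_zero, Finsupp.coe_zero, Pi.zero_apply]
    by_cases hx : x = x0
    · exact hx ▸ hX' x0 (Finset.mem_insert_self _ _)
    · obtain ⟨j, -, e⟩ := hreach x
      rw [← e]
      exact hstep j _ (hX' _ (Finset.mem_insert_of_mem (hRO x hx)))
  have hub : finrank K (commutant g) ≤ O.card + 1 := by
    refine (LinearMap.finrank_le_finrank_of_injective hinj).trans (le_of_eq ?_)
    rw [Module.finrank_pi, Fintype.card_coe, hO']
  refine ⟨O.card, hbij, hub, fun hN => le_antisymm hub ?_⟩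
  have hadN : ad ^ N = 1 := by
    refine b.ext fun x => ?_
    have h1 : ∀ (j : ℕ) (X : End K U), (ad ^ j) X = g ^ j * X * gi ^ j := by
      intro j
      induction j with
      | zero => simp
      | succ j ih =>
        intro X
        rw [pow_succ', End.mul_apply, ih]
        show g * (g ^ j * X * gi ^ j * gi) = _
        simp only [pow_succ' g, pow_succ gi, mul_assoc]
    rw [h1, End.one_apply, h.pow, one_mul, ← pow_mul, mul_comm (N - 1), pow_mul, h.pow, one_pow, mul_one]
  have hsurj : Function.Surjective Φ := by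
    intro f
    let f0 : T → K := fun o => if ho : o ∈ O' then (if o = x0 then f ⟨o, ho⟩ / N else f ⟨o, ho⟩) else 0
    let Y : End K U := ∑ o ∈ O', f0 o • b o
    let X : End K U := ∑ j ∈ Finset.range N, (ad ^ j) Y
    have hX : X ∈ commutant g := by
      rw [hfix, map_sum]
      have h2 := Finset.sum_range_succ' (fun j => (ad ^ j) Y) N
      rw [Finset.sum_range_succ, hadN, pow_zero] at h2
      exact (Finset.sum_congr rfl fun j _ => by rw [pow_succ', End.mul_apply]).trans
        (add_right_cancel h2).symm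
    refine ⟨⟨X, hX⟩, funext fun o => ?_⟩
    show b.repr X (o : T) = f o
    choose e he using hadj
    simp only [X, Y, map_sum, map_smul, he, Finsupp.coe_finset_sum, Finset.sum_apply, Finsupp.coe_smul,
      Pi.smul_apply, smul_eq_mul, Basis.repr_self]
    rw [Finset.sum_comm, Finset.sum_eq_single (o : T)]
    · by_cases ho : (o : T) = x0
      · have he1 : ∀ j, e j (o : T) = 1 := by
          intro j
          have h1 : (ad ^ j) (b (o : T)) = b (o : T) := by
            rw [ho]
            induction j with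
            | zero => simp
            | succ j ih =>
              rw [pow_succ', End.mul_apply, ih, h.base]
              show g * (1 * gi) = 1
              rw [one_mul, hig]
          have h2 := congrArg (fun Z => b.repr Z (o : T)) (h1 ▸ he j (o : T))
          simpa [ho, hfix'] using h2.symm
        simp only [ho] at he1
        simp only [he1, ho, hfix', Finsupp.single_eq_same, mul_one, Finset.sum_const, Finset.card_range]
        simp only [f0, dif_pos (Finset.mem_insert_self x0 O), if_pos rfl, nsmul_eq_mul]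
        rw [dif_pos (show x0 ∈ O' from Finset.mem_insert_self x0 O), if_pos trivial, mul_div_cancel₀ _ hN]
        exact congrArg f (Subtype.ext ho.symm)
      · rw [Finset.sum_eq_single 0]
        · have h1 := congrArg (fun Z => b.repr Z (o : T)) (he 0 (o : T))
          simp only [pow_zero, End.one_apply, Perm.coe_one, id, map_smul, Basis.repr_self, Finsupp.coe_smul,
            Pi.smul_apply, smul_eq_mul, Finsupp.single_eq_same, mul_one] at h1
          simp [f0, ho, o.2, ← h1]
        · intro j hj hj0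
          rw [Finsupp.single_eq_of_ne, mul_zero, mul_zero]
          exact fun e' => h.free o ho j (Nat.pos_of_ne_zero hj0) (Finset.mem_range.1 hj) e'.symm
        · intro h0; exact absurd (Finset.mem_range.2 h.pos) h0
    · intro o' ho' hne
      refine Finset.sum_eq_zero fun j hj => ?_
      rw [Finsupp.single_eq_of_ne, mul_zero, mul_zero]
      intro e'
      have ho'2 : o' = x0 ∨ o' ∈ O := Finset.mem_insert.1 ho'
      have ho2 : (o : T) = x0 ∨ (o : T) ∈ O := Finset.mem_insert.1 o.2
      rcases ho'2 with rfl | h1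
      · rw [hfix'] at e'; exact hne e'.symm
      rcases ho2 with h2 | h2
      · rw [h2, ← hfix' j] at e'
        exact (Finset.mem_filter.1 h1).2.1 ((π ^ j).injective e').symm
      · exact hne (huniq _ h1 _ h2 j 0 (Finset.mem_range.1 hj) h.pos (by simpa using e'.symm)).1
    · intro ho; exact absurd o.2 ho
  refine le_trans (le_of_eq ?_) (LinearMap.finrank_range_le Φ)
  rw [LinearMap.range_eq_top.2 hsurj, finrank_top, Module.finrank_pi, Fintype.card_coe, hO']

/-- With `d` the eigenspace dimensions of `s` of prime order `r` acting freely, `r * d` is within `r` of the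
dimension. -/
theorem FreeMove.dims {r : ℕ} (hr : r.Prime) (hrK : (r : K) ≠ 0) {s : End K U} (hs : FreeMove b x0 s π r) :
    (∃ k, r * k + 1 = finrank K U ^ 2) ∧
      r * (∑ a ∈ nthRootsFinset r (1 : K), finrank K (s.eigenspace a) ^ 2) + 1 = finrank K U ^ 2 + r ∧
      ∀ a ∈ nthRootsFinset r (1 : K), r * finrank K (s.eigenspace a) < finrank K U + r ∧
        finrank K U < r * finrank K (s.eigenspace a) + r := by
  obtain ⟨k, hk, -, heq⟩ := hs.commutant_dim
  have hT : Nat.card T = finrank K U ^ 2 := by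
    rw [Nat.card_eq_fintype_card, ← Module.finrank_eq_card_basis b, Module.finrank_linearMap, sq]
  rw [hT] at hk
  have hsq : r * (∑ a ∈ nthRootsFinset r (1 : K), finrank K (s.eigenspace a) ^ 2) + 1 = finrank K U ^ 2 + r := by
    rw [← finrank_commutant hrK hs.pow, heq hrK, ← hk, Nat.mul_succ]
    ring
  refine ⟨⟨k, hk⟩, hsq, fun a ha => ?_⟩
  set d := fun a => finrank K (s.eigenspace a) with hd
  set n := finrank K U with hn
  have hsum : ∑ a ∈ nthRootsFinset r (1 : K), d a = n := sum_finrank_eigenspace hrK hs.pow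
  have hcard : (nthRootsFinset r (1 : K)).card ≤ r := by
    rw [nthRootsFinset_def]
    exact (Multiset.toFinset_card_le _).trans (Polynomial.card_nthRoots _ _)
  have h1 : ((r : ℤ) * d a - n) ^ 2 ≤ ∑ b ∈ nthRootsFinset r (1 : K), ((r : ℤ) * d b - n) ^ 2 :=
    Finset.single_le_sum (f := fun b => ((r : ℤ) * d b - n) ^ 2) (fun b _ => sq_nonneg _) ha
  have hexp : ∑ b ∈ nthRootsFinset r (1 : K), ((r : ℤ) * d b - n) ^ 2 =
      (r : ℤ) * ((r : ℤ) * ∑ b ∈ nthRootsFinset r (1 : K), (d b : ℤ) ^ 2) -
        2 * r * n * ∑ b ∈ nthRootsFinset r (1 : K), (d b : ℤ) + (nthRootsFinset r (1 : K)).card * (n : ℤ) ^ 2 := by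
    have e : ∀ b, ((r : ℤ) * d b - n) ^ 2 = (r : ℤ) * ((r : ℤ) * (d b : ℤ) ^ 2) - 2 * r * n * d b + (n : ℤ) ^ 2 :=
      fun b => by ring
    simp only [e, Finset.sum_add_distrib, Finset.sum_sub_distrib, ← Finset.mul_sum, Finset.sum_const, nsmul_eq_mul]
  have hsum' : ∑ b ∈ nthRootsFinset r (1 : K), (d b : ℤ) = n := by exact_mod_cast hsum
  have hsq' : (r : ℤ) * ∑ b ∈ nthRootsFinset r (1 : K), (d b : ℤ) ^ 2 + 1 = (n : ℤ) ^ 2 + r := by
    exact_mod_cast hsq
  have hcard' : ((nthRootsFinset r (1 : K)).card : ℤ) * (n : ℤ) ^ 2 ≤ (r : ℤ) * (n : ℤ) ^ 2 :=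
    mul_le_mul_of_nonneg_right (by exact_mod_cast hcard) (sq_nonneg _)
  have hr2 : (2 : ℤ) ≤ r := by exact_mod_cast hr.two_le
  have hlt : ((r : ℤ) * d a - n) ^ 2 < (r : ℤ) ^ 2 := by
    rw [hexp, hsum', eq_sub_of_add_eq hsq'] at h1
    nlinarith
  obtain ⟨h2, h3⟩ := abs_lt_of_sq_lt_sq' hlt (by omega)
  constructor
  · have : (r : ℤ) * d a < n + r := by linarith
    exact_mod_cast this
  · have : (n : ℤ) < r * d a + r := by linarith
    exact_mod_cast this

/-- A missing eigenvalue makes the dimension one less than the prime. -/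
theorem FreeMove.of_missing {r : ℕ} (hr : r.Prime) (hrK : (r : K) ≠ 0) {s : End K U} (hs : FreeMove b x0 s π r)
    (hn : 2 ≤ finrank K U) {a : K} (ha : a ∈ nthRootsFinset r (1 : K)) (hd : s.eigenspace a = ⊥) :
    finrank K U + 1 = r := by
  obtain ⟨⟨k, hk⟩, -, h⟩ := hs.dims hr hrK
  obtain ⟨-, h2⟩ := h a ha
  rw [hd, finrank_bot, mul_zero, zero_add] at h2
  have hdvd : r ∣ (finrank K U - 1) * (finrank K U + 1) := by
    refine ⟨k, ?_⟩
    obtain ⟨m, hm⟩ : ∃ m, finrank K U = m + 1 := ⟨finrank K U - 1, by omega⟩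
    rw [hm] at hk ⊢
    simp only [Nat.add_sub_cancel]
    nlinarith
  rcases hr.dvd_mul.1 hdvd with h3 | h3
  · have := Nat.le_of_dvd (by omega) h3; omega
  · have := Nat.le_of_dvd (by omega) h3; omega

omit [IsAlgClosed K] [DecidableEq K] in
/-- An operator commutes with at least as many dimensions as the space has, when this is at most two. -/
theorem finrank_le_commutant (t : End K U) (h2 : finrank K U ≤ 2) : finrank K U ≤ finrank K (commutant t) := by
  rcases Nat.lt_or_ge (finrank K U) 1 with h0 | h1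
  · omega
  have hnt : Nontrivial U := (Module.finrank_pos_iff (R := K)).1 h1
  by_cases hts : t ∈ Submodule.span K {(1 : End K U)}
  · obtain ⟨c, rfl⟩ := Submodule.mem_span_singleton.1 hts
    have htop : commutant (c • (1 : End K U)) = ⊤ := eq_top_iff.2 fun X _ => by
      rw [mem_commutant, smul_mul_assoc, one_mul, mul_smul_comm, mul_one]
    rw [htop, finrank_top, Module.finrank_linearMap]
    exact Nat.le_mul_self _
  · let v : Fin 2 → commutant t := ![⟨1, by rw [mem_commutant, mul_one, one_mul]⟩, ⟨t, rfl⟩]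
    have hli : LinearIndependent K v := by
      rw [linearIndependent_fin2]
      refine ⟨fun e => hts ?_, fun c e => hts ?_⟩
      · have e' : t = 0 := congrArg Subtype.val e
        rw [e']; exact zero_mem _
      · have e' : c • t = (1 : End K U) := congrArg Subtype.val e
        have hc : c ≠ 0 := fun hc => one_ne_zero (α := End K U) (by rw [← e', hc, zero_smul])
        exact Submodule.mem_span_singleton.2 ⟨c⁻¹, by rw [← e', smul_smul, inv_mul_cancel₀ hc, one_smul]⟩
    have := hli.fintype_card_le_finrank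
    simp only [Fintype.card_fin] at this
    omega

/-- An operator of prime power order commuting with `s`, the pair acting freely, scalar on an eigenspace of `s`,
has order at most two. -/
theorem FreeMove.order_le_two {r l e : ℕ} (hr : r.Prime) (hrK : (r : K) ≠ 0) {s t : End K U}
    (hs : FreeMove b x0 s π r) {π' : Perm T} (hst : FreeMove b x0 (s * t) π' (r * l ^ e)) (hl : l.Prime)
    (ht : t ^ l ^ e = 1) (hc : s * t = t * s) (hn : 2 ≤ finrank K U) {a : K} (ha : a ∈ nthRootsFinset r (1 : K))
    {c : K} (hta : ∀ x ∈ s.eigenspace a, t x = c • x) : l ^ e ≤ 2 := by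
  classical
  obtain ⟨-, hsq, hd⟩ := hs.dims hr hrK
  obtain ⟨k, hk, hub, -⟩ := hst.commutant_dim
  rw [Nat.card_eq_fintype_card, ← Module.finrank_eq_card_basis b, Module.finrank_linearMap, ← sq] at hk
  set μ := nthRootsFinset r (1 : K) with hμ
  have hinv : ∀ b : K, ∀ x ∈ s.eigenspace b, t x ∈ s.eigenspace b := fun b x hx => by
    rw [End.mem_eigenspace_iff] at hx ⊢
    rw [← End.mul_apply, hc, End.mul_apply, hx, map_smul]
  let tb : ∀ b : μ, End K (s.eigenspace (b : K)) := fun b => t.restrict (hinv b)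
  have hglue : ∀ g : ∀ b : μ, commutant (tb b),
      glue hrK hs.pow (fun b => (g b : End K _)) ∈ commutant (s * t) := by
    intro g
    refine ext_eigen hrK hs.pow fun b hb x hx => ?_
    let gb : End K (s.eigenspace b) := (g ⟨b, hb⟩ : End K _)
    have e1 : (glue hrK hs.pow fun b => (g b : End K _)) x = (gb ⟨x, hx⟩).1 :=
      glue_apply hrK hs.pow _ ⟨b, hb⟩ ⟨x, hx⟩
    have e2 : (glue hrK hs.pow fun b => (g b : End K _)) (t x) = (gb ⟨t x, hinv b x hx⟩).1 :=
      glue_apply hrK hs.pow _ ⟨b, hb⟩ ⟨t x, hinv b x hx⟩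
    have e3 : t (gb ⟨x, hx⟩).1 = (gb ⟨t x, hinv b x hx⟩).1 :=
      congrArg Subtype.val (LinearMap.congr_fun (mem_commutant.1 (g ⟨b, hb⟩).2) ⟨x, hx⟩)
    rw [End.mul_apply, End.mul_apply, End.mul_apply, End.mul_apply, e1, e3,
      End.mem_eigenspace_iff.1 (gb ⟨t x, hinv b x hx⟩).2,
      End.mem_eigenspace_iff.1 (hinv b x hx), map_smul, e2]
  let G : (∀ b : μ, commutant (tb b)) →ₗ[K] commutant (s * t) :=
    LinearMap.codRestrict _ ((glue hrK hs.pow).comp
      (LinearMap.pi fun b => (Submodule.subtype _).comp (LinearMap.proj b))) hglue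
  have hG : Function.Injective G := fun g g' e => funext fun b => Subtype.ext
    (congrFun (glue_injective hrK hs.pow (congrArg Subtype.val e)) b)
  have hlow : ∑ b : μ, finrank K (commutant (tb b)) ≤ k + 1 := by
    rw [← Module.finrank_pi_fintype]
    exact (LinearMap.finrank_le_finrank_of_injective hG).trans hub
  set u := l ^ e with hu
  let d := fun b : K => finrank K (s.eigenspace b)
  have hsum : ∑ b : μ, d b = finrank K U := by
    rw [Finset.sum_coe_sort μ d]; exact sum_finrank_eigenspace hrK hs.pow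
  have htop : commutant (tb ⟨a, ha⟩) = ⊤ := eq_top_iff.2 fun X _ => by
    rw [mem_commutant, show tb ⟨a, ha⟩ = c • 1 from LinearMap.ext fun x => Subtype.ext (hta x x.2)]
    simp
  have hca : finrank K (commutant (tb ⟨a, ha⟩)) = d a ^ 2 := by
    rw [htop, finrank_top, Module.finrank_linearMap, sq]
  have hu0 : 0 < u := pow_pos hl.pos _
  have htp : ∀ b : μ, tb b ^ u = 1 := fun b => LinearMap.ext fun x => Subtype.ext (by
    rw [Module.End.pow_restrict _ (h := hinv b)]
    exact LinearMap.congr_fun ht x)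
  -- at most one dimension in the scalar block
  have hA : r * ((u - 1) * d a ^ 2) + r ≤ r * u := by
    have h1 : u * d a ^ 2 + ∑ b ∈ Finset.univ.erase (⟨a, ha⟩ : μ), d b ^ 2 ≤ u * (k + 1) := by
      refine le_trans ?_ (Nat.mul_le_mul_left u hlow)
      rw [← Finset.add_sum_erase _ _ (Finset.mem_univ (⟨a, ha⟩ : μ)), Nat.mul_add, hca, Finset.mul_sum]
      exact Nat.add_le_add_left (Finset.sum_le_sum fun b _ => sq_le_mul_finrank_commutant hl _ (htp b)) _
    have h2 : ∑ b ∈ Finset.univ.erase (⟨a, ha⟩ : μ), d b ^ 2 + d a ^ 2 = ∑ b ∈ μ, d b ^ 2 := by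
      rw [Finset.sum_erase_add _ _ (Finset.mem_univ _)]
      exact Finset.sum_coe_sort μ fun b => d b ^ 2
    have h3 := Nat.mul_le_mul_left r h1
    obtain ⟨v, hv⟩ : ∃ v, u = v + 1 := ⟨u - 1, by omega⟩
    rw [hv] at h3 hk ⊢
    simp only [Nat.add_sub_cancel]
    change r * (∑ b ∈ μ, d b ^ 2) + 1 = _ at hsq
    nlinarith [congrArg (r * ·) h2]
  rcases Nat.lt_or_ge u 2 with hu2 | hu2
  · omega
  have hda : d a ≤ 1 := by
    by_contra hcon
    have h1 : 2 * 2 ≤ d a ^ 2 := by rw [sq]; exact Nat.mul_self_le_mul_self (by omega)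
    have h2 : r * ((u - 1) * 4) + r ≤ r * u :=
      le_trans (by nlinarith [Nat.mul_le_mul_left (u - 1) h1]) hA
    obtain ⟨v, hv⟩ : ∃ v, u = v + 1 := ⟨u - 1, by omega⟩
    rw [hv] at h2 hu2
    simp only [Nat.add_sub_cancel] at h2
    nlinarith [hr.two_le]
  have hnr : finrank K U < 2 * r := by
    have := (hd a ha).2
    have h1 : r * finrank K (s.eigenspace a) ≤ r * 1 := Nat.mul_le_mul_left r hda
    omega
  have hall : ∀ b : μ, d b ≤ 2 := fun b => by
    have := (hd b b.2).1
    by_contra hcon
    have h1 : r * 3 ≤ r * finrank K (s.eigenspace (b : K)) := Nat.mul_le_mul_left r (Nat.lt_of_not_ge hcon)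
    omega
  have hn2 : finrank K U ≤ k + 1 := by
    rw [← hsum]
    exact le_trans (Finset.sum_le_sum fun b _ => finrank_le_commutant (tb b) (hall b)) hlow
  by_contra hcon
  have h1 : r * u * (finrank K U - 1) ≤ r * u * k := Nat.mul_le_mul_left _ (by omega)
  obtain ⟨m, hm⟩ : ∃ m, finrank K U = m + 1 := ⟨finrank K U - 1, by omega⟩
  rw [hm] at h1 hk hnr hn
  simp only [Nat.add_sub_cancel] at h1
  have h2 : r * 3 * m ≤ r * u * m := Nat.mul_le_mul_right _ (Nat.mul_le_mul_left r (Nat.lt_of_not_ge hcon))
  nlinarith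

end Cfsg.Lib.FitHeight
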