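import Cfsg.Agent.Lib.FitHeight.Bad

/-!
# Additive functions on a section
-/

set_option autoImplicit false

namespace Cfsg.Lib.FitHeight

open Module Cfsg.Lib.Local
open scoped commutatorElement

variable {Γ : Type*} [Group Γ]

/-- Translation of functions. -/
def funOp (Γ : Type*) [Group Γ] (K : Type*) [Field K] : Γ →* End K (Γ → K) where
  toFun g :=
    { toFun := fun f => FitTwo.translate g f
      map_add' := fun f f' => rfl
      map_smul' := fun c f => rfl }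
  map_one' := LinearMap.ext fun f => funext fun x => by
    show f (1⁻¹ * x * 1) = f x
    simp
  map_mul' a b := LinearMap.ext fun f => funext fun x => by
    show f ((a * b)⁻¹ * x * (a * b)) = f (b⁻¹ * (a⁻¹ * x * a) * b)
    congr 1
    group

variable {K : Type*} [Field K]

@[simp] theorem funOp_apply (g : Γ) (f : Γ → K) (x : Γ) : funOp Γ K g f x = f (g⁻¹ * x * g) := rfl

/-- The additive functions on `Q` killing `Z`, extended by zero. -/
def funSpace (K : Type*) [Field K] (Q Z : Subgroup Γ) : Submodule K (Γ → K) where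
  carrier := {f | (∀ x, x ∉ Q → f x = 0) ∧ (∀ x ∈ Q, ∀ y ∈ Q, f (x * y) = f x + f y) ∧ ∀ z ∈ Z, f z = 0}
  zero_mem' := ⟨fun _ _ => rfl, fun _ _ _ _ => by simp, fun _ _ => rfl⟩
  add_mem' := fun {f g} hf hg => ⟨fun x hx => by simp [hf.1 x hx, hg.1 x hx], fun x hx y hy => by
    simp only [Pi.add_apply, hf.2.1 x hx y hy, hg.2.1 x hx y hy]; abel, fun z hz => by
    simp [hf.2.2 z hz, hg.2.2 z hz]⟩
  smul_mem' := fun c {f} hf => ⟨fun x hx => by simp [hf.1 x hx], fun x hx y hy => by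
    simp only [Pi.smul_apply, hf.2.1 x hx y hy, smul_add], fun z hz => by simp [hf.2.2 z hz]⟩

variable {Q Z : Subgroup Γ} {f : Γ → K}

theorem fun_one (hf : f ∈ funSpace K Q Z) : f 1 = 0 := by
  have := hf.2.1 1 (one_mem Q) 1 (one_mem Q)
  rw [one_mul] at this
  exact left_eq_add.1 this

theorem fun_inv (hf : f ∈ funSpace K Q Z) {x : Γ} (hx : x ∈ Q) : f x⁻¹ = -f x := by
  have := hf.2.1 x hx x⁻¹ (inv_mem hx)
  rw [mul_inv_cancel, fun_one hf] at this
  exact (neg_eq_of_add_eq_zero_right this.symm).symm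

theorem fun_mul_inv (hf : f ∈ funSpace K Q Z) {x y : Γ} (hx : x ∈ Q) (hy : y ∈ Q) :
    f (x * y⁻¹) = f x - f y := by
  rw [hf.2.1 x hx _ (inv_mem hy), fun_inv hf hy, sub_eq_add_neg]

theorem fun_translate (hf : f ∈ funSpace K Q Z) {g : Γ} (hgQ : g ∈ Subgroup.normalizer (Q : Set Γ))
    (hgZ : g ∈ Subgroup.normalizer (Z : Set Γ)) : funOp Γ K g f ∈ funSpace K Q Z := by
  have e : ∀ x, g * (g⁻¹ * x * g) * g⁻¹ = x := fun x => by group
  refine ⟨fun x hx => hf.1 _ fun h => hx ?_, fun x hx y hy => ?_, fun z hz => hf.2.2 _ ?_⟩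
  · have := (Subgroup.mem_normalizer_iff.1 hgQ _).1 h
    rwa [e] at this
  · show f (g⁻¹ * (x * y) * g) = f (g⁻¹ * x * g) + f (g⁻¹ * y * g)
    rw [show g⁻¹ * (x * y) * g = g⁻¹ * x * g * (g⁻¹ * y * g) by group]
    exact hf.2.1 _ ((Subgroup.mem_normalizer_iff.1 hgQ _).2 (by rwa [e])) _
      ((Subgroup.mem_normalizer_iff.1 hgQ _).2 (by rwa [e]))
  · exact (Subgroup.mem_normalizer_iff.1 hgZ _).2 (by rwa [e])

theorem funOp_of_centralize (hf : f ∈ funSpace K Q Z) {g : Γ} (hg : g ∈ Subgroup.centralizer (Q : Set Γ)) :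
    funOp Γ K g f = f := by
  funext x
  show f (g⁻¹ * x * g) = f x
  by_cases hx : x ∈ Q
  · rw [mul_assoc, Subgroup.mem_centralizer_iff.1 hg x hx, inv_mul_cancel_left]
  · rw [hf.1 x hx, hf.1 _ fun h => hx ?_]
    have e := Subgroup.mem_centralizer_iff.1 hg _ h
    rwa [show g⁻¹ * x * g = x by
      rw [show g * (g⁻¹ * x * g) = x * g by group] at e
      exact mul_right_cancel e] at h

variable [Finite Γ]

theorem fun_eq_zero_of_fixed (hf : f ∈ funSpace K Q Z) {s : Γ} {r : ℕ} (hr : r.Prime) (hsr : s ^ r = 1)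
    {U : Subgroup Γ} (hUQ : U ≤ Q) (hcop : r.Coprime (Nat.card U)) (hsU : s ∈ Subgroup.normalizer (U : Set Γ))
    (hs : funOp Γ K s f = f) (h0 : ∀ x ∈ U, s * x = x * s → f x = 0) : ∀ x ∈ U, f x = 0 := by
  let M : Subgroup Γ :=
    { carrier := {x | x ∈ Q ∧ f x = 0}
      one_mem' := ⟨one_mem Q, fun_one hf⟩
      mul_mem' := fun {a b} ha hb => ⟨mul_mem ha.1 hb.1, by rw [hf.2.1 a ha.1 b hb.1, ha.2, hb.2, add_zero]⟩
      inv_mem' := fun {a} ha => ⟨inv_mem ha.1, by rw [fun_inv hf ha.1, ha.2, neg_zero]⟩ }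
  have hle := le_of_fixed_moved hr hsr hcop hsU M (fun x hx hxc => ⟨hUQ hx, h0 x hx hxc⟩) fun x hx => by
    have hx' : s * x * s⁻¹ ∈ Q := hUQ ((Subgroup.mem_normalizer_iff.1 hsU x).1 hx)
    refine ⟨mul_mem (hUQ hx) (inv_mem hx'), ?_⟩
    rw [fun_mul_inv hf (hUQ hx) hx', sub_eq_zero]
    conv_rhs => rw [← hs]
    show f x = f (s⁻¹ * (s * x * s⁻¹) * s)
    congr 1
    group
  exact fun x hx => (hle hx).2

/-- Functions separate elements from the subgroups containing the powers and commutators. -/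
theorem exists_fun_ne (q : ℕ) [Fact q.Prime] [CharP K q] (hpow : ∀ x ∈ Q, x ^ q ∈ Z)
    (hcomm : ∀ x ∈ Q, ∀ y ∈ Q, ⁅x, y⁆ ∈ Z) {N : Subgroup Γ} (hZN : Z ≤ N) (hNQ : N ≤ Q) {x : Γ} (hx : x ∈ Q)
    (hxN : x ∉ N) : ∃ f ∈ funSpace K Q Z, (∀ y ∈ N, f y = 0) ∧ f x ≠ 0 := by
  classical
  haveI : (N.subgroupOf Q).Normal := ⟨fun a ha b => by
    rw [Subgroup.mem_subgroupOf] at ha ⊢
    have e : ((b * a * b⁻¹ : Q) : Γ) = ⁅(b : Γ), (a : Γ)⁆ * (a : Γ) := by
      simp [commutatorElement_def, mul_assoc]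
    rw [e]
    exact mul_mem (hZN (hcomm _ b.2 _ a.2)) ha⟩
  letI : CommGroup (Q ⧸ N.subgroupOf Q) :=
    { (inferInstance : Group (Q ⧸ N.subgroupOf Q)) with
      mul_comm := fun a b => by
        induction a using QuotientGroup.induction_on
        induction b using QuotientGroup.induction_on
        rename_i a b
        rw [← QuotientGroup.mk_mul, ← QuotientGroup.mk_mul, QuotientGroup.eq, Subgroup.mem_subgroupOf]
        have e : (((a * b)⁻¹ * (b * a) : Q) : Γ) = ⁅(b : Γ)⁻¹, (a : Γ)⁻¹⁆ := by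
          simp [commutatorElement_def, mul_assoc]
        rw [e]
        exact hZN (hcomm _ (inv_mem b.2) _ (inv_mem a.2)) }
  letI : Module (ZMod q) (Additive (Q ⧸ N.subgroupOf Q)) := AddCommGroup.zmodModule fun t => by
    induction t using Additive.rec with
    | ofMul t =>
      induction t using QuotientGroup.induction_on with
      | _ a =>
        refine Additive.toMul.injective ?_
        show (a : Q ⧸ N.subgroupOf Q) ^ q = 1
        rw [← QuotientGroup.mk_pow, QuotientGroup.eq_one_iff, Subgroup.mem_subgroupOf]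
        exact hZN (hpow _ a.2)
  let xq : Additive (Q ⧸ N.subgroupOf Q) := Additive.ofMul ((⟨x, hx⟩ : Q) : Q ⧸ N.subgroupOf Q)
  have hxq : xq ≠ 0 := fun e => hxN ((QuotientGroup.eq_one_iff (⟨x, hx⟩ : Q)).1 (congrArg Additive.toMul e))
  obtain ⟨φ', hφ'⟩ := exists_dual_one (ZMod q) hxq
  obtain ⟨φ, hφ⟩ : ∃ φ : Additive (Q ⧸ N.subgroupOf Q) →+ ZMod q, φ xq = 1 := ⟨φ'.toAddMonoidHom, hφ'⟩
  let c : ZMod q →+* K := ZMod.castHom dvd_rfl K
  let g : Γ → K := fun y => if hy : y ∈ Q then c (φ (Additive.ofMul ((⟨y, hy⟩ : Q) : Q ⧸ N.subgroupOf Q))) else 0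
  have hgN : ∀ y ∈ N, g y = 0 := fun y hy => by
    simp only [g, dif_pos (hNQ hy)]
    rw [(QuotientGroup.eq_one_iff (⟨y, hNQ hy⟩ : Q)).2 (Subgroup.mem_subgroupOf.2 hy), ofMul_one, map_zero, map_zero]
  refine ⟨g, ⟨fun y hy => dif_neg hy, fun a ha b hb => ?_, fun z hz => hgN z (hZN hz)⟩, hgN, ?_⟩
  · simp only [g, dif_pos ha, dif_pos hb, dif_pos (mul_mem ha hb)]
    rw [← map_add, ← map_add, ← ofMul_mul, ← QuotientGroup.mk_mul]
    rfl
  · simp only [g, dif_pos hx]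
    rw [hφ, map_one]
    exact one_ne_zero

end Cfsg.Lib.FitHeight
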