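import Cfsg.Agent.Lib.FitHeight.Count
import Cfsg.Agent.Lib.Local.HallHigmanComponent

/-!
# Groups acting as Heisenberg groups modulo scalars
-/

set_option autoImplicit false

namespace Cfsg.Lib.FitHeight

open Module Cfsg.Lib.Local
open scoped commutatorElement

section Inner

variable {K : Type*} [Field K] {U : Type*} [AddCommGroup U] [Module K U] [FiniteDimensional K U]

omit [FiniteDimensional K U] in
theorem exists_dual_one (K : Type*) [Field K] {U : Type*} [AddCommGroup U] [Module K U] {u : U}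
    (hu : u ≠ 0) : ∃ φ : U →ₗ[K] K, φ u = 1 := by
  obtain ⟨φ, hφ⟩ := LinearMap.exists_leftInverse_of_injective (LinearMap.toSpanSingleton K U u)
    (LinearMap.ker_eq_bot.2 fun a b e => smul_left_injective K hu e)
  exact ⟨φ, by simpa using LinearMap.congr_fun hφ 1⟩

/-- An automorphism of the full matrix algebra is inner. -/
theorem exists_inner [Nontrivial U] (α : End K U →ₐ[K] End K U) (hα : Function.Injective α) :
    ∃ S Si : End K U, S * Si = 1 ∧ Si * S = 1 ∧ ∀ A, S * A = α A * S := by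
  obtain ⟨u0, hu0⟩ := exists_ne (0 : U)
  obtain ⟨φ, hφ⟩ := exists_dual_one K hu0
  have he : α (φ.smulRight u0) ≠ 0 := fun e => by
    have h1 := LinearMap.congr_fun (hα (e.trans (map_zero α).symm)) u0
    simp [hφ, hu0] at h1
  obtain ⟨w, hw⟩ : ∃ w, α (φ.smulRight u0) w ≠ 0 := by
    by_contra hcon
    push Not at hcon
    exact he (LinearMap.ext hcon)
  let S : End K U :=
    { toFun := fun v => α (φ.smulRight v) w
      map_add' := fun a b => by
        rw [show φ.smulRight (a + b) = φ.smulRight a + φ.smulRight b by ext; simp, map_add, LinearMap.add_apply]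
      map_smul' := fun c a => by
        rw [show φ.smulRight (c • a) = c • φ.smulRight a by ext; simp [smul_smul, mul_comm], map_smul]
        rfl }
  have hS : ∀ A v, S (A v) = α A (S v) := fun A v => by
    show α (φ.smulRight (A v)) w = α A (α (φ.smulRight v) w)
    rw [← End.mul_apply, ← map_mul]
    congr 2
    ext x
    simp
  have hinj : Function.Injective S := by
    rw [← LinearMap.ker_eq_bot, Submodule.eq_bot_iff]
    intro v hv
    by_contra hv0
    obtain ⟨ψ, hψ⟩ := exists_dual_one K hv0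
    refine hw ?_
    have h1 := hS (ψ.smulRight u0) v
    rw [LinearMap.mem_ker.1 hv, map_zero] at h1
    simpa [hψ, S] using h1
  let e := LinearEquiv.ofBijective S ⟨hinj, LinearMap.surjective_of_injective hinj⟩
  refine ⟨S, e.symm.toLinearMap, LinearMap.ext fun v => e.apply_symm_apply v,
    LinearMap.ext fun v => e.symm_apply_apply v, fun A => LinearMap.ext fun v => hS A v⟩

/-- An operator commuting with every operator is a scalar. -/
theorem scalar_of_commute {S : End K U} (h : ∀ A, S * A = A * S) : ∃ c : K, S = c • 1 := by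
  have hc : S ∈ Subalgebra.center K (End K U) := Subalgebra.mem_center_iff.2 fun A => (h A).symm
  rw [Algebra.IsCentral.center_eq_bot, Algebra.mem_bot] at hc
  obtain ⟨c, rfl⟩ := hc
  exact ⟨c, Algebra.algebraMap_eq_smul_one c⟩

end Inner

variable {Γ : Type*} [Group Γ] {K : Type*} [Field K] {W : Type*} [AddCommGroup W] [Module K W]

/-- `E` acts as a Heisenberg group modulo the scalars of `R`. -/
structure Heis (ρ : Γ →* End K W) (E R : Subgroup Γ) : Prop where
  le : R ≤ E
  abel : ∀ x ∈ E, ∀ y ∈ E, ⁅x, y⁆ ∈ R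
  scalar : ∀ z ∈ R, ∃ c : K, ρ z = c • 1
  pair : ∀ x ∈ E, x ∉ R → ∃ y ∈ E, ρ y * ρ x ≠ ρ x * ρ y

variable {ρ : Γ →* End K W} {E R : Subgroup Γ}

theorem rho_apply_ne (ρ : Γ →* End K W) (g : Γ) {v : W} (hv : v ≠ 0) : ρ g v ≠ 0 := fun e => hv (by
  have h := congrArg (ρ g⁻¹) e
  rw [map_zero, ← End.mul_apply, ← map_mul, inv_mul_cancel, map_one] at h
  exact h)

theorem rho_inv_mul (ρ : Γ →* End K W) (g : Γ) : ρ g⁻¹ * ρ g = 1 := by rw [← map_mul, inv_mul_cancel, map_one]

theorem rho_mul_inv (ρ : Γ →* End K W) (g : Γ) : ρ g * ρ g⁻¹ = 1 := by rw [← map_mul, mul_inv_cancel, map_one]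

/-- Commutators act as scalars. -/
theorem Heis.comm (h : Heis ρ E R) {x y : Γ} (hx : x ∈ E) (hy : y ∈ E) :
    ∃ c : K, ρ y * ρ x = c • (ρ x * ρ y) := by
  obtain ⟨c, hc⟩ := h.scalar _ (h.abel y hy x hx)
  refine ⟨c, ?_⟩
  calc ρ y * ρ x = ρ ⁅y, x⁆ * (ρ x * ρ y) := by
        rw [← map_mul, ← map_mul, ← map_mul, commutatorElement_def]
        congr 1
        group
    _ = _ := by rw [hc, smul_mul_assoc, one_mul]

/-- Operators from distinct cosets are independent on every invariant subspace. -/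
theorem Heis.indep (h : Heis ρ E R) {W' : Submodule K W} (hW : W' ≠ ⊥)
    (hinv : ∀ x ∈ E, ∀ v ∈ W', ρ x v ∈ W') :
    ∀ s : Finset E, (∀ x ∈ s, ∀ y ∈ s, x⁻¹ * y ∈ R.subgroupOf E → x = y) → ∀ c : E → K,
      (∀ v ∈ W', ∑ x ∈ s, c x • ρ (x : Γ) v = 0) → ∀ x ∈ s, c x = 0 := by
  classical
  intro s
  induction s using Finset.strongInduction with
  | H s ih =>
    intro hs c hsum x0 hx0
    by_contra hne
    by_cases hone : ∀ x ∈ s, x = x0
    · obtain ⟨v, hv, hv0⟩ := Submodule.exists_mem_ne_zero_of_ne_bot hW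
      have h1 := hsum v hv
      rw [Finset.sum_eq_single x0 (fun b hb hb' => absurd (hone b hb) hb') (fun h' => absurd hx0 h')] at h1
      exact rho_apply_ne ρ (x0 : Γ) hv0 ((smul_eq_zero.1 h1).resolve_left hne)
    push Not at hone
    obtain ⟨x1, hx1, hne1⟩ := hone
    obtain ⟨y, hy, hyne⟩ := h.pair ((x1⁻¹ * x0 : E) : Γ) (x1⁻¹ * x0 : E).2
      (fun hR => hne1 (hs x1 hx1 x0 hx0 hR))
    have hχ : ∀ x : E, ∃ d : K, ρ y * ρ (x : Γ) = d • (ρ (x : Γ) * ρ y) := fun x => h.comm x.2 hy
    choose d hd using hχ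
    have hd01 : d x0 ≠ d x1 := by
      intro e
      apply hyne
      simp only [Subgroup.coe_mul, InvMemClass.coe_inv, map_mul]
      have h1 : ρ (x1 : Γ) * (ρ y * (ρ (x1 : Γ)⁻¹ * ρ (x0 : Γ))) =
          ρ (x1 : Γ) * (ρ (x1 : Γ)⁻¹ * ρ (x0 : Γ) * ρ y) := by
        have hd1 := hd x1
        by_cases hz : d x1 = 0
        · rw [hz, zero_smul] at hd1
          have h0 : (1 : End K W) = 0 := by
            calc (1 : End K W) = ρ y⁻¹ * (ρ y * ρ (x1 : Γ)) * ρ (x1 : Γ)⁻¹ := by
                  rw [← mul_assoc, rho_inv_mul, one_mul, rho_mul_inv]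
              _ = 0 := by rw [hd1, mul_zero, zero_mul]
          rw [← one_mul (ρ (x1 : Γ) * _), h0, zero_mul, ← one_mul (ρ (x1 : Γ) * (_ * _)), h0, zero_mul]
        · have e1 : ρ (x1 : Γ) * ρ y = (d x1)⁻¹ • (ρ y * ρ (x1 : Γ)) := by
            rw [hd1, smul_smul, inv_mul_cancel₀ hz, one_smul]
          rw [← mul_assoc, e1, smul_mul_assoc, mul_assoc, ← mul_assoc (ρ (x1 : Γ)), rho_mul_inv, one_mul, hd x0, e,
            smul_smul, inv_mul_cancel₀ hz, one_smul, ← mul_assoc, ← mul_assoc, rho_mul_inv, one_mul]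
      have h2 := congrArg (ρ (x1 : Γ)⁻¹ * ·) h1
      simpa only [← mul_assoc, rho_inv_mul, one_mul] using h2
    have hsub : s.erase x1 ⊂ s := Finset.erase_ssubset hx1
    have h0 := ih (s.erase x1) hsub (fun a ha b hb => hs a (Finset.mem_of_mem_erase ha) b (Finset.mem_of_mem_erase hb))
      (fun x => (d x - d x1) * c x) ?_ x0 (Finset.mem_erase.2 ⟨fun e => hne1 e.symm, hx0⟩)
    · exact hne ((mul_eq_zero.1 h0).resolve_left (sub_ne_zero.2 hd01))
    intro v hv
    have h1 := congrArg (ρ y) (hsum (ρ y⁻¹ v) (hinv _ (inv_mem hy) v hv))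
    rw [map_sum, map_zero] at h1
    have h2 : ∀ x : E, ρ y (c x • ρ (x : Γ) (ρ y⁻¹ v)) = (c x * d x) • ρ (x : Γ) v := by
      intro x
      rw [map_smul, ← End.mul_apply, hd x, LinearMap.smul_apply, End.mul_apply, ← End.mul_apply (ρ y),
        rho_mul_inv, End.one_apply, smul_smul]
    rw [Finset.sum_congr rfl fun x _ => h2 x] at h1
    have h3 : ∑ x ∈ s, ((d x - d x1) * c x) • ρ (x : Γ) v = 0 := by
      have e : ∀ x : E, ((d x - d x1) * c x) • ρ (x : Γ) v =
          (c x * d x) • ρ (x : Γ) v - d x1 • (c x • ρ (x : Γ) v) := fun x => by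
        rw [smul_smul, ← sub_smul]; congr 1; ring
      rw [Finset.sum_congr rfl fun x _ => e x, Finset.sum_sub_distrib, h1, ← Finset.smul_sum, hsum v hv,
        smul_zero, sub_zero]
    rw [← Finset.sum_erase s (a := x1) (by rw [sub_self, zero_mul, zero_smul])] at h3
    exact h3

/-- A model of the operators of `E` as a full matrix algebra with a monomial basis. -/
structure Model (ρ : Γ →* End K W) (E R : Subgroup Γ) where
  n : ℕ
  j : End K (Fin n → K) →ₐ[K] End K W
  npos : 0 < n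
  basis : Basis (E ⧸ R.subgroupOf E) K (End K (Fin n → K))
  one : basis ((1 : E) : E ⧸ R.subgroupOf E) = 1
  mem : ∀ x : E, ∃ c : K, c ≠ 0 ∧ ρ (x : Γ) = c • j (basis (x : E ⧸ R.subgroupOf E))
  faithful : ∀ W' : Submodule K W, W' ≠ ⊥ → (∀ x ∈ E, ∀ v ∈ W', ρ x v ∈ W') →
    ∀ A, (∀ v ∈ W', j A v = 0) → A = 0

theorem Model.injective [Nontrivial W] (M : Model ρ E R) : Function.Injective M.j := by
  rw [injective_iff_map_eq_zero]
  intro A hA
  exact M.faithful ⊤ top_ne_bot (fun _ _ _ _ => trivial) A fun v _ => by rw [hA]; rfl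

theorem Model.commute (M : Model ρ E R) {X : End K W} (hX : ∀ x ∈ E, X * ρ x = ρ x * X)
    (A : End K (Fin M.n → K)) : X * M.j A = M.j A * X := by
  induction (M.basis.span_eq.ge (Submodule.mem_top : A ∈ (⊤ : Submodule K _))) using Submodule.span_induction with
  | mem a ha =>
    obtain ⟨t, rfl⟩ := ha
    induction t using QuotientGroup.induction_on with
    | _ x =>
      obtain ⟨c, hc, hx⟩ := M.mem x
      have h1 := hX x x.2
      rw [hx, mul_smul_comm, smul_mul_assoc] at h1
      exact smul_right_injective (End K W) hc h1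
  | zero => rw [map_zero, mul_zero, zero_mul]
  | add a b _ _ ha hb => rw [map_add, mul_add, add_mul, ha, hb]
  | smul c a _ ha => rw [map_smul, mul_smul_comm, smul_mul_assoc, ha]

variable [FiniteDimensional K W]

theorem exists_model [Finite Γ] [IsAlgClosed K] [Nontrivial W] (h : Heis ρ E R) : Nonempty (Model ρ E R) := by
  classical
  haveI := Fintype.ofFinite (E ⧸ R.subgroupOf E)
  -- an irreducible invariant subspace
  obtain ⟨W0, ⟨hW0, hinv⟩, hmin⟩ := wellFounded_lt.has_min
    {W' : Submodule K W | W' ≠ ⊥ ∧ ∀ x ∈ E, ∀ v ∈ W', ρ x v ∈ W'} ⟨⊤, top_ne_bot, fun _ _ _ _ => trivial⟩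
  set n := finrank K W0 with hn
  let e : W0 ≃ₗ[K] (Fin n → K) := (Module.finBasis K W0).equivFun
  let rep : E ⧸ R.subgroupOf E → E := fun t => if t = ((1 : E) : E ⧸ R.subgroupOf E) then 1 else t.out
  have hrep : ∀ t, ((rep t : E) : E ⧸ R.subgroupOf E) = t := fun t => by
    by_cases ht : t = ((1 : E) : E ⧸ R.subgroupOf E)
    · simp only [rep, if_pos ht]; exact ht.symm
    · simp only [rep, if_neg ht]; exact QuotientGroup.out_eq' t
  let res : E → End K (Fin n → K) := fun x => e.conj ((ρ (x : Γ)).restrict (hinv x x.2))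
  have hres_apply : ∀ (x : E) (v : W0), res x (e v) = e ⟨ρ (x : Γ) v, hinv x x.2 v v.2⟩ := fun x v => by
    show e ((ρ (x : Γ)).restrict (hinv x x.2) (e.symm (e v))) = _
    rw [e.symm_apply_apply]
    rfl
  have hres_mul : ∀ x y : E, res (x * y) = res x * res y := fun x y => by
    refine LinearMap.ext fun u => ?_
    obtain ⟨v, rfl⟩ := e.surjective u
    rw [End.mul_apply, hres_apply, hres_apply, hres_apply]
    congr 1
    exact Subtype.ext (by simp [map_mul])
  have hres_one : res 1 = 1 := by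
    refine LinearMap.ext fun u => ?_
    obtain ⟨v, rfl⟩ := e.surjective u
    rw [hres_apply, End.one_apply]
    exact congrArg e (Subtype.ext (show ρ ((1 : E) : Γ) v = v by simp))
  have hscal : ∀ x : E, ∃ c : K, c ≠ 0 ∧ ρ (x : Γ) = c • ρ (rep (x : E ⧸ R.subgroupOf E) : Γ) ∧
      res x = c • res (rep (x : E ⧸ R.subgroupOf E)) := by
    intro x
    set y := rep (x : E ⧸ R.subgroupOf E)
    have hR : ((y⁻¹ * x : E) : Γ) ∈ R :=
      Subgroup.mem_subgroupOf.1 (QuotientGroup.eq.1 (hrep (x : E ⧸ R.subgroupOf E)))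
    obtain ⟨c, hc⟩ := h.scalar _ hR
    have hx : ρ (x : Γ) = c • ρ (y : Γ) := by
      rw [show (x : Γ) = (y : Γ) * ((y⁻¹ * x : E) : Γ) by simp, map_mul, hc, mul_smul_comm, mul_one]
    refine ⟨c, fun h0 => ?_, hx, LinearMap.ext fun u => ?_⟩
    · obtain ⟨v, hv⟩ := exists_ne (0 : W)
      rw [h0, zero_smul] at hx
      exact rho_apply_ne ρ (x : Γ) hv (by rw [hx]; rfl)
    · obtain ⟨v, rfl⟩ := e.surjective u
      rw [LinearMap.smul_apply, hres_apply, hres_apply, ← map_smul]
      congr 1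
      exact Subtype.ext (LinearMap.congr_fun hx v)
  let B : E ⧸ R.subgroupOf E → End K (Fin n → K) := fun t => res (rep t)
  have hindep : ∀ W' : Submodule K W, W' ≠ ⊥ → (∀ x ∈ E, ∀ v ∈ W', ρ x v ∈ W') →
      ∀ c : E ⧸ R.subgroupOf E → K, (∀ v ∈ W', ∑ t, c t • ρ (rep t : Γ) v = 0) → ∀ t, c t = 0 := by
    intro W' h1 h2 c hc t
    have hinj : Function.Injective rep := fun a b e' => by rw [← hrep a, ← hrep b, e']
    have h3 := h.indep h1 h2 (Finset.univ.map ⟨rep, hinj⟩) ?_ (fun x => c (x : E ⧸ R.subgroupOf E)) ?_ (rep t)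
      (Finset.mem_map.2 ⟨t, Finset.mem_univ _, rfl⟩)
    · simpa [hrep] using h3
    · intro a ha b hb hab
      obtain ⟨t1, -, rfl⟩ := Finset.mem_map.1 ha
      obtain ⟨t2, -, rfl⟩ := Finset.mem_map.1 hb
      simp only [Function.Embedding.coeFn_mk] at hab ⊢
      rw [← hrep t1, ← hrep t2, QuotientGroup.eq.2 hab]
    · intro v hv
      rw [Finset.sum_map]
      simpa [hrep] using hc v hv
  have hli : LinearIndependent K B := by
    rw [Fintype.linearIndependent_iff]
    intro c hc
    refine hindep W0 hW0 hinv c fun v hv => ?_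
    have h1 := LinearMap.congr_fun hc (e ⟨v, hv⟩)
    simp only [B, LinearMap.sum_apply, LinearMap.smul_apply, hres_apply, LinearMap.zero_apply, ← map_smul,
      ← map_sum] at h1
    have h2 := congrArg Subtype.val (e.injective (h1.trans (map_zero e).symm))
    simpa using h2
  -- the span of the operators is everything
  let S : Subalgebra K (End K (Fin n → K)) := Algebra.adjoin K (Set.range res)
  have hS : Subalgebra.toSubmodule S ≤ Submodule.span K (Set.range B) := by
    have hm : (Submonoid.closure (Set.range res) : Set (End K (Fin n → K))) ⊆ Set.range res := by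
      intro a ha
      induction ha using Submonoid.closure_induction with
      | mem a ha => exact ha
      | one => exact ⟨1, hres_one⟩
      | mul a b _ _ ha hb =>
        obtain ⟨x, rfl⟩ := ha
        obtain ⟨y, rfl⟩ := hb
        exact ⟨x * y, hres_mul x y⟩
    rw [Algebra.adjoin_eq_span]
    refine Submodule.span_le.2 fun a ha => ?_
    obtain ⟨x, rfl⟩ := hm ha
    obtain ⟨c, -, -, hx⟩ := hscal x
    rw [SetLike.mem_coe, hx]
    exact Submodule.smul_mem _ _ (Submodule.subset_span ⟨_, rfl⟩)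
  have hnpos : 0 < n := Module.finrank_pos_iff.2 (Submodule.nontrivial_iff_ne_bot.2 hW0)
  haveI : Nonempty (Fin n) := ⟨⟨0, hnpos⟩⟩
  haveI : IsSimpleModule S (Fin n → K) := by
    refine { eq_bot_or_eq_top := fun N => ?_ }
    let N' : Submodule K W := ((N.restrictScalars K).comap e.toLinearMap).map W0.subtype
    by_cases hN : N' = ⊥
    · left
      refine (Submodule.eq_bot_iff _).2 fun u hu => ?_
      obtain ⟨v, rfl⟩ := e.surjective u
      have h1 : (v : W) ∈ N' := ⟨v, hu, rfl⟩
      rw [hN, Submodule.mem_bot] at h1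
      rw [show v = 0 from Subtype.ext h1, map_zero]
    · right
      have hN'inv : ∀ x ∈ E, ∀ v ∈ N', ρ x v ∈ N' := by
        rintro x hx _ ⟨v, hv, rfl⟩
        refine ⟨⟨ρ x v, hinv x hx v v.2⟩, ?_, rfl⟩
        show e ⟨ρ x v, hinv x hx v v.2⟩ ∈ N
        rw [← hres_apply ⟨x, hx⟩ v]
        exact N.smul_mem ⟨res ⟨x, hx⟩, Algebra.subset_adjoin ⟨_, rfl⟩⟩ hv
      have hle : N' ≤ W0 := by rintro _ ⟨v, -, rfl⟩; exact v.2
      have heq : N' = W0 := eq_of_le_of_not_lt hle (hmin N' ⟨hN, hN'inv⟩)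
      refine eq_top_iff.2 fun u _ => ?_
      obtain ⟨v, rfl⟩ := e.surjective u
      obtain ⟨v', hv', e'⟩ := heq.ge v.2
      rw [← Subtype.ext (e' : (v' : W) = (v : W))]
      exact hv'
  have hspan : ⊤ ≤ Submodule.span K (Set.range B) := by
    intro f _
    let f' : End (End S (Fin n → K)) (Fin n → K) :=
      { toFun := f
        map_add' := f.map_add
        map_smul' := fun g v => by
          obtain ⟨c, rfl⟩ := (IsSimpleModule.algebraMap_end_bijective_of_isAlgClosed (A := S)
            (V := Fin n → K) K).2 g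
          simp }
    obtain ⟨a, ha⟩ := jacobson_density (R := S) (M := Fin n → K) f' (Finset.univ.image (Pi.basisFun K (Fin n)))
    have hfa : f = (a : End K (Fin n → K)) :=
      (Pi.basisFun K (Fin n)).ext fun i => ha _ (Finset.mem_image_of_mem _ (Finset.mem_univ i))
    rw [hfa]
    exact hS a.2
  let b := Basis.mk hli hspan
  have hb : ∀ t, b t = res (rep t) := fun t => Basis.mk_apply _ _ t
  let jl : End K (Fin n → K) →ₗ[K] End K W := b.constr K fun t => ρ (rep t : Γ)
  have hjl : ∀ t, jl (b t) = ρ (rep t : Γ) := fun t => b.constr_basis K _ t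
  have hjx : ∀ x : E, jl (res x) = ρ (x : Γ) := fun x => by
    obtain ⟨c, -, h1, h2⟩ := hscal x
    rw [h2, map_smul, ← hb, hjl, h1]
  have hmul : ∀ A A', jl (A * A') = jl A * jl A' := by
    have h1 : ∀ t A', jl (b t * A') = jl (b t) * jl A' := by
      intro t
      have h2 : jl.comp (LinearMap.mulLeft K (b t)) = (LinearMap.mulLeft K (jl (b t))).comp jl :=
        b.ext fun t' => by
          simp only [LinearMap.comp_apply, LinearMap.mulLeft_apply]
          rw [hjl, hjl, hb, hb, ← hres_mul, hjx, Subgroup.coe_mul, map_mul]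
      exact fun A' => LinearMap.congr_fun h2 A'
    intro A A'
    have h2 : jl.comp (LinearMap.mulRight K A') = (LinearMap.mulRight K (jl A')).comp jl :=
      b.ext fun t => h1 t A'
    exact LinearMap.congr_fun h2 A
  let j : End K (Fin n → K) →ₐ[K] End K W :=
    AlgHom.ofLinearMap jl (by rw [← hres_one, hjx]; exact map_one ρ) hmul
  refine ⟨⟨n, j, hnpos, b, ?_, fun x => ?_, fun W' h1 h2 A hA => ?_⟩⟩
  · rw [hb]; simp only [rep, if_pos rfl]; exact hres_one
  · obtain ⟨c, hc, h1, -⟩ := hscal x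
    exact ⟨c, hc, by show _ = c • jl (b _); rw [hjl]; exact h1⟩
  · have h3 := hindep W' h1 h2 (b.repr A) fun v hv => by
      have h4 : jl A v = 0 := hA v hv
      rw [← b.sum_repr A, map_sum] at h4
      simpa [hjl] using h4
    rw [← b.sum_repr A]
    simp [h3]

/-- Conjugation by an element normalising `E` and `R`, some power of which commutes with `E`, is inner in the
model, by an operator of finite order permuting the basis. -/
theorem Model.exists_op [IsAlgClosed K] [Nontrivial W] (M : Model ρ E R) {g : Γ}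
    (hE : ∀ x ∈ E, g * x * g⁻¹ ∈ E ∧ g⁻¹ * x * g ∈ E) (hR : ∀ x ∈ R, g * x * g⁻¹ ∈ R ∧ g⁻¹ * x * g ∈ R)
    {N : ℕ} (hN : 0 < N) (hcomm : ∀ x ∈ E, ρ (g ^ N) * ρ x = ρ x * ρ (g ^ N)) :
    ∃ (S : End K (Fin M.n → K)) (π : Equiv.Perm (E ⧸ R.subgroupOf E)), S ^ N = 1 ∧ π ^ N = 1 ∧
      (∀ x : E, π (x : E ⧸ R.subgroupOf E) = ((⟨g * x * g⁻¹, (hE x x.2).1⟩ : E) : E ⧸ R.subgroupOf E)) ∧
      (∀ t, ∃ c : K, S * M.basis t = c • (M.basis (π t) * S)) ∧
      ∀ A, ρ g * M.j A = M.j (S * A * S ^ (N - 1)) * ρ g := by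
  classical
  have hconjR : ∀ x y : E, ((x⁻¹ * y : E) : Γ) ∈ R ↔
      (((⟨g * x * g⁻¹, (hE x x.2).1⟩ : E)⁻¹ * ⟨g * y * g⁻¹, (hE y y.2).1⟩ : E) : Γ) ∈ R := by
    intro x y
    simp only [Subgroup.coe_mul, InvMemClass.coe_inv]
    rw [show (g * (x : Γ) * g⁻¹)⁻¹ * (g * y * g⁻¹) = g * ((x : Γ)⁻¹ * y) * g⁻¹ by group]
    refine ⟨fun hh => (hR _ hh).1, fun hh => ?_⟩
    have := (hR _ hh).2
    simpa [mul_assoc] using this
  let π : Equiv.Perm (E ⧸ R.subgroupOf E) :=
    Equiv.ofBijective (Quotient.map' (fun x : E => (⟨g * x * g⁻¹, (hE x x.2).1⟩ : E)) fun x y hxy => by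
      rw [QuotientGroup.leftRel_apply, Subgroup.mem_subgroupOf] at hxy ⊢
      exact (hconjR x y).1 hxy) ⟨fun a b => by
        induction a using QuotientGroup.induction_on
        induction b using QuotientGroup.induction_on
        intro e
        exact QuotientGroup.eq.2 (Subgroup.mem_subgroupOf.2
          ((hconjR _ _).2 (Subgroup.mem_subgroupOf.1 (QuotientGroup.eq.1 e)))), fun a => by
        induction a using QuotientGroup.induction_on with
        | _ x => exact ⟨((⟨g⁻¹ * x * g, (hE x x.2).2⟩ : E) : E ⧸ R.subgroupOf E),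
            congrArg QuotientGroup.mk (Subtype.ext (by simp [mul_assoc]))⟩⟩
  have hπ : ∀ x : E, π (x : E ⧸ R.subgroupOf E) =
      ((⟨g * x * g⁻¹, (hE x x.2).1⟩ : E) : E ⧸ R.subgroupOf E) := fun x => rfl
  have hbase : ∀ t, ∃ d : K, d ≠ 0 ∧
      ρ g * M.j (M.basis t) * ρ g⁻¹ = d • M.j (M.basis (π t)) := by
    intro t
    induction t using QuotientGroup.induction_on with
    | _ x =>
      obtain ⟨c, hc, hx⟩ := M.mem x
      obtain ⟨c', hc', hx'⟩ := M.mem ⟨g * x * g⁻¹, (hE x x.2).1⟩
      refine ⟨c⁻¹ * c', mul_ne_zero (inv_ne_zero hc) hc', ?_⟩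
      rw [hπ, show M.j (M.basis (x : E ⧸ R.subgroupOf E)) = c⁻¹ • ρ (x : Γ) by
        rw [hx, smul_smul, inv_mul_cancel₀ hc, one_smul], mul_smul_comm, smul_mul_assoc, ← map_mul, ← map_mul,
        show ρ (g * (x : Γ) * g⁻¹) = c' • M.j (M.basis _) from hx', smul_smul]
  choose d hd0 hd using hbase
  let αl : End K (Fin M.n → K) →ₗ[K] End K (Fin M.n → K) := M.basis.constr K fun t => d t • M.basis (π t)
  have hα : ∀ A, M.j (αl A) = ρ g * M.j A * ρ g⁻¹ := by
    have h1 : M.j.toLinearMap.comp αl =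
        (LinearMap.mulLeft K (ρ g)).comp ((LinearMap.mulRight K (ρ g⁻¹)).comp M.j.toLinearMap) :=
      M.basis.ext fun t => by simpa [αl, mul_assoc] using (hd t).symm
    intro A
    simpa [mul_assoc] using LinearMap.congr_fun h1 A
  let α : End K (Fin M.n → K) →ₐ[K] End K (Fin M.n → K) := AlgHom.ofLinearMap αl
    (M.injective (by rw [hα, map_one, mul_one, rho_mul_inv]))
    (fun A A' => M.injective (by
      rw [hα, map_mul, map_mul, hα, hα]
      simp only [mul_assoc]
      rw [← mul_assoc (ρ g⁻¹) (ρ g), rho_inv_mul, one_mul]))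
  haveI : Nonempty (Fin M.n) := ⟨⟨0, M.npos⟩⟩
  have hαinj : Function.Injective α := fun A A' e => M.injective (by
    have h1 := congrArg (fun X => ρ g⁻¹ * M.j X * ρ g) e
    simp only [α, AlgHom.ofLinearMap_apply, hα] at h1
    simpa [← mul_assoc, rho_inv_mul, mul_assoc (M.j _)] using h1)
  obtain ⟨S, Si, hSS, hSiS, hS⟩ := exists_inner α hαinj
  have hmove : ∀ t, S * M.basis t = d t • (M.basis (π t) * S) := fun t => by
    rw [hS, show α (M.basis t) = d t • M.basis (π t) from M.basis.constr_basis K _ t, smul_mul_assoc]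
  have hpow : ∀ (k : ℕ) A, M.j ((α : End K (Fin M.n → K) → _)^[k] A) = ρ (g ^ k) * M.j A * ρ (g ^ k)⁻¹ ∧
      S ^ k * A = (α : End K (Fin M.n → K) → _)^[k] A * S ^ k := by
    intro k
    induction k with
    | zero => intro A; simp
    | succ k ih =>
      intro A
      rw [Function.iterate_succ_apply']
      refine ⟨?_, ?_⟩
      · show M.j (αl _) = _
        rw [hα, (ih A).1, pow_succ', mul_inv_rev, map_mul, map_mul]
        simp only [mul_assoc]
      · rw [pow_succ', mul_assoc, (ih A).2, ← mul_assoc, hS, mul_assoc]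
  have hπN : π ^ N = 1 := by
    have hiter : ∀ k (t : E ⧸ R.subgroupOf E), ∃ c : K, c ≠ 0 ∧
        (α : End K (Fin M.n → K) → _)^[k] (M.basis t) = c • M.basis ((π ^ k) t) := by
      intro k
      induction k with
      | zero => intro t; exact ⟨1, one_ne_zero, by simp⟩
      | succ k ih =>
        intro t
        obtain ⟨c, hc, e⟩ := ih t
        refine ⟨c * d ((π ^ k) t), mul_ne_zero hc (hd0 _), ?_⟩
        rw [Function.iterate_succ_apply', e, map_smul, show α (M.basis ((π ^ k) t)) = _ from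
          M.basis.constr_basis K _ _, smul_smul, pow_succ', Equiv.Perm.mul_apply]
    refine Equiv.ext fun t => ?_
    obtain ⟨c, hc, e⟩ := hiter N t
    have h1 : (α : End K (Fin M.n → K) → _)^[N] (M.basis t) = M.basis t := M.injective (by
      rw [(hpow N _).1, M.commute hcomm, mul_assoc, rho_mul_inv, mul_one])
    rw [h1] at e
    by_contra hne
    have h2 := congrArg (fun X => M.basis.repr X t) e
    simp only [map_smul, Basis.repr_self, Finsupp.single_eq_same, Finsupp.coe_smul, Pi.smul_apply,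
      smul_eq_mul] at h2
    rw [Finsupp.single_eq_of_ne (fun e' => hne (by rw [Equiv.Perm.one_apply]; exact e'.symm)), mul_zero] at h2
    exact one_ne_zero h2
  obtain ⟨c, hc⟩ := scalar_of_commute (S := S ^ N) fun A => by
    rw [(hpow N A).2, show (α : End K (Fin M.n → K) → _)^[N] A = A from M.injective (by
      rw [(hpow N A).1, M.commute hcomm, mul_assoc, rho_mul_inv, mul_one])]
  have hc0 : c ≠ 0 := fun e => by
    rw [e, zero_smul] at hc
    have h1 : S ^ N * Si ^ N = 1 := by
      rw [← (show Commute S Si from hSS.trans hSiS.symm).mul_pow, hSS, one_pow]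
    rw [hc, zero_mul] at h1
    exact zero_ne_one h1
  obtain ⟨z, hz⟩ := IsAlgClosed.exists_pow_nat_eq c⁻¹ hN
  have hz0 : z ≠ 0 := fun e => inv_ne_zero hc0 (by rw [← hz, e, zero_pow hN.ne'])
  refine ⟨z • S, π, ?_, hπN, hπ, fun t => ⟨d t, ?_⟩, fun A => ?_⟩
  · rw [smul_pow, hz, hc, smul_smul, inv_mul_cancel₀ hc0, one_smul]
  · rw [smul_mul_assoc, hmove, mul_smul_comm, smul_comm]
  · have hone : (z • S) * (z • S) ^ (N - 1) = 1 := by
      rw [← pow_succ', Nat.sub_add_cancel hN, smul_pow, hz, hc, smul_smul, inv_mul_cancel₀ hc0, one_smul]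
    rw [show (z • S) * A = α A * (z • S) by rw [smul_mul_assoc, hS, mul_smul_comm], mul_assoc, hone, mul_one,
      show M.j (α A) = _ from hα A, mul_assoc, rho_inv_mul, mul_one]

end Cfsg.Lib.FitHeight
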