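import Cfsg.Agent.Lib.FitHeight.Sign
import Cfsg.Agent.Lib.FitHeight.Comp
import Cfsg.Agent.Lib.Coprime.Action

/-!
# Components under a coprime element of prime order
-/

set_option autoImplicit false

namespace Cfsg.Lib.FitHeight

open Module Cfsg.Lib.Local Cfsg.Lib.FitTwo
open scoped commutatorElement

variable {Γ : Type*} [Group Γ] [Finite Γ]

section Coprime

variable {U N : Subgroup Γ} {s : Γ}

theorem conj_pow_mem (hs : s ∈ Subgroup.normalizer (U : Set Γ)) {x : Γ} (hx : x ∈ U) (i : ℕ) :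
    s ^ i * x * (s ^ i)⁻¹ ∈ U :=
  (Subgroup.mem_normalizer_iff.1 (pow_mem hs i) x).1 hx

theorem zpowers_le_normalizer (hs : s ∈ Subgroup.normalizer (U : Set Γ)) :
    Subgroup.zpowers s ≤ Subgroup.normalizer (U : Set Γ) :=
  Subgroup.zpowers_le.2 hs

theorem isSolvable_zpowers (s : Γ) : Group.IsSolvable (Subgroup.zpowers s) :=
  Group.isSolvable_of_comm fun a b => mul_comm' a b

theorem coprime_zpowers {r : ℕ} (hr : r.Prime) (hs : s ^ r = 1) (hcop : r.Coprime (Nat.card U)) :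
    (Nat.card (Subgroup.zpowers s)).Coprime (Nat.card U) := by
  rw [Nat.card_zpowers]
  exact hcop.coprime_dvd_left (orderOf_dvd_of_pow_eq_one hs)

/-- A coset fixed by a nontrivial power of `s` meets the fixed points. -/
theorem mem_of_coset_fixed {r : ℕ} (hr : r.Prime) (hsr : s ^ r = 1) (hcop : r.Coprime (Nat.card U)) (hNU : N ≤ U)
    (hsU : s ∈ Subgroup.normalizer (U : Set Γ)) (hsN : s ∈ Subgroup.normalizer (N : Set Γ))
    (hC : ∀ x ∈ U, s * x = x * s → x ∈ N) {x : Γ} (hx : x ∈ U) {j : ℕ} (hj0 : 0 < j) (hjr : j < r)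
    (h : ⁅x, s ^ j⁆ ∈ N) : x ∈ N := by
  have hjc : j.Coprime r :=
    ((hr.coprime_iff_not_dvd).2 fun hd => absurd (Nat.le_of_dvd hj0 hd) (not_le.2 hjr)).symm
  set g := s ^ j with hg
  have hgr : g ^ r = 1 := by rw [hg, ← pow_mul, mul_comm, pow_mul, hsr, one_pow]
  have hgN : g ∈ Subgroup.normalizer (N : Set Γ) := pow_mem hsN j
  have hall : ∀ a ∈ Subgroup.zpowers g, ⁅x, a⁆ ∈ N := by
    intro a ha
    obtain ⟨k, rfl⟩ := mem_powers_iff_mem_zpowers.2 ha
    clear ha
    show ⁅x, g ^ k⁆ ∈ N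
    induction k with
    | zero => simp
    | succ k ih =>
      rw [show ⁅x, g ^ (k + 1)⁆ = ⁅x, g ^ k⁆ * (g ^ k * ⁅x, g⁆ * (g ^ k)⁻¹) by
        rw [pow_succ]; simp only [commutatorElement_def]; group]
      exact mul_mem ih (conj_pow_mem hgN h k)
  obtain ⟨n, hn, c, hc, rfl⟩ := Cfsg.Lib.Coprime.exists_mul_centralizer_of_commutator_mem
    (zpowers_le_normalizer (pow_mem hsU j)) (coprime_zpowers hr hgr hcop)
    (Or.inl (isSolvable_zpowers g)) hNU (zpowers_le_normalizer hgN) hx hall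
  refine mul_mem hn (hC c hc.1 ?_)
  obtain ⟨k, hk⟩ := exists_pow_eq_self_of_coprime (x := s)
    (hjc.coprime_dvd_right (orderOf_dvd_of_pow_eq_one hsr))
  have h1 : g ^ k * c = c * g ^ k :=
    Subgroup.mem_centralizer_iff.1 hc.2 _ (pow_mem (Subgroup.mem_zpowers g) k)
  rwa [show g ^ k = s from hk] at h1

/-- A subgroup with the fixed points and the displacements contains everything. -/
theorem le_of_fixed_moved {r : ℕ} (hr : r.Prime) (hsr : s ^ r = 1) (hcop : r.Coprime (Nat.card U))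
    (hsU : s ∈ Subgroup.normalizer (U : Set Γ)) (M : Subgroup Γ) (hC : ∀ x ∈ U, s * x = x * s → x ∈ M)
    (hM : ∀ x ∈ U, x * (s * x * s⁻¹)⁻¹ ∈ M) : U ≤ M := by
  intro x hx
  have hle : ⁅U, Subgroup.zpowers s⁆ ≤ M := by
    rw [Subgroup.commutator_le]
    intro u hu a ha
    obtain ⟨k, rfl⟩ := mem_powers_iff_mem_zpowers.2 ha
    clear ha
    show ⁅u, s ^ k⁆ ∈ M
    induction k with
    | zero => simp
    | succ k ih =>
      rw [show ⁅u, s ^ (k + 1)⁆ = ⁅u, s ^ k⁆ *
        ((s ^ k * u * (s ^ k)⁻¹) * (s * (s ^ k * u * (s ^ k)⁻¹) * s⁻¹)⁻¹) by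
          rw [pow_succ]; simp only [commutatorElement_def]; group]
      exact mul_mem ih (hM _ (conj_pow_mem hsU hu k))
  obtain ⟨n, hn, c, hc, rfl⟩ := Cfsg.Lib.Coprime.le_commutator_sup_centralizer
    (zpowers_le_normalizer hsU) (coprime_zpowers hr hsr hcop) (Or.inl (isSolvable_zpowers s)) hx
  exact mul_mem (hle hn) (hC c hc.1 (Subgroup.mem_centralizer_iff.1 hc.2 s (Subgroup.mem_zpowers s)))

end Coprime

variable {K : Type*} [Field K] {V : Type*} [AddCommGroup V] [Module K V] {Q Z : Subgroup Γ} {h : Cls Q Z}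
  {ρ : Γ →* End K V} {ω : Γ → K}

omit [Finite Γ] in
theorem translate_translate (a b : Γ) (f : Γ → K) : FitTwo.translate a (FitTwo.translate b f) = FitTwo.translate (a * b) f := by
  funext x
  show f (b⁻¹ * (a⁻¹ * x * a) * b) = f ((a * b)⁻¹ * x * (a * b))
  congr 1
  group

omit [Finite Γ] in
theorem translate_one (f : Γ → K) : FitTwo.translate (1 : Γ) f = f := by
  funext x
  show f (1⁻¹ * x * 1) = f x
  simp

omit [Finite Γ] in
theorem Cls.le_normalizer (h : Cls Q Z) : Q ≤ Subgroup.normalizer (Z : Set Γ) := fun x hx => by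
  refine Subgroup.mem_normalizer_iff.2 fun z => ⟨fun hz => ?_, fun hz => ?_⟩
  · rwa [← h.cent z hz x hx, mul_inv_cancel_right]
  · have e := h.cent _ hz x hx
    rw [inv_mul_cancel_right] at e
    rwa [← mul_left_cancel e] at hz

theorem Comp.translate_self (hω : Comp h ρ ω) {x : Γ} (hx : x ∈ Q) : FitTwo.translate x ω = ω := by
  obtain ⟨v, hv, hv0⟩ := Submodule.exists_mem_ne_zero_of_ne_bot hω.occurs
  exact ((hω.translate (Subgroup.le_normalizer hx) (h.le_normalizer hx)).eq_of_mem hω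
    (map_cspace (Subgroup.le_normalizer hx) (h.le_normalizer hx) hv) (hω.maps hx hv) (rho_apply_ne ρ x hv0))

/-- A normal subgroup fixing a nonzero vector of a component acts trivially on it. -/
theorem Comp.kills (hω : Comp h ρ ω) {S : Subgroup Γ} (hS : S ≤ Q)
    (hn : ∀ y ∈ Q, ∀ x ∈ S, y * x * y⁻¹ ∈ S) {v : V} (hv : v ∈ cspace h ρ ω) (hv0 : v ≠ 0)
    (hfix : ∀ x ∈ S, ρ x v = v) : ∀ x ∈ S, ∀ u ∈ cspace h ρ ω, ρ x u = u := by
  intro x hx u hu
  have hrad : x ∈ rad h ρ ω := (hω.mem_rad_iff).2 ⟨hS hx, fun y hy => by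
    refine smul_left_injective K hv0 ?_
    show ω ⁅x, y⁆ • v = (1 : K) • v
    rw [← apply_rad hv (le_rad h ρ ω (h.comm x (hS hx) y hy)), one_smul, commutatorElement_def,
      show x * y * x⁻¹ * y⁻¹ = x * (y * x⁻¹ * y⁻¹) by group, map_mul, End.mul_apply,
      hfix _ (hn y hy _ (inv_mem hx)), hfix x hx]⟩
  have h1 : ω x = 1 := smul_left_injective K hv0 (by
    show ω x • v = (1 : K) • v
    rw [← apply_rad hv hrad, hfix x hx, one_smul])
  rw [apply_rad hu hrad, h1, one_smul]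

/-- `S` acts trivially on the component. -/
def Dead (h : Cls Q Z) (ρ : Γ →* End K V) (S : Subgroup Γ) (ω : Γ → K) : Prop :=
  ∀ x ∈ S, ∀ u ∈ cspace h ρ ω, ρ x u = u

/-- The sum over a subgroup. -/
noncomputable def sumOf (ρ : Γ →* End K V) (S : Subgroup Γ) : End K V :=
  letI := Fintype.ofFinite S
  ∑ x : S, ρ (x : Γ)

theorem sumOf_apply (S : Subgroup Γ) [Fintype S] (v : V) : sumOf ρ S v = ∑ x : S, ρ (x : Γ) v := by
  rw [sumOf, LinearMap.sum_apply]
  exact Finset.sum_congr (by ext; simp) fun _ _ => rfl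

theorem sumOf_fixed (S : Subgroup Γ) (v : V) {y : Γ} (hy : y ∈ S) : ρ y (sumOf ρ S v) = sumOf ρ S v := by
  letI := Fintype.ofFinite S
  rw [sumOf_apply, map_sum]
  refine Fintype.sum_equiv (Equiv.mulLeft (⟨y, hy⟩ : S)) _ _ fun x => ?_
  show ρ y (ρ (x : Γ) v) = ρ (y * (x : Γ)) v
  rw [map_mul, End.mul_apply]

theorem sumOf_conj {S : Subgroup Γ} {g : Γ} (hg : g ∈ Subgroup.normalizer (S : Set Γ)) (v : V) :
    sumOf ρ S (ρ g v) = ρ g (sumOf ρ S v) := by
  letI := Fintype.ofFinite S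
  rw [sumOf_apply, sumOf_apply, map_sum]
  let φ : S ≃ S :=
    { toFun := fun x => ⟨g⁻¹ * x * g, by
        simpa using (Subgroup.mem_normalizer_iff.1 (inv_mem hg) (x : Γ)).1 x.2⟩
      invFun := fun x => ⟨g * x * g⁻¹, (Subgroup.mem_normalizer_iff.1 hg (x : Γ)).1 x.2⟩
      left_inv := fun x => Subtype.ext (by simp only; group)
      right_inv := fun x => Subtype.ext (by simp only; group) }
  refine Fintype.sum_equiv φ _ _ fun x => ?_
  show ρ (x : Γ) (ρ g v) = ρ g (ρ (g⁻¹ * (x : Γ) * g) v)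
  rw [← End.mul_apply, ← map_mul, ← End.mul_apply, ← map_mul]
  congr 2
  group

theorem sumOf_of_fixed {S : Subgroup Γ} {v : V} (hv : ∀ x ∈ S, ρ x v = v) :
    sumOf ρ S v = (Nat.card S : K) • v := by
  letI := Fintype.ofFinite S
  rw [sumOf_apply, Finset.sum_congr rfl fun (x : S) _ => hv x x.2, Finset.sum_const, Finset.card_univ,
    ← Nat.card_eq_fintype_card, ← Nat.cast_smul_eq_nsmul K]

/-- A component on which `S` is not trivial has trivial sums over `S`. -/
theorem Comp.sum_eq_zero (hω : Comp h ρ ω) {S : Subgroup Γ} (hS : S ≤ Q)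
    (hn : ∀ y ∈ Q, ∀ x ∈ S, y * x * y⁻¹ ∈ S) (hd : ¬ Dead h ρ S ω) {v : V} (hv : v ∈ cspace h ρ ω) :
    sumOf ρ S v = 0 := by
  by_contra hne
  refine hd (hω.kills hS hn ?_ hne fun x hx => sumOf_fixed S v hx)
  letI := Fintype.ofFinite S
  rw [sumOf_apply]
  exact Submodule.sum_mem _ fun x _ => hω.maps (hS x.2) hv

/-- The vectors fixed by `s` with trivial sum over `S`. -/
noncomputable def fixNull (ρ : Γ →* End K V) (S : Subgroup Γ) (s : Γ) : Submodule K V :=
  LinearMap.ker (ρ s - 1) ⊓ LinearMap.ker (sumOf ρ S)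

theorem mem_fixNull {S : Subgroup Γ} {s : Γ} {v : V} : v ∈ fixNull ρ S s ↔ ρ s v = v ∧ sumOf ρ S v = 0 := by
  simp [fixNull, sub_eq_zero]

theorem fixNull_maps {S : Subgroup Γ} {s g : Γ} (hg : g ∈ Subgroup.normalizer (S : Set Γ)) (hgs : s * g = g * s)
    {v : V} (hv : v ∈ fixNull ρ S s) : ρ g v ∈ fixNull ρ S s := by
  obtain ⟨h1, h2⟩ := mem_fixNull.1 hv
  refine mem_fixNull.2 ⟨?_, by rw [sumOf_conj hg, h2, map_zero]⟩
  rw [← End.mul_apply, ← map_mul, hgs, map_mul, End.mul_apply, h1]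

section Prime

variable {s : Γ} {r : ℕ} (hr : r.Prime) (hsr : s ^ r = 1) (hsQ : s ∈ Subgroup.normalizer (Q : Set Γ))
  (hsZ : s ∈ Subgroup.normalizer (Z : Set Γ))
include hr hsr hsQ hsZ

/-- The orbit sum of a vector. -/
theorem Comp.orbit_mem (hω : Comp h ρ ω) {S : Subgroup Γ} (hS : S ≤ Q)
    (hn : ∀ y ∈ Q, ∀ x ∈ S, y * x * y⁻¹ ∈ S) (hsS : s ∈ Subgroup.normalizer (S : Set Γ)) (hd : ¬ Dead h ρ S ω)
    {v : V} (hv : v ∈ cspace h ρ ω) :
    ∑ i ∈ Finset.range r, ρ (s ^ i) v ∈ fixNull ρ S s := by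
  refine mem_fixNull.2 ⟨?_, ?_⟩
  · rw [map_sum]
    have h1 := Finset.sum_range_succ' (fun i => ρ (s ^ i) v) r
    have h2 := Finset.sum_range_succ (fun i => ρ (s ^ i) v) r
    rw [hsr] at h2
    rw [pow_zero] at h1
    rw [h1] at h2
    refine (Finset.sum_congr rfl fun i _ => ?_).trans (add_right_cancel h2)
    rw [← End.mul_apply, ← map_mul, ← pow_succ']
  · rw [map_sum]
    refine Finset.sum_eq_zero fun i _ => ?_
    rw [sumOf_conj (pow_mem hsS i), hω.sum_eq_zero hS hn hd hv, map_zero]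

theorem pow_translate_ne (hmov : FitTwo.translate s ω ≠ ω) {i : ℕ} (hi0 : 0 < i) (hir : i < r) :
    FitTwo.translate (s ^ i) ω ≠ ω := by
  intro e
  refine hmov ?_
  let F : Subgroup Γ :=
    { carrier := {g | FitTwo.translate g ω = ω}
      one_mem' := translate_one ω
      mul_mem' := fun {a b} ha hb => by
        show FitTwo.translate (a * b) ω = ω
        rw [← translate_translate, hb, ha]
      inv_mem' := fun {a} ha => by
        show FitTwo.translate a⁻¹ ω = ω
        conv_lhs => rw [← ha]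
        rw [translate_translate, inv_mul_cancel, translate_one] }
  have h1 : s ^ i ∈ F := e
  obtain ⟨k, hk⟩ := exists_pow_eq_self_of_coprime (x := s)
    (((hr.coprime_iff_not_dvd).2 fun hd => absurd (Nat.le_of_dvd hi0 hd) (not_le.2 hir)).symm.coprime_dvd_right
      (orderOf_dvd_of_pow_eq_one hsr))
  have h2 := pow_mem h1 k
  rwa [hk] at h2

/-- An element fixing the orbit sums of a moved component is trivial on it. -/
theorem Comp.trivial_of_moved (hω : Comp h ρ ω) (hQ : (Nat.card Q : K) ≠ 0) (hmov : FitTwo.translate s ω ≠ ω)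
    {y : Γ} (hyQ : y ∈ Subgroup.normalizer (Q : Set Γ)) (hyZ : y ∈ Subgroup.normalizer (Z : Set Γ))
    (hsy : s * y = y * s) (hyr : (orderOf y).Coprime r)
    (hfix : ∀ v ∈ cspace h ρ ω, ρ y (∑ i ∈ Finset.range r, ρ (s ^ i) v) = ∑ i ∈ Finset.range r, ρ (s ^ i) v) :
    ∀ v ∈ cspace h ρ ω, ρ y v = v := by
  classical
  have hw : ∀ i, Comp h ρ (FitTwo.translate (s ^ i) ω) := fun i => hω.translate (pow_mem hsQ i) (pow_mem hsZ i)
  have hmap : ∀ i {v : V}, v ∈ cspace h ρ ω → ρ (s ^ i) v ∈ cspace h ρ (FitTwo.translate (s ^ i) ω) :=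
    fun i v hv => map_cspace (pow_mem hsQ i) (pow_mem hsZ i) hv
  have hinj : ∀ i j, i < r → j < r → FitTwo.translate (s ^ i) ω = FitTwo.translate (s ^ j) ω → i ≤ j → i = j := by
    intro i j hi hj e hle
    by_contra hne
    refine pow_translate_ne hr hsr hsQ hsZ hmov (i := j - i) (by omega) (by omega) ?_
    have e2 := congrArg (FitTwo.translate (s ^ i)⁻¹) e
    rw [translate_translate, translate_translate, inv_mul_cancel, translate_one] at e2
    rw [show (s ^ i)⁻¹ * s ^ j = s ^ (j - i) by rw [← pow_mul_pow_sub s hle, inv_mul_cancel_left]] at e2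
    exact e2.symm
  -- the image is one FitTwo.translate
  have hone : ∃ j < r, FitTwo.translate y ω = FitTwo.translate (s ^ j) ω := by
    obtain ⟨v, hv, hv0⟩ := Submodule.exists_mem_ne_zero_of_ne_bot hω.occurs
    have hyω := hω.translate hyQ hyZ
    by_contra hcon
    push Not at hcon
    have h1 := congrArg (cproj h ρ (FitTwo.translate y ω)) (hfix v hv)
    rw [map_sum, map_sum, map_sum] at h1
    rw [Finset.sum_eq_single 0, Finset.sum_eq_zero] at h1
    · rw [pow_zero, map_one, End.one_apply, hyω.cproj_apply hQ (map_cspace hyQ hyZ hv)] at h1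
      exact rho_apply_ne ρ y hv0 h1
    · intro i hi
      exact hyω.cproj_kill (hw i) (hcon i (Finset.mem_range.1 hi)) (hmap i hv)
    · intro i hi hi0
      have e : ρ y (ρ (s ^ i) v) = ρ (s ^ i) (ρ y v) := by
        rw [← End.mul_apply, ← map_mul, ← End.mul_apply, ← map_mul]
        congr 2
        exact ((show Commute s y from hsy).pow_left i).eq.symm
      rw [e]
      refine hyω.cproj_kill (hyω.translate (pow_mem hsQ i) (pow_mem hsZ i)) (fun e' => ?_)
        (map_cspace (pow_mem hsQ i) (pow_mem hsZ i) (map_cspace hyQ hyZ hv))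
      refine pow_translate_ne hr hsr hsQ hsZ hmov (Nat.pos_of_ne_zero hi0) (Finset.mem_range.1 hi) ?_
      have e2 := congrArg (FitTwo.translate y⁻¹) e'
      rw [translate_translate, translate_translate, translate_translate, inv_mul_cancel, translate_one,
        show y⁻¹ * s ^ i * y = s ^ i by
          rw [mul_assoc, ((show Commute s y from hsy).pow_left i).eq, inv_mul_cancel_left]] at e2
      exact e2.symm
    · intro h0
      exact absurd (Finset.mem_range.2 hr.pos) h0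
  obtain ⟨j, hj, hje⟩ := hone
  -- and `y` agrees with that power
  have hagree : ∀ v ∈ cspace h ρ ω, ρ y v = ρ (s ^ j) v := by
    intro v hv
    have hyω := hω.translate hyQ hyZ
    have h1 := congrArg (cproj h ρ (FitTwo.translate y ω)) (hfix v hv)
    rw [map_sum, map_sum, map_sum] at h1
    rw [Finset.sum_eq_single 0, Finset.sum_eq_single j] at h1
    · rw [pow_zero, map_one, End.one_apply, hyω.cproj_apply hQ (map_cspace hyQ hyZ hv), hje,
        (hw j).cproj_apply hQ (hmap j hv)] at h1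
      exact h1
    · intro i hi hij
      refine hyω.cproj_kill (hw i) (fun e => hij ?_) (hmap i hv)
      rw [hje] at e
      rcases le_total i j with hle | hle
      · exact hinj i j (Finset.mem_range.1 hi) hj e.symm hle
      · exact (hinj j i hj (Finset.mem_range.1 hi) e hle).symm
    · intro h0
      exact absurd (Finset.mem_range.2 hj) h0
    · intro i hi hi0
      have e : ρ y (ρ (s ^ i) v) = ρ (s ^ i) (ρ y v) := by
        rw [← End.mul_apply, ← map_mul, ← End.mul_apply, ← map_mul]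
        congr 2
        exact ((show Commute s y from hsy).pow_left i).eq.symm
      rw [e]
      refine hyω.cproj_kill (hyω.translate (pow_mem hsQ i) (pow_mem hsZ i)) (fun e' => ?_)
        (map_cspace (pow_mem hsQ i) (pow_mem hsZ i) (map_cspace hyQ hyZ hv))
      rw [hje, translate_translate, ← pow_add] at e'
      refine pow_translate_ne hr hsr hsQ hsZ hmov (Nat.pos_of_ne_zero hi0) (Finset.mem_range.1 hi) ?_
      have e2 := congrArg (FitTwo.translate (s ^ j)⁻¹) e'
      rw [translate_translate, translate_translate, inv_mul_cancel, translate_one,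
        show (s ^ j)⁻¹ * s ^ (i + j) = s ^ i by rw [add_comm, pow_add, inv_mul_cancel_left]] at e2
      exact e2.symm
    · intro h0
      exact absurd (Finset.mem_range.2 hr.pos) h0
  obtain rfl | hj0 := Nat.eq_zero_or_pos j
  · intro v hv
    rw [hagree v hv, pow_zero, map_one]; rfl
  exfalso
  -- iterate to the order of `y`
  have hiter : ∀ k, ∀ v ∈ cspace h ρ ω, ρ (y ^ k) v = ρ (s ^ (j * k)) v := by
    intro k
    induction k with
    | zero => intro v _; simp
    | succ k ih =>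
      intro v hv
      rw [pow_succ', map_mul, End.mul_apply, ih v hv, ← End.mul_apply, ← map_mul,
        show y * s ^ (j * k) = s ^ (j * k) * y from ((show Commute s y from hsy).pow_left _).eq.symm, map_mul,
        End.mul_apply, hagree v hv, ← End.mul_apply, ← map_mul, ← pow_add, Nat.mul_succ]
  obtain ⟨v, hv, hv0⟩ := Submodule.exists_mem_ne_zero_of_ne_bot hω.occurs
  have h1 := hiter (orderOf y) v hv
  rw [pow_orderOf_eq_one, map_one, End.one_apply] at h1
  have hnd : ¬ r ∣ j * orderOf y := fun hd => by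
    rcases (hr.dvd_mul).1 hd with hd | hd
    · exact absurd (Nat.le_of_dvd hj0 hd) (not_le.2 hj)
    · exact hr.one_lt.ne' (Nat.eq_one_of_dvd_coprimes hyr hd dvd_rfl)
  refine pow_translate_ne hr hsr hsQ hsZ hmov (i := j * orderOf y % r)
    (Nat.pos_of_ne_zero fun e => hnd (Nat.dvd_of_mod_eq_zero e)) (Nat.mod_lt _ hr.pos) ?_
  rw [← pow_eq_pow_mod _ hsr]
  exact ((hω.eq_of_mem (hw _) hv (h1 ▸ hmap _ hv) hv0)).symm

/-- A component killed by a subgroup through which `s` acts trivially is fixed. -/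
theorem Comp.fixed_of_dead (hω : Comp h ρ ω) {S : Subgroup Γ}
    (hS : ∀ x ∈ Q, x * (s * x * s⁻¹)⁻¹ ∈ S) (hd : Dead h ρ S ω) : FitTwo.translate s ω = ω := by
  obtain ⟨v, hv, hv0⟩ := Submodule.exists_mem_ne_zero_of_ne_bot hω.occurs
  refine ((hω.translate hsQ hsZ).eq_of_mem hω (mem_eigenOf.2 fun a ha => ?_) hv hv0)
  have h1 := (translate_mem_iff hsQ hsZ ω).1 ha
  show ρ a v = ω (s⁻¹ * a * s) • v
  rw [← apply_rad hv h1]
  have h2 := hS _ (rad_le h ρ ω h1)
  rw [show s * (s⁻¹ * a * s) * s⁻¹ = a by group] at h2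
  have h3 := hd _ h2 _ (hω.maps (rad_le h ρ _ ha) hv)
  rw [← End.mul_apply, ← map_mul, inv_mul_cancel_right] at h3
  exact h3.symm

/-- Two fixed components agreeing on `Z` are equal when `s` has no fixed points outside `Z`. -/
theorem Comp.eq_of_fixed {ω' : Γ → K} (hω : Comp h ρ ω) (hω' : Comp h ρ ω')
    (hcop : r.Coprime (Nat.card Q)) (hC : ∀ x ∈ Q, s * x = x * s → x ∈ Z) (hf : FitTwo.translate s ω = ω)
    (hf' : FitTwo.translate s ω' = ω') (hz : ∀ z ∈ Z, ω z = ω' z) : ω = ω' := by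
  have hR := rad_congr h ρ hz
  have hsR : s ∈ Subgroup.normalizer (rad h ρ ω : Set Γ) := Subgroup.mem_normalizer_iff.2 fun x => by
    have := translate_mem_iff (h := h) (ρ := ρ) hsQ hsZ ω (x := s * x * s⁻¹)
    rw [hf] at this
    rw [this]
    simp [mul_assoc]
  let M : Subgroup Γ :=
    { carrier := {x | x ∈ rad h ρ ω ∧ ω x = ω' x}
      one_mem' := ⟨one_mem _, by rw [hω.one, hω'.one]⟩
      mul_mem' := fun {a b} ha hb => ⟨mul_mem ha.1 hb.1, by
        rw [hω.mul ha.1 hb.1, hω'.mul (hR ▸ ha.1) (hR ▸ hb.1), ha.2, hb.2]⟩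
      inv_mem' := fun {a} ha => ⟨inv_mem ha.1, by rw [hω.inv ha.1, hω'.inv (hR ▸ ha.1), ha.2]⟩ }
  have hle := le_of_fixed_moved hr hsr (hcop.coprime_dvd_right (Subgroup.card_dvd_of_le (rad_le h ρ ω))) hsR M
    (fun x hx hxc => ⟨hx, hz x (hC x (rad_le h ρ ω hx) hxc)⟩) fun x hx => by
      have hx' : s * x * s⁻¹ ∈ rad h ρ ω := (Subgroup.mem_normalizer_iff.1 hsR x).1 hx
      refine ⟨mul_mem hx (inv_mem hx'), ?_⟩
      have e : ∀ f : Γ → K, FitTwo.translate s f = f → f (s * x * s⁻¹) = f x := fun f hf0 => by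
        conv_lhs => rw [← hf0]
        show f (s⁻¹ * (s * x * s⁻¹) * s) = f x
        congr 1
        group
      rw [hω.mul hx (inv_mem hx'), hω'.mul (hR ▸ hx) (hR ▸ inv_mem hx'), hω.inv hx', hω'.inv (hR ▸ hx'),
        e ω hf, e ω' hf', mul_inv_cancel₀ (hω.ne_zero hx), mul_inv_cancel₀ (hω'.ne_zero (hR ▸ hx))]
  funext x
  by_cases hx : x ∈ rad h ρ ω
  · exact (hle hx).2
  · rw [hω.zero x hx, hω'.zero x (hR ▸ hx)]

end Prime

section Restrict

/-- The elements fixing a component. -/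
def stab (Q Z : Subgroup Γ) (ω : Γ → K) : Subgroup Γ where
  carrier := {g | g ∈ Subgroup.normalizer (Q : Set Γ) ∧ g ∈ Subgroup.normalizer (Z : Set Γ) ∧
    FitTwo.translate g ω = ω}
  one_mem' := ⟨one_mem _, one_mem _, translate_one ω⟩
  mul_mem' := fun {a b} ha hb => ⟨mul_mem ha.1 hb.1, mul_mem ha.2.1 hb.2.1, by
    rw [← translate_translate, hb.2.2, ha.2.2]⟩
  inv_mem' := fun {a} ha => ⟨inv_mem ha.1, inv_mem ha.2.1, by
    conv_lhs => rw [← ha.2.2]
    rw [translate_translate, inv_mul_cancel, translate_one]⟩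

variable (h ρ ω) in
/-- The representation on a component. -/
noncomputable def crep : stab Q Z ω →* End K (cspace h ρ ω) where
  toFun g := (ρ (g : Γ)).restrict fun v hv => by
    have := map_cspace g.2.1 g.2.2.1 hv
    rwa [g.2.2.2] at this
  map_one' := LinearMap.ext fun v => Subtype.ext (by simp)
  map_mul' a b := LinearMap.ext fun v => Subtype.ext (by simp)

@[simp] theorem crep_apply (g : stab Q Z ω) (v : cspace h ρ ω) :
    ((crep h ρ ω g v : cspace h ρ ω) : V) = ρ (g : Γ) v := rfl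

theorem Comp.le_stab (hω : Comp h ρ ω) : Q ≤ stab Q Z ω := fun _ hx =>
  ⟨Subgroup.le_normalizer hx, h.le_normalizer hx, hω.translate_self hx⟩

theorem stab_rad {g : Γ} (hg : g ∈ stab Q Z ω) {x : Γ} (hx : x ∈ rad h ρ ω) :
    g * x * g⁻¹ ∈ rad h ρ ω ∧ ω (g * x * g⁻¹) = ω x := by
  have e : g⁻¹ * (g * x * g⁻¹) * g = x := by group
  constructor
  · have := (translate_mem_iff hg.1 hg.2.1 ω (x := g * x * g⁻¹) (h := h) (ρ := ρ)).2 (by rwa [e])
    rwa [hg.2.2] at this
  · conv_lhs => rw [← hg.2.2]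
    show ω (g⁻¹ * (g * x * g⁻¹) * g) = ω x
    rw [e]

theorem Comp.heis (hω : Comp h ρ ω) :
    Heis (crep h ρ ω) (Q.subgroupOf (stab Q Z ω)) ((rad h ρ ω).subgroupOf (stab Q Z ω)) := by
  refine ⟨fun x hx => rad_le h ρ ω hx, fun x hx y hy => ?_, fun z hz => ⟨ω (z : Γ), ?_⟩, fun x hx hxR => ?_⟩
  · rw [Subgroup.mem_subgroupOf] at hx hy ⊢
    exact le_rad h ρ ω (by simpa [commutatorElement_def] using h.comm _ hx _ hy)
  · exact LinearMap.ext fun v => Subtype.ext (apply_rad v.2 hz)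
  · rw [Subgroup.mem_subgroupOf] at hx hxR
    have h1 : ¬ ∀ y ∈ Q, ω ⁅(x : Γ), y⁆ = 1 := fun hh => hxR ((hω.mem_rad_iff).2 ⟨hx, hh⟩)
    push Not at h1
    obtain ⟨y, hy, hne⟩ := h1
    refine ⟨⟨y, hω.le_stab hy⟩, hy, fun e => hne ?_⟩
    obtain ⟨v, hv, hv0⟩ := Submodule.exists_mem_ne_zero_of_ne_bot hω.occurs
    have h2 : ρ y (ρ (x : Γ) v) = ρ (x : Γ) (ρ y v) := congrArg Subtype.val (LinearMap.congr_fun e ⟨v, hv⟩)
    refine smul_left_injective K (rho_apply_ne ρ (y * (x : Γ)) hv0) ?_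
    show ω ⁅(x : Γ), y⁆ • ρ (y * (x : Γ)) v = (1 : K) • ρ (y * (x : Γ)) v
    rw [one_smul, ← apply_rad (hω.maps (mul_mem hy hx) hv) (le_rad h ρ ω (h.comm _ hx _ hy)),
      ← End.mul_apply, ← map_mul]
    rw [show ⁅(x : Γ), y⁆ * (y * (x : Γ)) = (x : Γ) * y by rw [commutatorElement_def]; group, map_mul,
      End.mul_apply, map_mul, End.mul_apply, h2]

end Restrict

end Cfsg.Lib.FitHeight
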