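import Cfsg.Agent.Lib.FitHeight.Img
import Cfsg.Agent.Lib.FitHeight.Moved
import Cfsg.Agent.Lib.FitHeight.Fun

/-!
# The representation on the functions of a layer, and descent of functions
-/

set_option autoImplicit false

namespace Cfsg.Lib.FitHeight

open Subgroup Module
open scoped commutatorElement

variable {Γ : Type*} [Group Γ] (F : Type*) [Field F] (P Z : Subgroup Γ)

/-- The operators normalising the layer. -/
def layerN : Subgroup Γ := normalizer (P : Set Γ) ⊓ normalizer (Z : Set Γ)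

/-- The operators on the functions of the layer. -/
noncomputable def layerRep : layerN P Z →* End F (funSpace F P Z) where
  toFun g := (funOp Γ F (g : Γ)).restrict fun f hf => fun_translate hf g.2.1 g.2.2
  map_one' := LinearMap.ext fun v => Subtype.ext (by simp)
  map_mul' a b := LinearMap.ext fun v => Subtype.ext (by simp)

/-- The group induced on the functions of the layer. -/
noncomputable abbrev layerGrp : Subgroup (End F (funSpace F P Z))ˣ := (layerRep F P Z).toHomUnits.range

/-- The projection to the induced group. -/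
noncomputable def layerProj : layerN P Z →* layerGrp F P Z := (layerRep F P Z).toHomUnits.rangeRestrict

/-- The representation of the induced group. -/
noncomputable def layerRho : layerGrp F P Z →* End F (funSpace F P Z) :=
  (Units.coeHom _).comp (layerGrp F P Z).subtype

variable {F P Z}

@[simp] theorem layerRho_proj (g : layerN P Z) : layerRho F P Z (layerProj F P Z g) = layerRep F P Z g := rfl

theorem layerRho_coe (g : layerN P Z) (v : funSpace F P Z) :
    ((layerRho F P Z (layerProj F P Z g) v : funSpace F P Z) : Γ → F) = funOp Γ F (g : Γ) (v : Γ → F) := rfl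

theorem layerRho_injective {a : layerGrp F P Z} (h : layerRho F P Z a = 1) : a = 1 := Subtype.ext (Units.ext h)

theorem layerProj_eq_one_iff (g : layerN P Z) :
    layerProj F P Z g = 1 ↔ ∀ f ∈ funSpace F P Z, funOp Γ F (g : Γ) f = f := by
  refine ⟨fun h f hf => ?_, fun h => layerRho_injective (LinearMap.ext fun v => Subtype.ext ?_)⟩
  · exact (layerRho_coe g ⟨f, hf⟩).symm.trans (by rw [h, map_one]; rfl)
  · rw [layerRho_coe]
    exact h v v.2

variable [Finite Γ]

instance : Finite (layerGrp F P Z) :=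
  Finite.of_surjective (layerRep F P Z).toHomUnits.rangeRestrict (layerRep F P Z).toHomUnits.rangeRestrict_surjective

instance : FiniteDimensional F (funSpace F P Z) := inferInstance

/-- Sums over a subgroup and over its image. -/
theorem sumOf_comp {N : Subgroup Γ} {H : Type*} [Group H] [Finite H] (π : N →* H) {V : Type*} [AddCommGroup V]
    [Module F V] (ρ : H →* End F V) (A : Subgroup N) (v : V) :
    (Nat.card (A.map π) : F) • sumOf (ρ.comp π) A v = (Nat.card A : F) • sumOf ρ (A.map π) v := by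
  letI := Fintype.ofFinite A
  rw [← sumOf_of_fixed (ρ := ρ) (S := A.map π) (v := sumOf (ρ.comp π) A v) fun b hb => ?_, sumOf_apply (ρ := ρ.comp π),
    map_sum, Finset.sum_congr rfl (fun (x : A) _ => ?_), Finset.sum_const, Finset.card_univ,
    ← Nat.card_eq_fintype_card, ← Nat.cast_smul_eq_nsmul F]
  · show sumOf ρ (A.map π) (ρ (π x) v) = sumOf ρ (A.map π) v
    have hx : π (x : N) ∈ A.map π := mem_map_of_mem π x.2
    rw [sumOf_conj (le_normalizer hx), sumOf_fixed _ _ hx]
  · obtain ⟨a, ha, rfl⟩ := hb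
    exact sumOf_fixed (ρ := ρ.comp π) A v ha

/-- Functions killing the sum over a subgroup kill the sum over its image. -/
theorem sumOf_img_eq_zero {N : Subgroup Γ} {H : Type*} [Group H] [Finite H] (π : N →* H) {V : Type*}
    [AddCommGroup V] [Module F V] (ρ : H →* End F V) {A : Subgroup Γ} (hA : A ≤ N) (hF : (Nat.card A : F) ≠ 0)
    (v : V) : sumOf (ρ.comp π) (A.subgroupOf N) v = 0 ↔ sumOf ρ (img π A) v = 0 := by
  have h := sumOf_comp π ρ (A.subgroupOf N) v
  rw [Nat.card_congr (subgroupOfEquivOfLe hA).toEquiv] at h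
  have h1 : (Nat.card (img π A) : F) ≠ 0 := fun e => hF (by
    obtain ⟨t, ht⟩ := card_img_dvd (π := π) (A := A)
    rw [ht, Nat.cast_mul, e, zero_mul])
  constructor <;> intro e
  · rw [e, smul_zero, eq_comm, smul_eq_zero] at h
    exact h.resolve_left hF
  · change (Nat.card (img π A) : F) • _ = (Nat.card A : F) • sumOf ρ (img π A) v at h
    rw [e, smul_zero, smul_eq_zero] at h
    exact h.resolve_left h1

theorem sum_subgroupOf {N A : Subgroup Γ} (hA : A ≤ N) [Fintype A] [Fintype (A.subgroupOf N)]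
    {M : Type*} [AddCommMonoid M] (f : Γ → M) :
    ∑ x : A.subgroupOf N, f ((x : N) : Γ) = ∑ x : A, f x :=
  Fintype.sum_equiv (subgroupOfEquivOfLe hA).toEquiv _ _ fun _ => rfl

/-! ### Descent -/

variable {N : Subgroup Γ} {H : Type*} [Group H] [Finite H] {π : N →* H} {Q Z' : Subgroup Γ}

/-- The function on the image of `Q` induced by `f`. -/
noncomputable def desc (π : N →* H) (Q : Subgroup Γ) (f : Γ → F) : H → F :=
  open scoped Classical in fun a => if h : ∃ x : N, (x : Γ) ∈ Q ∧ π x = a then f (h.choose : Γ) else 0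

omit [Finite Γ] [Finite H] in
theorem desc_apply (hker : ∀ x : N, (x : Γ) ∈ Q → π x = 1 → (x : Γ) ∈ Z') {f : Γ → F}
    (hf : f ∈ funSpace F Q Z') {x : N} (hx : (x : Γ) ∈ Q) : desc π Q f (π x) = f x := by
  have h : ∃ y : N, (y : Γ) ∈ Q ∧ π y = π x := ⟨x, hx, rfl⟩
  rw [desc, dif_pos h]
  obtain ⟨hy, e⟩ := h.choose_spec
  rw [← sub_eq_zero, ← fun_mul_inv hf hy hx]
  exact hf.2.2 _ (hker (h.choose * x⁻¹) (Q.mul_mem hy (Q.inv_mem hx)) (by rw [map_mul, map_inv, e, mul_inv_cancel]))

omit [Finite Γ] [Finite H] in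
theorem desc_outside {f : Γ → F} {a : H} (h : a ∉ img π Q) : desc π Q f a = 0 := by
  rw [desc, dif_neg]
  exact fun ⟨x, hx, e⟩ => h (mem_img.2 ⟨x, hx, e⟩)

omit [Finite Γ] [Finite H] in
theorem desc_mem (hker : ∀ x : N, (x : Γ) ∈ Q → π x = 1 → (x : Γ) ∈ Z') (hZ : Z' ≤ Q) {f : Γ → F}
    (hf : f ∈ funSpace F Q Z') : desc π Q f ∈ funSpace F (img π Q) (img π Z') := by
  refine ⟨fun a ha => desc_outside ha, fun a ha b hb => ?_, fun a ha => ?_⟩
  · obtain ⟨x, hx, rfl⟩ := mem_img.1 ha
    obtain ⟨y, hy, rfl⟩ := mem_img.1 hb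
    rw [← map_mul, desc_apply hker hf hx, desc_apply hker hf hy,
      desc_apply hker hf (show ((x * y : N) : Γ) ∈ Q from mul_mem hx hy)]
    exact hf.2.1 _ hx _ hy
  · obtain ⟨x, hx, rfl⟩ := mem_img.1 ha
    rw [desc_apply hker hf (hZ hx)]
    exact hf.2.2 _ hx

omit [Finite Γ] in
theorem desc_translate (hker : ∀ x : N, (x : Γ) ∈ Q → π x = 1 → (x : Γ) ∈ Z') {f : Γ → F}
    (hf : f ∈ funSpace F Q Z') {g : N} (hgQ : (g : Γ) ∈ normalizer (Q : Set Γ))
    (hgZ : (g : Γ) ∈ normalizer (Z' : Set Γ)) :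
    funOp H F (π g) (desc π Q f) = desc π Q (funOp Γ F (g : Γ) f) := by
  funext a
  by_cases ha : a ∈ img π Q
  · obtain ⟨x, hx, rfl⟩ := mem_img.1 ha
    rw [funOp_apply, desc_apply hker (fun_translate hf hgQ hgZ) hx, funOp_apply, ← map_inv, ← map_mul, ← map_mul,
      desc_apply hker hf (show ((g⁻¹ * x * g : N) : Γ) ∈ Q from conj_mem' hgQ hx)]
    rfl
  · rw [desc_outside ha, funOp_apply, desc_outside]
    intro h
    refine ha ?_
    have := conj_mem (img_normalizer (π := π) hgQ g.2) h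
    rwa [show π ⟨g, g.2⟩ * ((π g)⁻¹ * a * π g) * (π ⟨g, g.2⟩)⁻¹ = a by group] at this

omit [Finite Γ] [Finite H] in
theorem desc_sum (hker : ∀ x : N, (x : Γ) ∈ Q → π x = 1 → (x : Γ) ∈ Z') {ι : Type*} (t : Finset ι)
    {g : ι → Γ → F} (hg : ∀ i ∈ t, g i ∈ funSpace F Q Z') :
    ∑ i ∈ t, desc π Q (g i) = desc π Q (∑ i ∈ t, g i) := by
  funext a
  rw [Finset.sum_apply]
  by_cases ha : a ∈ img π Q
  · obtain ⟨x, hx, rfl⟩ := mem_img.1 ha
    rw [desc_apply hker (Submodule.sum_mem _ hg) hx, Finset.sum_apply]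
    exact Finset.sum_congr rfl fun i hi => desc_apply hker (hg i hi) hx
  · rw [desc_outside ha]
    exact Finset.sum_eq_zero fun i _ => desc_outside ha

/-- Descent keeps trivial sums. -/
theorem desc_sumOf (hker : ∀ x : N, (x : Γ) ∈ Q → π x = 1 → (x : Γ) ∈ Z') {A : Subgroup Γ} (hA : A ≤ N)
    (hAQ : A ≤ normalizer (Q : Set Γ)) (hAZ : A ≤ normalizer (Z' : Set Γ)) (hF : (Nat.card A : F) ≠ 0)
    {f : Γ → F} (hf : f ∈ funSpace F Q Z') (hsum : sumOf (funOp Γ F) A f = 0) :
    sumOf (funOp H F) (img π A) (desc π Q f) = 0 := by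
  letI := Fintype.ofFinite A
  letI := Fintype.ofFinite (A.subgroupOf N)
  rw [← sumOf_img_eq_zero π (funOp H F) hA hF, sumOf_apply]
  simp only [MonoidHom.comp_apply]
  rw [Finset.sum_congr rfl (g := fun x : A.subgroupOf N => desc π Q (funOp Γ F ((x : N) : Γ) f))
      (fun x _ => desc_translate hker hf (hAQ x.2) (hAZ x.2)),
    desc_sum hker _ fun x _ => fun_translate hf (hAQ x.2) (hAZ x.2), sum_subgroupOf hA (fun g => funOp Γ F g f),
    ← sumOf_apply, hsum]
  funext a
  by_cases ha : a ∈ img π Q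
  · obtain ⟨x, hx, rfl⟩ := mem_img.1 ha
    exact desc_apply hker (Submodule.zero_mem _) hx
  · exact desc_outside ha

end Cfsg.Lib.FitHeight
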