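import Cfsg.Agent.Lib.FitHeight.Transfer

/-!
# The first moved level
-/

set_option autoImplicit false

namespace Cfsg.Lib.FitHeight

open Module Cfsg.Lib.Local
open scoped commutatorElement

variable {Γ : Type*} [Group Γ] [Finite Γ] {K : Type*} [Field K] [IsAlgClosed K] {V : Type*} [AddCommGroup V]
  [Module K V] [FiniteDimensional K V] {ρ : Γ →* End K V} {s : Γ} {r : ℕ}

section Zero

variable {Q Z R : Subgroup Γ} {q : ℕ}

/-- Without fixed moved vectors the bottom level is trivial on the next. -/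
theorem Lev.eq_bot_of_null (L : Lev ρ Q Z R s r q) (K' : Type*) [Field K'] [IsAlgClosed K'] [CharP K' q]
    (hnull : fixNull ρ ⁅Q, Subgroup.zpowers s⁆ s = ⊥) : ⁅Q, R⁆ = ⊥ := by
  haveI := Fact.mk L.qprime
  set S := ⁅Q, Subgroup.zpowers s⁆ with hS
  have hSQ : S ≤ Q := Cfsg.Lib.Coprime.commutator_le_of_le_normalizer (zpowers_le_normalizer L.sQ)
  have hSn : ∀ y ∈ Q, ∀ x ∈ S, y * x * y⁻¹ ∈ S := fun y hy x hx =>
    (Subgroup.mem_normalizer_iff.1 (Subgroup.normalizer_commutator_ge_left Q _ hy) x).1 hx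
  have hsS : s ∈ Subgroup.normalizer (S : Set Γ) :=
    Subgroup.normalizer_commutator_ge_right Q _ (Subgroup.mem_zpowers s)
  have hdisp : ∀ x ∈ Q, x * (s * x * s⁻¹)⁻¹ ∈ S := fun x hx => by
    have := Subgroup.commutator_mem_commutator hx (Subgroup.mem_zpowers s)
    rwa [show ⁅x, s⁆ = x * (s * x * s⁻¹)⁻¹ by rw [commutatorElement_def]; group] at this
  have hstill : ∀ ω, Comp L.cls ρ ω → Still L.cls ρ s ω := by
    intro ω hω
    by_cases hf : FitTwo.translate s ω = ω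
    · refine ⟨hf, ?_⟩
      by_cases hd : Dead L.cls ρ S ω
      · exact Or.inl hd
      · refine Or.inr fun v hv hsv => ?_
        have h1 : v ∈ fixNull ρ S s := mem_fixNull.2 ⟨hsv, hω.sum_eq_zero hSQ hSn hd hv⟩
        rwa [hnull, Submodule.mem_bot] at h1
    · exfalso
      have hnd : ¬ Dead L.cls ρ S ω := fun h => hf (hω.fixed_of_dead L.rprime L.spow L.sQ L.sZ hdisp h)
      obtain ⟨v, hv, hv0⟩ := Submodule.exists_mem_ne_zero_of_ne_bot hω.occurs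
      have h1 := hω.orbit_mem L.rprime L.spow L.sQ L.sZ hSQ hSn hsS hnd hv
      rw [hnull, Submodule.mem_bot] at h1
      have h2 := congrArg (cproj L.cls ρ ω) h1
      rw [map_zero, map_sum, Finset.sum_eq_single 0, pow_zero, map_one, End.one_apply,
        hω.cproj_apply L.cardQ hv] at h2
      · exact hv0 h2
      · intro i hi hi0
        exact hω.cproj_kill (hω.translate (pow_mem L.sQ i) (pow_mem L.sZ i))
          (fun e => pow_translate_ne L.rprime L.spow L.sQ L.sZ hf (Nat.pos_of_ne_zero hi0) (Finset.mem_range.1 hi)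
            e.symm) (map_cspace (pow_mem L.sQ i) (pow_mem L.sZ i) hv)
      · exact fun h0 => absurd (Finset.mem_range.2 L.rprime.pos) h0
  have hUQ : ⁅Q, R⁆ ≤ Q := Cfsg.Lib.Coprime.commutator_le_of_le_normalizer L.normQ
  have hall : ∀ x ∈ ⁅Q, R⁆, ∀ ω, Comp L.cls ρ ω →
      ∃ a ∈ Q, (∀ v ∈ cspace L.cls ρ ω, ρ a v = v) ∧ a⁻¹ * x ∈ Z := by
    intro x hx ω hω
    let Nω : Subgroup Γ :=
      { carrier := {y | y ∈ Q ∧ ∀ v ∈ cspace L.cls ρ ω, ρ y v = v}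
        one_mem' := ⟨one_mem Q, fun v _ => by rw [map_one]; rfl⟩
        mul_mem' := fun {a b} ha hb => ⟨mul_mem ha.1 hb.1, fun v hv => by
          rw [map_mul, End.mul_apply, hb.2 v hv, ha.2 v hv]⟩
        inv_mem' := fun {a} ha => ⟨inv_mem ha.1, fun v hv => by
          conv_lhs => rw [← ha.2 v hv]
          rw [← End.mul_apply, ← map_mul, inv_mul_cancel, map_one]; rfl⟩ }
    have hn : Nω ≤ Subgroup.normalizer (Z : Set Γ) := fun a ha => L.cls.le_normalizer ha.1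
    have hmem : x ∈ Nω ⊔ Z := by
      by_contra hne
      obtain ⟨g, hg, hg0, hgx⟩ := exists_fun_ne (K := K') q L.pow L.cls.comm (le_sup_right : Z ≤ Nω ⊔ Z)
        (sup_le (show Nω ≤ Q from fun y hy => hy.1) L.cls.le) (hUQ hx) hne
      have hgc : compFun K' L.cls ρ ω g := ⟨hg, fun y hy hfix => hg0 y (Subgroup.mem_sup_left ⟨hy, hfix⟩)⟩
      have hfull : R ≤ stillSub Q Z R ω s := fun k hk => by
        by_contra hkB
        exact L.good_translate (hstill ω hω) hk hkB (hstill _ (hω.translate (L.normQ hk) (L.normZ hk)))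
      exact hgx (fun_kills_displacements hg L.normQ (L.fixed_of_full hω (hstill ω hω) hfull hgc) x hx)
    rw [← SetLike.mem_coe, Subgroup.coe_mul_of_left_le_normalizer_right _ _ hn] at hmem
    obtain ⟨a, ha, z, hz, e⟩ := hmem
    refine ⟨a, ha.1, ha.2, ?_⟩
    rw [← e]
    simpa using hz
  refine Cfsg.Lib.Coprime.commutator_eq_bot_of_commutator_commutator_eq_bot L.normQ L.RQ' (Or.inl L.rsol) ?_
  rw [Subgroup.commutator_eq_bot_iff_le_centralizer]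
  intro x hx
  refine Subgroup.mem_centralizer_iff.2 fun k hk => ?_
  rcases L.of_all (hUQ hx) (hall x hx) with ⟨-, h1⟩ | ⟨hcen, hxc⟩
  · rw [h1, mul_one, one_mul]
  · exact hcen x (hUQ hx) hxc k hk

end Zero

section Sign

variable {Q Z X : Subgroup Γ} {h : Cls Q Z} {ω : Γ → K}

omit [IsAlgClosed K] [FiniteDimensional K V] in
/-- The commutators with an operator fixing the cosets of the radical act trivially. -/
theorem Comp.trivial_of_fixes (hω : Comp h ρ ω) (hr : r.Prime) (hsr : s ^ r = 1) (hrQ : r.Coprime (Nat.card Q))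
    (hf : s ∈ stab Q Z ω) (hC : ∀ x ∈ Q, s * x = x * s → x ∈ Z) {y : Γ} (hy : y ∈ stab Q Z ω)
    (hsy : s * y = y * s) (hyZ : ∀ z ∈ Z, y * z = z * y)
    (hfix : ∀ x ∈ Q, y * x * y⁻¹ * x⁻¹ ∈ rad h ρ ω) :
    ∀ x ∈ Q, ∀ v ∈ cspace h ρ ω, ρ ⁅y, x⁆ v = v := by
  let M : Subgroup Γ :=
    { carrier := {x | x ∈ Q ∧ ω ⁅y, x⁆ = 1}
      one_mem' := ⟨one_mem Q, by rw [commutatorElement_one_right]; exact hω.one⟩
      mul_mem' := fun {a b} ha hb => ⟨mul_mem ha.1 hb.1, by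
        have h1 : ⁅y, a⁆ ∈ rad h ρ ω := hfix a ha.1
        have h2 : ⁅y, b⁆ ∈ rad h ρ ω := hfix b hb.1
        obtain ⟨h3, h4⟩ := hω.conj h2 ha.1
        rw [show ⁅y, a * b⁆ = ⁅y, a⁆ * (a * ⁅y, b⁆ * a⁻¹) by simp only [commutatorElement_def]; group,
          hω.mul h1 h3, h4, ha.2, hb.2, one_mul]⟩
      inv_mem' := fun {a} ha => ⟨inv_mem ha.1, by
        have h1 : ⁅y, a⁆ ∈ rad h ρ ω := hfix a ha.1
        obtain ⟨h3, h4⟩ := hω.conj (inv_mem h1) (inv_mem ha.1)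
        rw [show ⁅y, a⁻¹⁆ = a⁻¹ * ⁅y, a⁆⁻¹ * a⁻¹⁻¹ by simp only [commutatorElement_def]; group, h4, hω.inv h1, ha.2,
          inv_one]⟩ }
  intro x hx v hv
  have h1 := le_of_fixed_moved hr hsr hrQ hf.1 M (fun c hc hsc => ⟨hc, by
      rw [commutatorElement_eq_one_iff_mul_comm.2 (hyZ c (hC c hc hsc)), hω.one]⟩) (fun a ha => by
    have ha' : s * a * s⁻¹ ∈ Q := (Subgroup.mem_normalizer_iff.1 hf.1 a).1 ha
    refine ⟨mul_mem ha (inv_mem ha'), ?_⟩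
    have h1 : ⁅y, a⁆ ∈ rad h ρ ω := hfix a ha
    have h2 : ⁅y, s * a * s⁻¹⁆ ∈ rad h ρ ω := hfix _ ha'
    obtain ⟨h3, h4⟩ := hω.conj (inv_mem h2) (mul_mem ha (inv_mem ha'))
    rw [show ⁅y, a * (s * a * s⁻¹)⁻¹⁆ = ⁅y, a⁆ * (a * (s * a * s⁻¹)⁻¹ * ⁅y, s * a * s⁻¹⁆⁻¹ *
        (a * (s * a * s⁻¹)⁻¹)⁻¹) by simp only [commutatorElement_def]; group,
      hω.mul h1 h3, h4, hω.inv h2]
    have e : ⁅y, s * a * s⁻¹⁆ = s * ⁅y, a⁆ * s⁻¹ := by
      simp only [commutatorElement_def]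
      calc y * (s * a * s⁻¹) * y⁻¹ * (s * a * s⁻¹)⁻¹ = y * s * a * (y * s)⁻¹ * (s * a⁻¹ * s⁻¹) := by group
        _ = _ := by rw [← hsy]; group
    rw [e, (stab_rad hf h1).2, mul_inv_cancel₀ (hω.ne_zero h1)]) hx
  rw [apply_rad hv (show ⁅y, x⁆ ∈ rad h ρ ω from hfix x hx), h1.2, one_smul]

/-- Operators trivial on the fixed moved vectors centralise when nothing carries their signs. -/
theorem sign_trivial (h : Cls Q Z) (hQK : (Nat.card Q : K) ≠ 0)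
    (hr : r.Prime) (hrK : (r : K) ≠ 0) (hsr : s ^ r = 1) (hrQ : r.Coprime (Nat.card Q))
    (hsQ : s ∈ Subgroup.normalizer (Q : Set Γ)) (hsZ : s ∈ Subgroup.normalizer (Z : Set Γ))
    (hC : ∀ x ∈ Q, s * x = x * s → x ∈ Z) (hXQ : X ≤ Subgroup.normalizer (Q : Set Γ))
    (hXZ : ∀ y ∈ X, ∀ z ∈ Z, y * z = z * y) (hsX : ∀ y ∈ X, s * y = y * s)
    (hXp : (Nat.card X).Coprime (Nat.card Q)) (hXr : (Nat.card X).Coprime r)
    (hfix : ∀ y ∈ X, ∀ v ∈ fixNull ρ Q s, ρ y v = v)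
    (hstab : ∀ ω, Comp h ρ ω → FitTwo.translate s ω = ω → ¬ Q ≤ rad h ρ ω →
      (∃ v ∈ cspace h ρ ω, v ≠ 0 ∧ ρ s v = v) →
      ∃ P : Subgroup Γ, P ≤ stab Q Z ω ∧ P ≤ Subgroup.normalizer (X : Set Γ) ∧ X ≤ ⁅X, P⁆) :
    ∀ y ∈ X, ∀ x ∈ Q, ρ ⁅y, x⁆ = 1 := by
  classical
  have hQn : ∀ b ∈ Q, ∀ a ∈ Q, b * a * b⁻¹ ∈ Q := fun b hb a ha => mul_mem (mul_mem hb ha) (inv_mem hb)
  have hXZn : X ≤ Subgroup.normalizer (Z : Set Γ) := fun y hy => Subgroup.mem_normalizer_iff.2 fun z =>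
    ⟨fun hz => by rwa [hXZ y hy z hz, mul_inv_cancel_right], fun hz => by
      have e := hXZ y hy _ hz
      rw [show y * z * y⁻¹ * y = y * z by group] at e
      rwa [mul_left_cancel e] at hz⟩
  intro y0 hy0 x0 hx0
  have hmem : ⁅y0, x0⁆ ∈ Q := by
    rw [commutatorElement_def]
    exact mul_mem ((Subgroup.mem_normalizer_iff.1 (hXQ hy0) x0).1 hx0) (inv_mem hx0)
  refine eq_one_of_comp h ρ hQK hmem fun ω hω => ?_
  have hord : ∀ y ∈ X, orderOf y ∣ Nat.card X := fun y hy => by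
    simpa using orderOf_dvd_natCard (⟨y, hy⟩ : X)
  have hdisp : ∀ x ∈ Q, x * (s * x * s⁻¹)⁻¹ ∈ Q := fun x hx =>
    mul_mem hx (inv_mem ((Subgroup.mem_normalizer_iff.1 hsQ x).1 hx))
  by_cases hf : FitTwo.translate s ω = ω
  swap
  · have hnd : ¬ Dead h ρ Q ω := fun hd => hf (hω.fixed_of_dead hr hsr hsQ hsZ hdisp hd)
    have htriv : ∀ y ∈ X, ∀ v ∈ cspace h ρ ω, ρ y v = v := fun y hy =>
      hω.trivial_of_moved hr hsr hsQ hsZ hQK hf (hXQ hy) (hXZn hy) (hsX y hy) (hXr.coprime_dvd_left (hord y hy))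
        fun v hv => hfix y hy _ (hω.orbit_mem hr hsr hsQ hsZ le_rfl hQn hsQ hnd hv)
    intro v hv
    have hxv := hω.maps (inv_mem hx0) hv
    rw [commutatorElement_def, map_mul, End.mul_apply, map_mul, End.mul_apply, map_mul, End.mul_apply,
      htriv _ (inv_mem hy0) _ hxv, ← End.mul_apply (ρ x0), ← map_mul, mul_inv_cancel, map_one, End.one_apply,
      htriv y0 hy0 v hv]
  -- the operators stabilise the component
  have hXst : X ≤ stab Q Z ω := fun y hy => by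
    refine ⟨hXQ hy, hXZn hy, (Comp.eq_of_fixed hr hsr hsQ hsZ hω (hω.translate (hXQ hy) (hXZn hy)) hrQ hC hf ?_
      fun z hz => ?_).symm⟩
    · rw [translate_translate, hsX y hy, ← translate_translate, hf]
    · show ω z = ω (y⁻¹ * z * y)
      rw [mul_assoc, ← hXZ y hy z hz, inv_mul_cancel_left]
  have hs : s ∈ stab Q Z ω := ⟨hsQ, hsZ, hf⟩
  suffices hall : ∀ y ∈ X, ∀ x ∈ Q, y * x * y⁻¹ * x⁻¹ ∈ rad h ρ ω from
    hω.trivial_of_fixes hr hsr hrQ hs hC (hXst hy0) (hsX y0 hy0) (fun z hz => hXZ y0 hy0 z hz) (hall y0 hy0) x0 hx0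
  by_cases hrad : Q ≤ rad h ρ ω
  · exact fun y hy x hx => hrad (mul_mem ((Subgroup.mem_normalizer_iff.1 (hXQ hy) x).1 hx) (inv_mem hx))
  have hconj : ∀ g ∈ stab Q Z ω, ∀ x ∈ rad h ρ ω, g * x * g⁻¹ ∈ rad h ρ ω := fun g hg x hx => (stab_rad hg hx).1
  have hnd : ¬ Dead h ρ Q ω := fun hd => hrad fun x hx => hω.mem_rad_iff.2 ⟨hx, fun y hy => by
    obtain ⟨v, hv, hv0⟩ := Submodule.exists_mem_ne_zero_of_ne_bot hω.occurs
    have hc : ⁅x, y⁆ ∈ rad h ρ ω := le_rad h ρ ω (h.comm x hx y hy)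
    have h1 := apply_rad hv hc
    rw [hd _ (rad_le h ρ ω hc) v hv] at h1
    exact smul_left_injective K hv0 (by simpa using h1.symm)⟩
  haveI : Nontrivial (cspace h ρ ω) := Submodule.nontrivial_iff_ne_bot.2 hω.occurs
  set s' : stab Q Z ω := ⟨s, hs⟩ with hs'
  have hNorm : ∀ A : Subgroup (stab Q Z ω),
      Norm A (Q.subgroupOf (stab Q Z ω)) ((rad h ρ ω).subgroupOf (stab Q Z ω)) := fun A =>
    ⟨fun a _ x hx => (Subgroup.mem_normalizer_iff.1 a.2.1 _).1 hx, fun a _ x hx => hconj _ a.2 _ hx⟩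
  have hsrad : s ∈ Subgroup.normalizer (rad h ρ ω : Set Γ) := Subgroup.mem_normalizer_iff.2 fun x =>
    ⟨hconj s hs x, fun hx => by
      have := hconj _ (inv_mem hs) _ hx
      rwa [show s⁻¹ * (s * x * s⁻¹) * s⁻¹⁻¹ = x by group] at this⟩
  have hcard : Nat.card (Q.subgroupOf (stab Q Z ω)) = Nat.card Q :=
    Nat.card_congr (Subgroup.subgroupOfEquivOfLe hω.le_stab).toEquiv
  have hA : Act (crep h ρ ω) (Q.subgroupOf (stab Q Z ω)) ((rad h ρ ω).subgroupOf (stab Q Z ω)) s' r := by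
    refine ⟨hω.heis, hr, hrK, Subtype.ext (by simpa [hs'] using hsr), hNorm _, ?_, by rwa [hcard], ?_⟩
    · intro x hx j hj0 hjr hR
      refine mem_of_coset_fixed hr hsr hrQ (rad_le h ρ ω) hsQ hsrad (fun a ha hsa => le_rad h ρ ω (hC a ha hsa))
        hx hj0 hjr ?_
      have h1 : s ^ j * (x : Γ) * (s ^ j)⁻¹ * (x : Γ)⁻¹ ∈ rad h ρ ω := by
        simpa [Subgroup.mem_subgroupOf, hs'] using hR
      show ⁅(x : Γ), s ^ j⁆ ∈ _
      rw [show ⁅(x : Γ), s ^ j⁆ = (s ^ j * (x : Γ) * (s ^ j)⁻¹ * (x : Γ)⁻¹)⁻¹ by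
        rw [commutatorElement_def]; group]
      exact inv_mem h1
    · obtain ⟨x, hx, hxr⟩ := SetLike.not_le_iff_exists.1 hrad
      exact ⟨⟨x, hω.le_stab hx⟩, hx, hxr⟩
  have hcase : ∀ y ∈ X, (∀ x ∈ Q, y * x * y⁻¹ * x⁻¹ ∈ rad h ρ ω) ∨
      (Even (orderOf y) ∧ ∀ x ∈ Q, y * x * y⁻¹ * x ∈ rad h ρ ω) := by
    intro y hy
    have ho : orderOf (⟨y, hXst hy⟩ : stab Q Z ω) = orderOf y :=
      (Subgroup.orderOf_coe (⟨y, hXst hy⟩ : stab Q Z ω)).symm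
    rcases hA.sign (y := ⟨y, hXst hy⟩) (hNorm _) (Subtype.ext (hsX y hy))
      (by rw [ho, hcard]; exact hXp.coprime_dvd_left (hord y hy))
      (by rw [ho]; exact hXr.coprime_dvd_left (hord y hy)) (fun v hv => Subtype.ext (hfix y hy _
        (mem_fixNull.2 ⟨congrArg Subtype.val hv, hω.sum_eq_zero le_rfl hQn hnd v.2⟩))) with h1 | ⟨h1, h2⟩
    · exact Or.inl fun x hx => h1 ⟨x, hω.le_stab hx⟩ hx
    · exact Or.inr ⟨ho ▸ h1, fun x hx => h2 ⟨x, hω.le_stab hx⟩ hx⟩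
  rcases Nat.even_or_odd (Nat.card Q) with hev | hodd
  · intro y hy
    refine (hcase y hy).resolve_right fun hi => ?_
    exact absurd (Nat.eq_one_of_dvd_coprimes (hXp.coprime_dvd_left (hord y hy)) hi.1.two_dvd hev.two_dvd) (by omega)
  obtain ⟨w, -, hw0, hw⟩ := hA.exists_eigen (hcard ▸ hodd) (W' := ⊤) top_ne_bot (fun _ _ _ _ => trivial)
    (fun _ _ => trivial) (a := 1) ((Polynomial.mem_nthRootsFinset hr.pos 1).2 (one_pow r))
  obtain ⟨P, hPst, hPX, hXP⟩ := hstab ω hω hf hrad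
    ⟨w, w.2, fun e => hw0 (Subtype.ext e), by simpa [hs'] using congrArg Subtype.val hw⟩
  let H : Subgroup Γ :=
    { carrier := {y | y ∈ X ∧ ∀ x ∈ Q, y * x * y⁻¹ * x⁻¹ ∈ rad h ρ ω}
      one_mem' := ⟨one_mem X, fun x _ => by simp⟩
      mul_mem' := fun {a b} ha hb => ⟨mul_mem ha.1 hb.1, fun x hx => by
        have := mul_mem (hconj a (hXst ha.1) _ (hb.2 x hx)) (ha.2 x hx)
        rwa [show a * (b * x * b⁻¹ * x⁻¹) * a⁻¹ * (a * x * a⁻¹ * x⁻¹) = a * b * x * (a * b)⁻¹ * x⁻¹ by group]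
          at this⟩
      inv_mem' := fun {a} ha => ⟨inv_mem ha.1, fun x hx => by
        have hx' : a⁻¹ * x * a ∈ Q := by simpa using (Subgroup.mem_normalizer_iff.1 (hXQ (inv_mem ha.1)) x).1 hx
        have := inv_mem (ha.2 _ hx')
        rwa [show (a * (a⁻¹ * x * a) * a⁻¹ * (a⁻¹ * x * a)⁻¹)⁻¹ = a⁻¹ * x * a⁻¹⁻¹ * x⁻¹ by group] at this⟩ }
  refine fun y hy => (show X ≤ H from hXP.trans (Subgroup.commutator_le.2 fun a ha p hp => ?_)) hy |>.2
  have hb : p * a⁻¹ * p⁻¹ ∈ X := (Subgroup.mem_normalizer_iff.1 (hPX hp) _).1 (inv_mem ha)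
  have hconjH : ∀ g ∈ P, ∀ z ∈ H, g * z * g⁻¹ ∈ H := fun g hg z hz =>
    ⟨(Subgroup.mem_normalizer_iff.1 (hPX hg) z).1 hz.1, fun x hx => by
      have hx' : g⁻¹ * x * g ∈ Q := by
        simpa using (Subgroup.mem_normalizer_iff.1 (inv_mem (hPst hg).1) x).1 hx
      have := hconj g (hPst hg) _ (hz.2 _ hx')
      rwa [show g * (z * (g⁻¹ * x * g) * z⁻¹ * (g⁻¹ * x * g)⁻¹) * g⁻¹ =
        g * z * g⁻¹ * x * (g * z * g⁻¹)⁻¹ * x⁻¹ by group] at this⟩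
  rw [show ⁅a, p⁆ = a * (p * a⁻¹ * p⁻¹) by rw [commutatorElement_def]; group]
  rcases hcase a ha with haF | ⟨-, haI⟩
  · exact mul_mem (show a ∈ H from ⟨ha, haF⟩) (hconjH p hp _ (inv_mem (show a ∈ H from ⟨ha, haF⟩)))
  rcases hcase _ hb with hbF | ⟨-, hbI⟩
  · have h1 := inv_mem (hconjH _ (inv_mem hp) _ (show p * a⁻¹ * p⁻¹ ∈ H from ⟨hb, hbF⟩))
    rw [show (p⁻¹ * (p * a⁻¹ * p⁻¹) * p⁻¹⁻¹)⁻¹ = a by group] at h1
    exact mul_mem h1 ⟨hb, hbF⟩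
  generalize p * a⁻¹ * p⁻¹ = b at hb hbI ⊢
  refine ⟨mul_mem ha hb, fun x hx => ?_⟩
  have := mul_mem (hconj a (hXst ha) _ (hbI x hx)) (haI _ (inv_mem hx))
  rwa [show a * (b * x * b⁻¹ * x) * a⁻¹ * (a * x⁻¹ * a⁻¹ * x⁻¹) = a * b * x * (a * b)⁻¹ * x⁻¹ by group] at this

end Sign

end Cfsg.Lib.FitHeight
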