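import Cfsg.Agent.Lib.FitHeight.Tower
import Cfsg.Agent.Lib.FitHeight.Layer
import Cfsg.Agent.Lib.FitHeight.Level

/-!
# Live fixed subgroups along a tower
-/

set_option autoImplicit false

namespace Cfsg.Lib.FitHeight

open Subgroup Module
open Cfsg.Lib.FitTwo.Cfg (Phi Phi_le)
open scoped commutatorElement

variable {Γ : Type*} [Group Γ]

/-- The displacements of a level. -/
abbrev disp (s : Γ) (A : Subgroup Γ) : Subgroup Γ := ⁅A, zpowers s⁆

/-- The fixed points in a level. -/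
abbrev fixs (s : Γ) (A : Subgroup Γ) : Subgroup Γ := A ⊓ centralizer ({s} : Set Γ)

theorem mem_fixs {s x : Γ} {A : Subgroup Γ} : x ∈ fixs s A ↔ x ∈ A ∧ s * x = x * s := by
  rw [mem_inf, mem_centralizer_singleton_iff, eq_comm (a := x * s)]

/-- The kernel of a layer. -/
abbrev Zl (X K : ℕ → Subgroup Γ) (l : ℕ) : Subgroup Γ := Phi (X l) ⊔ K l

variable [Finite Γ] (s : Γ) (X K : ℕ → Subgroup Γ) (F : ℕ → Type*) [∀ l, Field (F l)]

/-- A fixed moved vector in a layer. -/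
def Esp (l : ℕ) (f : Γ → F (l + 1)) : Prop :=
  f ∈ funSpace (F (l + 1)) (X (l + 1)) (Zl X K (l + 1)) ∧ funOp Γ (F (l + 1)) s f = f ∧
    sumOf (funOp Γ (F (l + 1))) (disp s (X l)) f = 0

/-- A subgroup moving some fixed moved vector. -/
def Live (l : ℕ) (D : Subgroup Γ) : Prop :=
  ∃ y ∈ D, ∃ f : Γ → F (l + 1), Esp s X K F l f ∧ funOp Γ (F (l + 1)) y f ≠ f

/-- A tower with fields for its layers. -/
structure Sys (G : Subgroup Γ) (r m : ℕ) (p : ℕ → ℕ) : Prop where
  T : Tower G s m X K p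
  rprime : r.Prime
  spow : s ^ r = 1
  cop : ¬ r ∣ Nat.card G
  sol : Group.IsSolvable G
  char : ∀ l ≤ m, CharP (F l) (p l)

variable {s X K F} {G : Subgroup Γ} {r m : ℕ} {p : ℕ → ℕ}

theorem Comp.not_dead {V : Type*} [AddCommGroup V] {k : Type*} [Field k] [Module k V] {Q Z : Subgroup Γ}
    {h : Cls Q Z} {ρ : Γ →* End k V} {ω : Γ → k} (hω : Comp h ρ ω) (hrad : ¬ Q ≤ rad h ρ ω) : ¬ Dead h ρ Q ω :=
  fun hd => hrad fun x hx => hω.mem_rad_iff.2 ⟨hx, fun y hy => by
    obtain ⟨v, hv, hv0⟩ := Submodule.exists_mem_ne_zero_of_ne_bot hω.occurs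
    have hc : ⁅x, y⁆ ∈ rad h ρ ω := le_rad h ρ ω (h.comm x hx y hy)
    have h1 := apply_rad hv hc
    rw [hd _ (rad_le h ρ ω hc) v hv] at h1
    exact smul_left_injective k hv0 (by simpa using h1.symm)⟩

namespace Sys

variable (S : Sys s X K F G r m p) {l : ℕ}
include S

theorem disp_le (hl : l ≤ m) : disp s (X l) ≤ X l :=
  Cfsg.Lib.Coprime.commutator_le_of_le_normalizer (zpowers_le.2 (S.T.sP l hl))

theorem Zl_le (hl : l ≤ m) : Zl X K l ≤ X l := sup_le (Phi_le _) (S.T.K_le l hl)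

theorem Zl_normalized (hl : l ≤ m) {g : Γ} (hP : g ∈ normalizer (X l : Set Γ))
    (hK : g ∈ normalizer (K l : Set Γ)) : g ∈ normalizer (Zl X K l : Set Γ) := by
  rw [mem_normalizer_iff_map_conj_eq, Subgroup.map_sup, mem_normalizer_iff_map_conj_eq.1 (phi_normalized hP),
    mem_normalizer_iff_map_conj_eq.1 hK]

theorem le_layerN {j : ℕ} (hl : l ≤ m) (hj : j ≤ l) : X j ≤ layerN (X l) (Zl X K l) := fun x hx => by
  have h1 : x ∈ normalizer (X l : Set Γ) := by
    rcases lt_or_eq_of_le hj with h | h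
    exacts [S.T.norm l hl j h hx, le_normalizer (h ▸ hx)]
  exact ⟨h1, S.Zl_normalized hl h1 (S.T.normK l hl j hj hx)⟩

theorem s_mem_layerN (hl : l ≤ m) : s ∈ layerN (X l) (Zl X K l) :=
  ⟨S.T.sP l hl, S.Zl_normalized hl (S.T.sP l hl) (S.T.sK l hl)⟩

theorem comm_Zl (hl : l ≤ m) : ∀ x ∈ X l, ∀ y ∈ X l, ⁅x, y⁆ ∈ Zl X K l := fun x hx y hy => by
  haveI := Fact.mk (S.T.prime l hl)
  exact mem_sup_left (comm_phi (S.T.isP l hl) hx hy)

theorem pow_Zl (hl : l ≤ m) : ∀ x ∈ X l, x ^ p l ∈ Zl X K l := fun x hx => by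
  haveI := Fact.mk (S.T.prime l hl)
  exact mem_sup_left (pow_phi (S.T.isP l hl) hx)

theorem Zl_central (hl : l < m) : ∀ z ∈ Zl X K (l + 1), ∀ y ∈ X (l + 1), ⁅z, y⁆ ∈ K (l + 1) := by
  have hn := S.T.normK _ hl _ le_rfl
  have hle : Zl X K (l + 1) ≤ Cen (X (l + 1)) (K (l + 1)) := sup_le
    (fun z hz => ⟨hn (Phi_le _ hz), S.T.phi_central hl z hz⟩)
    fun z hz => ⟨le_normalizer hz, fun y hy => by
      rw [show ⁅z, y⁆ = z * (y * z⁻¹ * y⁻¹) by rw [commutatorElement_def]; group]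
      exact mul_mem hz (conj_mem (hn hy) (inv_mem hz))⟩
  exact fun z hz => (hle hz).2

theorem Zl_small (hl : l < m) : ∀ z ∈ Zl X K (l + 1), ∀ a ∈ X l, ⁅z, a⁆ ∈ K (l + 1) := by
  have hle : Zl X K (l + 1) ≤ Cen (X l) (K (l + 1)) := sup_le
    (fun z hz => ⟨S.T.normK _ hl _ le_rfl (Phi_le _ hz), S.T.phi_small hl z hz⟩)
    fun z hz => ⟨le_normalizer hz, fun y hy => by
      rw [show ⁅z, y⁆ = z * (y * z⁻¹ * y⁻¹) by rw [commutatorElement_def]; group]
      exact mul_mem hz (conj_mem (S.T.normK _ hl l (by omega) hy) (inv_mem hz))⟩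
  exact fun z hz => (hle hz).2

theorem proj_eq_one_iff (hl : l < m) {x : Γ} (hx : x ∈ X l) (hN : x ∈ layerN (X (l + 1)) (Zl X K (l + 1))) :
    layerProj (F (l + 1)) (X (l + 1)) (Zl X K (l + 1)) ⟨x, hN⟩ = 1 ↔ x ∈ K l := by
  rw [layerProj_eq_one_iff]
  have hxn : x ∈ normalizer (X (l + 1) : Set Γ) := hN.1
  have hxK : x ∈ normalizer (K (l + 1) : Set Γ) := S.T.normK _ hl l (by omega) hx
  constructor
  · intro h
    haveI := Fact.mk (S.T.prime _ hl)
    haveI := S.char (l + 1) hl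
    have hz : ∀ a ∈ X (l + 1), x⁻¹ * a * x * a⁻¹ ∈ Zl X K (l + 1) := by
      intro a ha
      have ha' : x⁻¹ * a * x ∈ X (l + 1) := conj_mem' hxn ha
      by_contra hne
      obtain ⟨f, hf, -, hfa⟩ := exists_fun_ne (K := F (l + 1)) (p (l + 1)) (S.pow_Zl hl) (S.comm_Zl hl) le_rfl
        (S.Zl_le hl) (mul_mem ha' (inv_mem ha)) hne
      have e := congrFun (h f hf) a
      rw [funOp_apply] at e
      exact hfa (by rw [fun_mul_inv hf ha' ha, e, sub_self])
    set A := zpowers x with hA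
    have hAn : A ≤ normalizer (X (l + 1) : Set Γ) := zpowers_le.2 hxn
    have hcop : (Nat.card A).Coprime (Nat.card (X (l + 1))) :=
      (S.T.coprime hl).coprime_dvd_left (card_dvd_of_le (zpowers_le.2 hx))
    have hsolX : Group.IsSolvable (X (l + 1)) := Cfsg.Lib.Coprime.isSolvable_of_le (S.T.le _ hl) S.sol
    have hAZ : A ≤ normalizer (Zl X K (l + 1) : Set Γ) := zpowers_le.2 hN.2
    let B : Subgroup Γ := normalizer (Zl X K (l + 1) : Set Γ) ⊓ normalizer (X (l + 1) : Set Γ)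
    have hdisp : ∀ a ∈ X (l + 1), ∀ b ∈ A, ⁅a, b⁆ ∈ Zl X K (l + 1) := by
      intro a ha b hb
      let M : Subgroup Γ :=
        { carrier := {b | b ∈ B ∧ ∀ a ∈ X (l + 1), ⁅a, b⁆ ∈ Zl X K (l + 1)}
          one_mem' := ⟨one_mem _, fun a _ => by rw [commutatorElement_one_right]; exact one_mem _⟩
          mul_mem' := fun {u v} hu hv => ⟨mul_mem hu.1 hv.1, fun a ha => by
            rw [show ⁅a, u * v⁆ = ⁅a, u⁆ * (u * ⁅a, v⁆ * u⁻¹) by simp only [commutatorElement_def]; group]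
            exact mul_mem (hu.2 a ha) (conj_mem hu.1.1 (hv.2 a ha))⟩
          inv_mem' := fun {u} hu => ⟨inv_mem hu.1, fun a ha => by
            rw [show ⁅a, u⁻¹⁆ = u⁻¹ * ⁅a, u⁆⁻¹ * u by simp only [commutatorElement_def]; group]
            exact conj_mem' hu.1.1 (inv_mem (hu.2 a ha))⟩ }
      refine ((zpowers_le (H := M)).2 ⟨⟨hN.2, hxn⟩, fun a ha => ?_⟩ hb).2 a ha
      rw [show ⁅a, x⁆ = x * ((x⁻¹ * a * x) * a⁻¹) * x⁻¹ by rw [commutatorElement_def]; group]
      exact conj_mem hN.2 (hz a ha)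
    have hle : X (l + 1) ≤ (K (l + 1) ⊔ fixs x (X (l + 1))) ⊔ Phi (X (l + 1)) := by
      intro a ha
      obtain ⟨z, hz, c, hc, rfl⟩ := Cfsg.Lib.Coprime.exists_mul_centralizer_of_commutator_mem hAn hcop (Or.inr hsolX)
        (S.Zl_le hl) hAZ ha (hdisp a ha)
      refine mul_mem ?_ (mem_sup_left (mem_sup_right (mem_fixs.2 ⟨hc.1, mem_centralizer_iff.1 hc.2 x (mem_zpowers x)⟩)))
      exact (sup_le le_sup_right (le_sup_left.trans le_sup_left) : Zl X K (l + 1) ≤ _) hz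
    have he := eq_of_sup_phi (sup_le (S.T.K_le _ hl) inf_le_left) hle
    have hC : X (l + 1) ≤ Cen (zpowers x) (K (l + 1)) := by
      rw [← he]
      refine sup_le (fun k hk => ⟨le_normalizer hk, fun b hb => ?_⟩) fun c hc => ⟨?_, fun b hb => ?_⟩
      · rw [show ⁅k, b⁆ = k * (b * k⁻¹ * b⁻¹) by rw [commutatorElement_def]; group]
        exact mul_mem hk (conj_mem ((zpowers_le (H := normalizer (K (l + 1) : Set Γ))).2 hxK hb) (inv_mem hk))
      · exact S.T.normK _ hl _ le_rfl hc.1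
      · obtain ⟨i, rfl⟩ := mem_zpowers_iff.1 hb
        rw [commutatorElement_eq_one_iff_mul_comm.2
          ((show Commute x c from (mem_fixs.1 hc).2).zpow_left i).eq.symm]
        exact one_mem _
    refine (S.T.kills l hl x hx).2 fun a ha => ?_
    rw [← commutatorElement_inv]
    exact inv_mem ((hC ha).2 x (mem_zpowers x))
  · intro hk f hf
    funext a
    rw [funOp_apply]
    by_cases ha : a ∈ X (l + 1)
    · rw [← sub_eq_zero, ← fun_mul_inv hf (conj_mem' hxn ha) ha]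
      refine hf.2.2 _ (mem_sup_right ?_)
      rw [show x⁻¹ * a * x * a⁻¹ = ⁅x⁻¹, a⁆ by rw [commutatorElement_def]; group]
      exact (S.T.kills l hl x⁻¹ (inv_mem hx)).1 (inv_mem hk) a ha
    · rw [hf.1 a ha, hf.1 _ fun h => ha ?_]
      simpa [mul_assoc] using conj_mem hxn h

/-- Fixed points of the induced operator lift. -/
theorem lift {j : ℕ} (hl : l ≤ m) (hj : j ≤ l) {a : layerGrp (F l) (X l) (Zl X K l)}
    (ha : a ∈ img (layerProj (F l) (X l) (Zl X K l)) (X j))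
    (hsa : layerProj (F l) (X l) (Zl X K l) ⟨s, S.s_mem_layerN hl⟩ * a =
      a * layerProj (F l) (X l) (Zl X K l) ⟨s, S.s_mem_layerN hl⟩) :
    ∃ c : layerN (X l) (Zl X K l), (c : Γ) ∈ fixs s (X j) ∧ layerProj (F l) (X l) (Zl X K l) c = a := by
  set s' : layerN (X l) (Zl X K l) := ⟨s, S.s_mem_layerN hl⟩ with hs'
  set π := layerProj (F l) (X l) (Zl X K l) with hπ
  have hjm : j ≤ m := hj.trans hl
  have hn : zpowers s' ≤ normalizer ((X j).subgroupOf (layerN (X l) (Zl X K l)) : Set _) :=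
    zpowers_le.2 (mem_normalizer_of_conj fun x hx => mem_subgroupOf.2 (conj_mem (S.T.sP j hjm) (mem_subgroupOf.1 hx)))
  have hcop : (Nat.card (zpowers s')).Coprime (Nat.card ((X j).subgroupOf (layerN (X l) (Zl X K l)))) := by
    rw [Nat.card_zpowers, Nat.card_congr (subgroupOfEquivOfLe (S.le_layerN hl hj)).toEquiv]
    exact (S.T.coprime_r S.rprime S.cop hjm).coprime_dvd_left (orderOf_dvd_of_pow_eq_one (Subtype.ext S.spow))
  have h1 : a ∈ ((X j).subgroupOf _ ⊓ centralizer (zpowers s' : Set _)).map π := by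
    rw [Cfsg.Lib.Coprime.map_inf_centralizer_eq π hn hcop (Or.inl (isSolvable_zpowers s'))]
    refine ⟨ha, mem_centralizer_iff.2 ?_⟩
    rintro _ ⟨b, hb, rfl⟩
    obtain ⟨i, rfl⟩ := mem_zpowers_iff.1 hb
    rw [map_zpow]
    exact ((show Commute (π s') a from hsa).zpow_left i).eq
  obtain ⟨c, ⟨hc1, hc2⟩, rfl⟩ := h1
  exact ⟨c, mem_fixs.2 ⟨hc1, congrArg Subtype.val (mem_centralizer_iff.1 hc2 s' (mem_zpowers s'))⟩, rfl⟩

/-- Fixed displacements centralise their level modulo the kernel. -/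
theorem fixed_disp (hl : l ≤ m) {c k : Γ} (hc : c ∈ disp s (X l)) (hsc : s * c = c * s) (hk : k ∈ X l) :
    ⁅c, k⁆ ∈ K l := by
  cases l with
  | zero =>
    have hC : fixs s (X 0) ≠ X 0 ∨ c = 1 := by
      by_cases e : fixs s (X 0) = X 0
      · refine Or.inr ?_
        have hbot : disp s (X 0) = ⊥ := commutator_eq_bot_iff_le_centralizer.2 fun x hx =>
          mem_centralizer_iff.2 fun a ha => by
            obtain ⟨i, rfl⟩ := mem_zpowers_iff.1 ha
            exact ((show Commute s x from (mem_fixs.1 (e.ge hx)).2).zpow_left i).eq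
        exact mem_bot.1 (hbot ▸ hc)
      · exact Or.inl e
    have hcK : c ∈ K 0 := by
      rcases hC with hC | rfl
      · refine S.T.base _ inf_le_left hC (mem_normalizer_of_conj fun x hx => ?_) (mem_fixs.2 ⟨S.disp_le hl hc, hsc⟩)
        rw [(mem_fixs.1 hx).2, mul_inv_cancel_right]; exact hx
      · exact one_mem _
    rw [show ⁅c, k⁆ = c * (k * c⁻¹ * k⁻¹) by rw [commutatorElement_def]; group]
    exact mul_mem hcK (conj_mem (S.T.normK 0 hl 0 le_rfl hk) (inv_mem hcK))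
  | succ j => exact S.T.phi_central hl c (S.T.fixed_phi S.rprime S.spow S.cop hl hc hsc) k hk

set_option maxHeartbeats 1000000 in
/-- The level data for two consecutive layers. -/
theorem lev (hl : l + 2 ≤ m) :
    Lev (layerRho (F (l + 2)) (X (l + 2)) (Zl X K (l + 2)))
      (img (layerProj (F (l + 2)) (X (l + 2)) (Zl X K (l + 2))) (X (l + 1)))
      (img (layerProj (F (l + 2)) (X (l + 2)) (Zl X K (l + 2))) (Zl X K (l + 1)))
      (img (layerProj (F (l + 2)) (X (l + 2)) (Zl X K (l + 2))) (disp s (X l)))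
      (layerProj (F (l + 2)) (X (l + 2)) (Zl X K (l + 2)) ⟨s, S.s_mem_layerN hl⟩) r (p (l + 1)) := by
  have hl1 : l + 1 < m := by omega
  have hl0 : l < m := by omega
  set π := layerProj (F (l + 2)) (X (l + 2)) (Zl X K (l + 2)) with hπ
  haveI := S.char (l + 2) hl
  have hN : ∀ j ≤ l + 2, X j ≤ layerN (X (l + 2)) (Zl X K (l + 2)) := fun j hj => S.le_layerN hl hj
  have hone : ∀ {x : Γ} (hx : x ∈ X (l + 1)) (hxN : x ∈ layerN (X (l + 2)) (Zl X K (l + 2))),
      π ⟨x, hxN⟩ = 1 ↔ x ∈ K (l + 1) := fun hx hxN => S.proj_eq_one_iff hl1 hx hxN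
  have hqc : Nat.card (img π (X (l + 1))) ∣ Nat.card (X (l + 1)) := card_img_dvd
  have hsN := S.s_mem_layerN (F := F) hl
  have hzp : img π (zpowers s) = zpowers (π ⟨s, hsN⟩) := img_zpowers hsN
  refine
    { cls := ⟨img_mono (S.Zl_le hl1.le), ?_, ?_⟩, inj := fun x _ h => layerRho_injective h
      qprime := S.T.prime _ hl1.le, isP := img_isPGroup (S.T.isP _ hl1.le), qK := ?_, pow := ?_
      rprime := S.rprime, rK := ?_, rq := S.T.ne_r S.rprime S.cop hl1.le
      spow := ?_, sQ := img_normalizer (S.T.sP _ hl1.le) hsN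
      sZ := img_normalizer (S.Zl_normalized hl1.le (S.T.sP _ hl1.le) (S.T.sK _ hl1.le)) hsN
      sR := img_normalizer (FitTwo.Cfg.le_normalizer_commutator_of (zpowers_le.2 (S.T.sP l hl0.le)) le_normalizer
        (mem_zpowers s)) hsN
      rR := ?_, rsol := ?_, RQ := ?_, Rs := ?_
      normQ := img_le_normalizer ((S.disp_le hl0.le).trans (S.T.norm _ hl1.le l (by omega)))
      normZ := img_le_normalizer fun x hx => S.Zl_normalized hl1.le (S.T.norm _ hl1.le l (by omega) (S.disp_le hl0.le hx))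
        (S.T.normK _ hl1.le l (by omega) (S.disp_le hl0.le hx))
      fixCentral := ?_, centre := ?_ }
  · intro z hz x hx
    obtain ⟨a, ha, rfl⟩ := mem_img.1 hz
    obtain ⟨b, hb, rfl⟩ := mem_img.1 hx
    rw [← commutatorElement_eq_one_iff_mul_comm, ← map_commutatorElement]
    exact (hone (S.T.K_le _ hl1.le (S.Zl_central hl0 _ ha _ hb)) _).2 (S.Zl_central hl0 _ ha _ hb)
  · intro x hx y hy
    obtain ⟨a, ha, rfl⟩ := mem_img.1 hx
    obtain ⟨b, hb, rfl⟩ := mem_img.1 hy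
    rw [← map_commutatorElement]
    exact img_mem (S.comm_Zl hl1.le _ ha _ hb) _
  · intro e
    rw [CharP.cast_eq_zero_iff (F (l + 2)) (p (l + 2))] at e
    exact S.T.ne (l + 1) hl1 (((Nat.prime_dvd_prime_iff_eq (S.T.prime _ hl) (S.T.prime _ hl1.le)).1 e).symm)
  · intro x hx
    obtain ⟨a, ha, rfl⟩ := mem_img.1 hx
    rw [← map_pow]
    exact img_mem (S.pow_Zl hl1.le _ ha) _
  · intro e
    rw [CharP.cast_eq_zero_iff (F (l + 2)) (p (l + 2))] at e
    exact S.T.ne_r S.rprime S.cop hl ((Nat.prime_dvd_prime_iff_eq (S.T.prime _ hl) S.rprime).1 e).symm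
  · rw [← map_pow, show (⟨s, hsN⟩ : layerN (X (l + 2)) (Zl X K (l + 2))) ^ r = 1 from Subtype.ext S.spow, map_one]
  · exact (S.T.coprime_r S.rprime S.cop hl0.le).coprime_dvd_right
      (card_img_dvd.trans (card_dvd_of_le (S.disp_le hl0.le)))
  · haveI := Fact.mk (S.T.prime l hl0.le)
    haveI : Group.IsNilpotent (img π (disp s (X l))) :=
      (img_isPGroup ((S.T.isP l hl0.le).to_le (S.disp_le hl0.le))).isNilpotent
    exact IsNilpotent.to_isSolvable
  · haveI := Fact.mk (S.T.prime (l + 1) hl1.le)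
    obtain ⟨a, ha⟩ := IsPGroup.iff_card.1 (S.T.isP (l + 1) hl1.le)
    refine ((S.T.coprime hl0).coprime_dvd_left (card_img_dvd.trans (card_dvd_of_le (S.disp_le hl0.le)))).coprime_dvd_right
      (ha ▸ dvd_pow_self _ fun h => S.T.ne_bot hl1.le (eq_bot_of_card_eq _ (by rw [ha, h, pow_zero])))
  · have h1 : disp s (X l) ≤ ⁅disp s (X l), zpowers s⁆ := (Cfsg.Lib.Coprime.commutator_commutator_eq
      (zpowers_le.2 (S.T.sP l hl0.le)) (by
        rw [Nat.card_zpowers]
        exact (S.T.coprime_r S.rprime S.cop hl0.le).coprime_dvd_left (orderOf_dvd_of_pow_eq_one S.spow))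
      (Or.inl (isSolvable_zpowers s))).ge
    refine (img_mono (π := π) h1).trans ?_
    rw [img_commutator ((S.disp_le hl0.le).trans (hN l (by omega))) (zpowers_le.2 hsN), hzp]
  · intro c hc hsc k hk
    obtain ⟨c', hc', rfl⟩ := mem_img.1 hc
    have hn : zpowers (⟨s, hsN⟩ : layerN (X (l + 2)) (Zl X K (l + 2))) ≤
        normalizer ((disp s (X l)).subgroupOf (layerN (X (l + 2)) (Zl X K (l + 2))) : Set _) :=
      zpowers_le.2 (mem_normalizer_of_conj fun x hx => mem_subgroupOf.2 (conj_mem (FitTwo.Cfg.le_normalizer_commutator_of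
        (zpowers_le.2 (S.T.sP l hl0.le)) le_normalizer (mem_zpowers s)) (mem_subgroupOf.1 hx)))
    have h1 : π c' ∈ ((disp s (X l)).subgroupOf _ ⊓
        centralizer (zpowers (⟨s, hsN⟩ : layerN (X (l + 2)) (Zl X K (l + 2))) : Set _)).map π := by
      rw [Cfsg.Lib.Coprime.map_inf_centralizer_eq π hn ?_ (Or.inl (isSolvable_zpowers _))]
      · refine ⟨hc, mem_centralizer_iff.2 ?_⟩
        rintro _ ⟨b, hb, rfl⟩
        obtain ⟨i, rfl⟩ := mem_zpowers_iff.1 hb
        rw [map_zpow]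
        exact ((show Commute (π _) (π c') from hsc).zpow_left i).eq
      · rw [Nat.card_zpowers, Nat.card_congr (subgroupOfEquivOfLe ((S.disp_le hl0.le).trans (hN l (by omega)))).toEquiv]
        exact ((S.T.coprime_r S.rprime S.cop hl0.le).coprime_dvd_right (card_dvd_of_le (S.disp_le hl0.le))).coprime_dvd_left
          (orderOf_dvd_of_pow_eq_one (Subtype.ext S.spow))
    obtain ⟨d, ⟨hd1, hd2⟩, hd⟩ := h1
    obtain ⟨k', hk', rfl⟩ := mem_img.1 hk
    rw [← hd]
    refine mem_centralizer_iff.2 fun x hx => ?_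
    obtain ⟨a, ha, rfl⟩ := mem_img.1 hx
    have h2 := S.fixed_disp hl0.le hd1 (congrArg Subtype.val (mem_centralizer_iff.1 hd2 _ (mem_zpowers _)))
      (S.disp_le hl0.le hk')
    have h3 := (S.T.kills l hl0 _ (S.T.K_le l hl0.le h2)).1 h2 a ha
    rw [eq_comm, ← map_commutatorElement, ← commutatorElement_eq_one_iff_mul_comm, ← map_commutatorElement]
    exact (hone (S.T.K_le _ hl1.le h3) _).2 h3
  · by_cases hF : Phi (X (l + 1)) ≤ K (l + 1)
    · refine Or.inl ((eq_bot_iff_forall _).2 fun a ha => ?_)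
      obtain ⟨x, hx, rfl⟩ := mem_img.1 ha
      exact (hone (S.Zl_le hl1.le hx) x.2).2 (sup_le hF le_rfl hx)
    · refine Or.inr fun a ha hac k hk => ?_
      obtain ⟨x, hx, rfl⟩ := mem_img.1 ha
      obtain ⟨k', hk', rfl⟩ := mem_img.1 hk
      have h1 : ∀ y ∈ X (l + 1), ⁅(x : Γ), y⁆ ∈ K (l + 1) := fun y hy => by
        have h2 : ⁅(x : Γ), y⁆ ∈ X (l + 1) := mul_mem (mul_mem (mul_mem hx hy) (inv_mem hx)) (inv_mem hy)
        refine (hone h2 (hN _ (by omega) h2)).1 ?_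
        rw [show (⟨⁅(x : Γ), y⁆, hN _ (by omega) h2⟩ : layerN (X (l + 2)) (Zl X K (l + 2))) =
          ⁅x, ⟨y, hN _ (by omega) hy⟩⁆ from rfl, map_commutatorElement, commutatorElement_eq_one_iff_mul_comm]
        exact hac _ (img_mem hy _)
      have h3 := S.T.centre hl0 hF hx h1 _ (S.disp_le hl0.le hk')
      rw [eq_comm, ← commutatorElement_eq_one_iff_mul_comm, ← map_commutatorElement]
      exact (hone (S.T.K_le _ hl1.le h3) _).2 h3

end Sys

end Cfsg.Lib.FitHeight
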