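import Cfsg.Agent.Lib.FitTwo.Config

/-!
# Images of subgroups under partial homomorphisms, and Frattini subgroups in an ambient group
-/

set_option autoImplicit false

namespace Cfsg.Lib.FitHeight

open Subgroup
open scoped commutatorElement

variable {Γ : Type*} [Group Γ]

theorem mem_normalizer_of_conj [Finite Γ] {L : Subgroup Γ} {g : Γ} (h : ∀ x ∈ L, g * x * g⁻¹ ∈ L) :
    g ∈ normalizer (L : Set Γ) := by
  rw [mem_normalizer_iff_map_conj_eq]
  refine eq_of_le_of_card_ge ?_ (card_map_of_injective (MulAut.conj g).injective).ge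
  rintro _ ⟨x, hx, rfl⟩
  exact h x hx

theorem conj_mem {L : Subgroup Γ} {g x : Γ} (hg : g ∈ normalizer (L : Set Γ)) (hx : x ∈ L) : g * x * g⁻¹ ∈ L :=
  (mem_normalizer_iff.1 hg x).1 hx

theorem conj_mem' {L : Subgroup Γ} {g x : Γ} (hg : g ∈ normalizer (L : Set Γ)) (hx : x ∈ L) : g⁻¹ * x * g ∈ L := by
  simpa using conj_mem (inv_mem hg) hx

/-! ### Relative centralisers -/

/-- The elements normalising `L` whose commutators with `B` lie in `L`. -/
def Cen (B L : Subgroup Γ) : Subgroup Γ where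
  carrier := {x | x ∈ normalizer (L : Set Γ) ∧ ∀ a ∈ B, ⁅x, a⁆ ∈ L}
  one_mem' := ⟨one_mem _, fun a _ => by rw [commutatorElement_one_left]; exact one_mem _⟩
  mul_mem' := fun {x y} hx hy => ⟨mul_mem hx.1 hy.1, fun a ha => by
    rw [show ⁅x * y, a⁆ = x * ⁅y, a⁆ * x⁻¹ * ⁅x, a⁆ by simp only [commutatorElement_def]; group]
    exact mul_mem (conj_mem hx.1 (hy.2 a ha)) (hx.2 a ha)⟩
  inv_mem' := fun {x} hx => ⟨inv_mem hx.1, fun a ha => by
    rw [show ⁅x⁻¹, a⁆ = x⁻¹ * ⁅x, a⁆⁻¹ * x by simp only [commutatorElement_def]; group]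
    exact conj_mem' hx.1 (inv_mem (hx.2 a ha))⟩

theorem mem_Cen {B L : Subgroup Γ} {x : Γ} :
    x ∈ Cen B L ↔ x ∈ normalizer (L : Set Γ) ∧ ∀ a ∈ B, ⁅x, a⁆ ∈ L := Iff.rfl

theorem conj_mem_Cen {B L : Subgroup Γ} {g x : Γ} (hB : g ∈ normalizer (B : Set Γ))
    (hL : g ∈ normalizer (L : Set Γ)) (hx : x ∈ Cen B L) : g * x * g⁻¹ ∈ Cen B L :=
  ⟨mul_mem (mul_mem hL hx.1) (inv_mem hL), fun a ha => by
    rw [show ⁅g * x * g⁻¹, a⁆ = g * ⁅x, g⁻¹ * a * g⁆ * g⁻¹ by simp only [commutatorElement_def]; group]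
    exact conj_mem hL (hx.2 _ (conj_mem' hB ha))⟩

/-! ### Images -/

variable {N : Subgroup Γ} {H : Type*} [Group H] (π : N →* H)

/-- The image of `A ⊓ N`. -/
def img (A : Subgroup Γ) : Subgroup H := (A.subgroupOf N).map π

variable {π} {A B : Subgroup Γ}

theorem mem_img {a : H} : a ∈ img π A ↔ ∃ x : N, (x : Γ) ∈ A ∧ π x = a := Iff.rfl

theorem img_mem {x : Γ} (hx : x ∈ A) (hN : x ∈ N) : π ⟨x, hN⟩ ∈ img π A := mem_img.2 ⟨⟨x, hN⟩, hx, rfl⟩

theorem img_mono (h : A ≤ B) : img π A ≤ img π B := fun a ha => by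
  obtain ⟨x, hx, e⟩ := mem_img.1 ha
  exact mem_img.2 ⟨x, h hx, e⟩

theorem img_zpowers {g : Γ} (hg : g ∈ N) : img π (zpowers g) = zpowers (π ⟨g, hg⟩) := by
  rw [img, ← MonoidHom.map_zpowers]
  congr 1
  refine map_injective N.subtype_injective ?_
  rw [map_subgroupOf_eq_of_le (zpowers_le.2 hg), MonoidHom.map_zpowers]
  rfl

theorem img_commutator (hA : A ≤ N) (hB : B ≤ N) : img π ⁅A, B⁆ = ⁅img π A, img π B⁆ := by
  rw [img, img, img, ← map_commutator]
  congr 1
  refine map_injective N.subtype_injective ?_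
  rw [map_subgroupOf_eq_of_le, map_commutator, map_subgroupOf_eq_of_le hA, map_subgroupOf_eq_of_le hB]
  exact commutator_le.2 fun a ha b hb => mul_mem (mul_mem (mul_mem (hA ha) (hB hb)) (inv_mem (hA ha))) (inv_mem (hB hb))

theorem card_img_dvd [Finite Γ] : Nat.card (img π A) ∣ Nat.card A :=
  (card_map_dvd _ _).trans (by
    rw [← card_map_of_injective N.subtype_injective]
    exact card_dvd_of_le (map_le_iff_le_comap.2 fun x hx => hx))

theorem img_normalizer [Finite H] {g : Γ} (hg : g ∈ normalizer (A : Set Γ)) (hN : g ∈ N) :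
    π ⟨g, hN⟩ ∈ normalizer (img π A : Set H) :=
  mem_normalizer_of_conj fun a ha => by
    obtain ⟨x, hx, rfl⟩ := mem_img.1 ha
    exact mem_img.2 ⟨⟨g, hN⟩ * x * ⟨g, hN⟩⁻¹, conj_mem hg hx, by simp⟩

theorem img_le_normalizer [Finite H] (h : A ≤ normalizer (B : Set Γ)) :
    img π A ≤ normalizer (img π B : Set H) := fun a ha => by
  obtain ⟨x, hx, rfl⟩ := mem_img.1 ha
  exact img_normalizer (h hx) x.2

theorem img_isPGroup {p : ℕ} (h : IsPGroup p A) : IsPGroup p (img π A) :=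
  (h.comap_of_injective N.subtype N.subtype_injective).map π

/-! ### Frattini subgroups -/

variable [Finite Γ] {P : Subgroup Γ} {p : ℕ}

open Cfsg.Lib.FitTwo.Cfg (Phi Phi_le)

theorem comm_phi [Fact p.Prime] (hP : IsPGroup p P) {x y : Γ} (hx : x ∈ P) (hy : y ∈ P) : ⁅x, y⁆ ∈ Phi P :=
  ⟨⁅(⟨x, hx⟩ : P), ⟨y, hy⟩⁆, Cfsg.Lib.PGroup.commutator_le_frattini hP
    (commutator_mem_commutator (mem_top _) (mem_top _)), rfl⟩

theorem pow_phi [Fact p.Prime] (hP : IsPGroup p P) {x : Γ} (hx : x ∈ P) : x ^ p ∈ Phi P :=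
  ⟨(⟨x, hx⟩ : P) ^ p, Cfsg.Lib.PGroup.pow_mem_frattini hP _, rfl⟩

theorem phi_normalized {g : Γ} (hg : g ∈ normalizer (P : Set Γ)) : g ∈ normalizer (Phi P : Set Γ) :=
  mem_normalizer_of_conj fun x hx => by
    obtain ⟨a, ha, rfl⟩ := hx
    refine ⟨P.normalizerMonoidHom ⟨g, hg⟩ a, ?_, rfl⟩
    rw [← characteristic_iff_map_eq.1 (inferInstance : (frattini P).Characteristic) (P.normalizerMonoidHom ⟨g, hg⟩)]
    exact mem_map_of_mem _ ha

theorem phi_lt (hne : P ≠ ⊥) : Phi P < P := by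
  refine lt_of_le_of_ne (Phi_le P) fun e => ?_
  haveI : Nontrivial P := (nontrivial_iff_ne_bot P).2 hne
  refine Cfsg.Lib.PGroup.frattini_ne_top (G := P) (map_injective (subtype_injective P) ?_)
  rw [← MonoidHom.range_eq_map, range_subtype]
  exact e

theorem eq_of_sup_phi {L : Subgroup Γ} (hL : L ≤ P) (hs : P ≤ L ⊔ Phi P) : L = P := by
  have h1 : L.subgroupOf P ⊔ frattini P = ⊤ := by
    refine map_injective (subtype_injective P) ?_
    rw [Subgroup.map_sup, map_subgroupOf_eq_of_le hL, ← MonoidHom.range_eq_map, range_subtype]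
    exact le_antisymm (sup_le hL (Phi_le P)) hs
  exact le_antisymm hL (subgroupOf_eq_top.1 (frattini_nongenerating h1))

/-! ### Fixed points modulo a subgroup -/

theorem coprime_of_isPGroup {A B : Subgroup Γ} {p q : ℕ} (hp : p.Prime) (hq : q.Prime) (hne : p ≠ q)
    (hA : IsPGroup p A) (hB : IsPGroup q B) : (Nat.card A).Coprime (Nat.card B) := by
  haveI := Fact.mk hp
  haveI := Fact.mk hq
  exact IsPGroup.coprime_card_of_ne p q hne A B hA hB

/-- If `P / L` is abelian then fixed points of `A` in `[P, A]` are trivial modulo `L`. -/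
theorem mem_of_fixed {A P L : Subgroup Γ} (hAP : A ≤ normalizer (P : Set Γ))
    (hcop : (Nat.card A).Coprime (Nat.card P)) (hPL : P ≤ normalizer (L : Set Γ))
    (hAL : A ≤ normalizer (L : Set Γ)) (hab : ∀ x ∈ P, ∀ y ∈ P, ⁅x, y⁆ ∈ L) {x : Γ} (hx : x ∈ ⁅P, A⁆)
    (hfix : ∀ a ∈ A, ⁅x, a⁆ ∈ L) : x ∈ L := by
  set N := normalizer (L : Set Γ) with hN
  haveI : (L.subgroupOf N).Normal := (normal_subgroupOf_iff_le_normalizer le_normalizer).2 le_rfl
  set π := QuotientGroup.mk' (L.subgroupOf N) with hπ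
  haveI : IsMulCommutative (img π P) := ⟨⟨fun a b => by
    obtain ⟨u, hu, hua⟩ := mem_img.1 a.2
    obtain ⟨v, hv, hvb⟩ := mem_img.1 b.2
    refine Subtype.ext ?_
    show (a : N ⧸ L.subgroupOf N) * b = b * a
    rw [← hua, ← hvb, ← commutatorElement_eq_one_iff_mul_comm, ← map_commutatorElement]
    exact (QuotientGroup.eq_one_iff _).2 (mem_subgroupOf.2 (hab _ hu _ hv))⟩⟩
  have hd := Cfsg.Lib.Coprime.disjoint_commutator_centralizer (G := img π P) (A := img π A) (img_le_normalizer hAP)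
    ((hcop.coprime_dvd_left card_img_dvd).coprime_dvd_right card_img_dvd)
  have hxP : x ∈ P := Cfsg.Lib.Coprime.commutator_le_of_le_normalizer hAP hx
  have h1 : π ⟨x, hPL hxP⟩ = 1 := by
    refine Subgroup.disjoint_def.1 hd ?_ (mem_centralizer_iff.2 fun b hb => ?_)
    · rw [← img_commutator hPL hAL]; exact img_mem hx _
    · obtain ⟨a, ha, rfl⟩ := mem_img.1 hb
      rw [eq_comm, ← commutatorElement_eq_one_iff_mul_comm, ← map_commutatorElement]
      exact (QuotientGroup.eq_one_iff _).2 (mem_subgroupOf.2 (hfix _ ha))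
  exact mem_subgroupOf.1 ((QuotientGroup.eq_one_iff _).1 h1)

end Cfsg.Lib.FitHeight
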