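import Cfsg.Agent.Lib.FitHeight.Moved

/-!
# Free orbits of characters
-/

set_option autoImplicit false

namespace Cfsg.Lib.FitHeight

open Module Cfsg.Lib.Local
open scoped commutatorElement

variable {G : Type*} [Group G] [Finite G] {K : Type*} [Field K] [IsAlgClosed K] {W : Type*} [AddCommGroup W]
  [Module K W] [FiniteDimensional K W]

/-- Commuting operators of a subgroup have a common eigenvector in every invariant subspace. -/
theorem exists_eigen_comm (π : G →* End K W) (J : Subgroup G)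
    (hJ : ∀ a ∈ J, ∀ b ∈ J, π a * π b = π b * π a) {U : Submodule K W} (hU : U ≠ ⊥)
    (hinv : ∀ a ∈ J, ∀ v ∈ U, π a v ∈ U) : ∃ χ : G → K, ∃ v ∈ U, v ≠ 0 ∧ v ∈ eigenOf π J χ := by
  classical
  obtain ⟨U', ⟨hU1, hU2, hU3⟩, hmin⟩ := wellFounded_lt.has_min
    {U' : Submodule K W | U' ≤ U ∧ U' ≠ ⊥ ∧ ∀ c ∈ J, ∀ v ∈ U', π c v ∈ U'} ⟨U, le_rfl, hU, hinv⟩
  haveI : Nontrivial U' := Submodule.nontrivial_iff_ne_bot.2 hU2
  have hscal : ∀ c : J, ∃ a : K, ∀ v ∈ U', π (c : G) v = a • v := by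
    intro c
    obtain ⟨a, ha⟩ := Module.End.exists_eigenvalue ((π (c : G)).restrict (hU3 c c.2))
    obtain ⟨w, hw⟩ := ha.exists_hasEigenvector
    refine ⟨a, fun v hv => ?_⟩
    have hweq : π (c : G) (w : W) = a • (w : W) := congrArg Subtype.val hw.apply_eq_smul
    let U'' : Submodule K W := U' ⊓ LinearMap.ker (π (c : G) - a • (1 : End K W))
    have hne : U'' ≠ ⊥ := fun e => hw.2 (Subtype.ext ((Submodule.eq_bot_iff _).1 e (w : W)
      ⟨w.2, by simp [LinearMap.mem_ker, hweq]⟩))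
    have heq : U'' = U' := eq_of_le_of_not_lt inf_le_left (hmin _ ⟨inf_le_left.trans hU1, hne,
      fun d hd u hu => ⟨hU3 d hd u hu.1, by
        have h2 : π (c : G) u = a • u := by simpa [LinearMap.mem_ker, sub_eq_zero] using hu.2
        simp only [SetLike.mem_coe, LinearMap.mem_ker, LinearMap.sub_apply, LinearMap.smul_apply,
          End.one_apply, sub_eq_zero]
        rw [← End.mul_apply, hJ c c.2 d hd, End.mul_apply, h2, map_smul]⟩⟩)
    simpa [LinearMap.mem_ker, sub_eq_zero] using (heq.ge hv).2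
  choose a ha using hscal
  obtain ⟨v, hv, hvne⟩ := Submodule.exists_mem_ne_zero_of_ne_bot hU2
  refine ⟨fun c => if hc : c ∈ J then a ⟨c, hc⟩ else 0, v, hU1 hv, hvne, mem_eigenOf.2 fun c hc => ?_⟩
  simp only [dif_pos hc]
  exact ha ⟨c, hc⟩ v hv

/-- The sum over the powers of `s`. -/
noncomputable def trOf (π : G →* End K W) (s : G) (r : ℕ) : End K W := ∑ i ∈ Finset.range r, π (s ^ i)

omit [Finite G] [IsAlgClosed K] [FiniteDimensional K W] in
theorem trOf_apply (π : G →* End K W) (s : G) (r : ℕ) (v : W) :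
    trOf π s r v = ∑ i ∈ Finset.range r, π (s ^ i) v := by
  rw [trOf, LinearMap.sum_apply]

omit [Finite G] [IsAlgClosed K] [FiniteDimensional K W] in
theorem trOf_shift (π : G →* End K W) {s : G} {r : ℕ} (hsr : s ^ r = 1) (v : W) :
    trOf π s r (π s v) = trOf π s r v := by
  rw [trOf_apply, trOf_apply]
  have h1 := Finset.sum_range_succ' (fun i => π (s ^ i) v) r
  have h2 := Finset.sum_range_succ (fun i => π (s ^ i) v) r
  rw [hsr] at h2
  rw [pow_zero] at h1
  rw [h1] at h2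
  refine Eq.trans (Finset.sum_congr rfl fun i _ => ?_) (add_right_cancel h2)
  rw [← End.mul_apply, ← map_mul, ← pow_succ]

omit [Finite G] [IsAlgClosed K] [FiniteDimensional K W] in
theorem trOf_pow_apply (π : G →* End K W) {s : G} {r : ℕ} (hsr : s ^ r = 1) (k : ℕ) (v : W) :
    trOf π s r (π (s ^ k) v) = trOf π s r v := by
  induction k with
  | zero => simp
  | succ k ih => rw [pow_succ', map_mul, End.mul_apply, trOf_shift π hsr, ih]

/-- An abelian group moved freely by `s`, whose moved part is small, has odd dimension. -/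
theorem odd_finrank_of_orbit (π : G →* End K W) {J : Subgroup G} {s : G} {r a : ℕ} (hr : r.Prime)
    (hra : r = 2 ^ a + 1) (ha : 0 < a) (hsr : s ^ r = 1) (hsJ : s ∈ Subgroup.normalizer (J : Set G))
    (hcop : r.Coprime (Nat.card J)) (hJK : (Nat.card J : K) ≠ 0)
    (hJ : ∀ x ∈ J, ∀ y ∈ J, π x * π y = π y * π x) (hCs : ∀ x ∈ J, s * x = x * s → π x = 1)
    (hfix : ∀ v, (∀ x ∈ J, π x v = v) → v = 0) [Nontrivial W]
    (hdim : finrank K (LinearMap.ker (trOf π s r)) ≤ 2 * a) : Odd (finrank K W) := by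
  classical
  -- the translates of a character
  let tr : ℕ → (G → K) → G → K := fun i χ x => χ ((s ^ i)⁻¹ * x * s ^ i)
  have hsJi : ∀ i : ℕ, ∀ x ∈ J, (s ^ i)⁻¹ * x * s ^ i ∈ J := fun i x hx =>
    (Subgroup.mem_normalizer_iff.1 (pow_mem hsJ i) _).2 (by simpa [mul_assoc] using hx)
  have hmap : ∀ (χ : G → K) (i : ℕ) {v : W}, v ∈ eigenOf π J χ → π (s ^ i) v ∈ eigenOf π J (tr i χ) := by
    intro χ i v hv
    refine mem_eigenOf.2 fun x hx => ?_
    rw [← End.mul_apply, ← map_mul, show x * s ^ i = s ^ i * ((s ^ i)⁻¹ * x * s ^ i) by group, map_mul,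
      End.mul_apply, mem_eigenOf.1 hv _ (hsJi i x hx), map_smul]
  -- no translate of an occurring character agrees with it
  have hmove : ∀ χ : G → K, eigenOf π J χ ≠ ⊥ → ∀ i, 0 < i → i < r → ∃ x ∈ J, tr i χ x ≠ χ x := by
    intro χ hχ i hi0 hir
    by_contra hcon
    push Not at hcon
    obtain ⟨v, hv, hv0⟩ := Submodule.exists_mem_ne_zero_of_ne_bot hχ
    refine hv0 (hfix v fun x hx => ?_)
    let M : Subgroup G :=
      { carrier := {x | x ∈ J ∧ χ x = 1}
        one_mem' := ⟨one_mem J, eigen_one hχ⟩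
        mul_mem' := fun {b c} hb hc => ⟨mul_mem hb.1 hc.1, by rw [eigen_mul hχ hb.1 hc.1, hb.2, hc.2, mul_one]⟩
        inv_mem' := fun {b} hb => ⟨inv_mem hb.1, by rw [eigen_inv hχ hb.1, hb.2, inv_one]⟩ }
    have hle := le_of_fixed_moved (s := s ^ i) hr (by rw [← pow_mul, mul_comm, pow_mul, hsr, one_pow]) hcop
      (pow_mem hsJ i) M (fun y hy hyc => ⟨hy, by
        have hyc' : s * y = y * s := by
          obtain ⟨k, hk⟩ := exists_pow_eq_self_of_coprime (x := s)
            (((hr.coprime_iff_not_dvd).2 fun hd => absurd (Nat.le_of_dvd hi0 hd) (not_le.2 hir)).symm.coprime_dvd_right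
              (orderOf_dvd_of_pow_eq_one hsr))
          have := ((show Commute (s ^ i) y from hyc).pow_left k).eq
          rwa [hk] at this
        obtain ⟨w, hw, hw0⟩ := Submodule.exists_mem_ne_zero_of_ne_bot hχ
        refine smul_left_injective K hw0 ?_
        show χ y • w = (1 : K) • w
        rw [← mem_eigenOf.1 hw y hy, hCs y hy hyc', one_smul, End.one_apply]⟩)
      fun y hy => by
        have hy' : s ^ i * y * (s ^ i)⁻¹ ∈ J := (Subgroup.mem_normalizer_iff.1 (pow_mem hsJ i) y).1 hy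
        refine ⟨mul_mem hy (inv_mem hy'), ?_⟩
        have e := hcon _ hy'
        simp only [tr] at e
        rw [show (s ^ i)⁻¹ * (s ^ i * y * (s ^ i)⁻¹) * s ^ i = y by group] at e
        rw [eigen_mul hχ hy (inv_mem hy'), eigen_inv hχ hy', ← e, mul_inv_cancel₀ (eigen_ne_zero hχ hy)]
    rw [mem_eigenOf.1 hv x hx, (hle hx).2, one_smul]
  obtain ⟨χ, v0, -, hv00, hv0⟩ := exists_eigen_comm π J hJ (U := ⊤) top_ne_bot fun _ _ _ _ => trivial
  set U := eigenOf π J χ with hU
  have hUne : U ≠ ⊥ := fun e => hv00 ((Submodule.eq_bot_iff _).1 e v0 hv0)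
  let Φ : (Fin r → U) →ₗ[K] W :=
    { toFun := fun v => ∑ i : Fin r, π (s ^ (i : ℕ)) (v i : W)
      map_add' := fun v w => by simp [Finset.sum_add_distrib]
      map_smul' := fun c v => by simp [Finset.smul_sum] }
  have hne : ∀ i j : Fin r, i ≠ j → ∃ x ∈ J, tr (i : ℕ) χ x ≠ tr (j : ℕ) χ x := by
    intro i j hij
    rcases lt_or_gt_of_ne (fun e : (i : ℕ) = j => hij (Fin.ext e)) with hlt | hlt
    · obtain ⟨x, hx, hxne⟩ := hmove χ hUne (j - i) (by omega) (by omega)
      refine ⟨s ^ (i : ℕ) * x * (s ^ (i : ℕ))⁻¹, (Subgroup.mem_normalizer_iff.1 (pow_mem hsJ _) x).1 hx, ?_⟩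
      simp only [tr]
      rw [show (j : ℕ) = i + (j - i) by omega, pow_add]
      intro e
      refine hxne ?_
      simp only [tr]
      rw [show (s ^ (i : ℕ))⁻¹ * (s ^ (i : ℕ) * x * (s ^ (i : ℕ))⁻¹) * s ^ (i : ℕ) = x by group,
        show (s ^ (i : ℕ) * s ^ ((j : ℕ) - i))⁻¹ * (s ^ (i : ℕ) * x * (s ^ (i : ℕ))⁻¹) *
          (s ^ (i : ℕ) * s ^ ((j : ℕ) - i)) = (s ^ ((j : ℕ) - i))⁻¹ * x * s ^ ((j : ℕ) - i) by group] at e
      exact e.symm
    · obtain ⟨x, hx, hxne⟩ := hmove χ hUne (i - j) (by omega) (by omega)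
      refine ⟨s ^ (j : ℕ) * x * (s ^ (j : ℕ))⁻¹, (Subgroup.mem_normalizer_iff.1 (pow_mem hsJ _) x).1 hx, ?_⟩
      simp only [tr]
      rw [show (i : ℕ) = j + (i - j) by omega, pow_add]
      intro e
      refine hxne ?_
      simp only [tr]
      rw [show (s ^ (j : ℕ))⁻¹ * (s ^ (j : ℕ) * x * (s ^ (j : ℕ))⁻¹) * s ^ (j : ℕ) = x by group,
        show (s ^ (j : ℕ) * s ^ ((i : ℕ) - j))⁻¹ * (s ^ (j : ℕ) * x * (s ^ (j : ℕ))⁻¹) *
          (s ^ (j : ℕ) * s ^ ((i : ℕ) - j)) = (s ^ ((i : ℕ) - j))⁻¹ * x * s ^ ((i : ℕ) - j) by group] at e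
      exact e
  have hΦ : Function.Injective Φ := by
    rw [← LinearMap.ker_eq_bot, Submodule.eq_bot_iff]
    intro v hv
    funext j
    refine Subtype.ext ?_
    have h1 : π (s ^ (j : ℕ)) (v j : W) = 0 := eigen_sum_eq_zero (A := J) hJK Finset.univ
      (fun i : Fin r => tr (i : ℕ) χ) (fun i => π (s ^ (i : ℕ)) (v i : W)) (fun i _ => hmap χ _ (v i).2)
      (Finset.mem_univ j) (fun i _ hij => hne i j hij) (LinearMap.mem_ker.1 hv)
    by_contra hne0
    exact rho_apply_ne π _ hne0 h1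
  -- its moved part
  have hmem : ∀ v : Fin r → U, ∑ i, v i = 0 → Φ v ∈ LinearMap.ker (trOf π s r) := fun v hv => by
    rw [LinearMap.mem_ker]
    show trOf π s r (∑ i : Fin r, π (s ^ (i : ℕ)) (v i : W)) = 0
    rw [map_sum, Finset.sum_congr rfl fun (i : Fin r) _ => trOf_pow_apply π hsr (i : ℕ) (v i : W), ← map_sum]
    have : (∑ i : Fin r, (v i : W)) = 0 := by
      have := congrArg Subtype.val hv
      rwa [Submodule.coe_sum] at this
    rw [this, map_zero]
  let Sg : (Fin r → U) →ₗ[K] U := ∑ i, LinearMap.proj i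
  have hS : LinearMap.range (Φ.comp (LinearMap.ker Sg).subtype) ≤ LinearMap.ker (trOf π s r) := by
    rintro _ ⟨⟨v, hv⟩, rfl⟩
    refine hmem v ?_
    simpa [Sg, LinearMap.sum_apply] using hv
  have hrank : (r - 1) * finrank K U ≤ finrank K (LinearMap.ker Sg) := by
    have h1 := LinearMap.finrank_range_add_finrank_ker Sg
    have h2 : finrank K (LinearMap.range Sg) ≤ finrank K U := Submodule.finrank_le _
    rw [Module.finrank_pi_fintype, Finset.sum_const, Finset.card_univ, Fintype.card_fin, smul_eq_mul] at h1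
    rw [Nat.sub_mul, one_mul]
    omega
  have hinj : Function.Injective (Φ.comp (LinearMap.ker Sg).subtype) := hΦ.comp (Submodule.injective_subtype _)
  have hr1 := LinearMap.finrank_range_of_inj hinj
  have hle := Submodule.finrank_mono hS
  have hUpos : 0 < finrank K U := by
    haveI : Nontrivial U := Submodule.nontrivial_iff_ne_bot.2 hUne
    exact finrank_pos
  have hpow : 2 * a ≤ 2 ^ a := by
    clear * - ha
    induction a with
    | zero => omega
    | succ n ih =>
      rcases Nat.eq_zero_or_pos n with rfl | hn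
      · norm_num
      · have h3 := ih hn
        rw [pow_succ]; omega
  have hr2 : r - 1 = 2 ^ a := by omega
  rw [hr2] at hrank
  have hm : finrank K U = 1 := by
    have h3 : 2 ^ a * finrank K U ≤ 2 ^ a * 1 := by omega
    have h4 := Nat.le_of_mul_le_mul_left h3 (by positivity)
    omega
  have heq : LinearMap.range (Φ.comp (LinearMap.ker Sg).subtype) = LinearMap.ker (trOf π s r) :=
    Submodule.eq_of_le_of_finrank_le hS (by rw [hr1]; rw [hm, mul_one] at hrank; omega)
  -- so there is one orbit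
  have htop : LinearMap.range Φ = ⊤ := by
    letI := Fintype.ofFinite J
    let E : Fin r → End K W := fun j => eavg π J (tr (j : ℕ) χ)
    have htrne : ∀ j : ℕ, eigenOf π J (tr j χ) ≠ ⊥ := fun j e =>
      rho_apply_ne π (s ^ j) hv00 ((Submodule.eq_bot_iff _).1 e _ (hmap χ j hv0))
    let W2 : Submodule K W := ⨅ j : Fin r, LinearMap.ker (E j)
    have hW2 : W2 = ⊥ := by
      by_contra hne2
      obtain ⟨ψ, w, hw, hw0, hwψ⟩ := exists_eigen_comm π J hJ hne2 fun x hx v hv =>
        (Submodule.mem_iInf _).2 fun j => by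
          rw [LinearMap.mem_ker]
          have h5 : E j (π x v) = π x (E j v) := by
            simp only [E, eavg, LinearMap.smul_apply, LinearMap.sum_apply, map_smul, map_sum]
            refine congrArg _ (Finset.sum_congr rfl fun b _ => ?_)
            rw [← End.mul_apply (π (b : G)), hJ b b.2 x hx, End.mul_apply]
          rw [h5, LinearMap.mem_ker.1 ((Submodule.mem_iInf _).1 hv j), map_zero]
      by_cases hψ : ∃ j : Fin r, ∀ x ∈ J, ψ x = tr (j : ℕ) χ x
      · obtain ⟨j, hj⟩ := hψ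
        refine hw0 ?_
        have h1 := LinearMap.mem_ker.1 ((Submodule.mem_iInf _).1 hw j)
        rwa [show E j w = w from eavg_apply hJK (fun x hx => eigen_ne_zero (htrne _) hx)
          (mem_eigenOf.2 fun x hx => by rw [← hj x hx]; exact mem_eigenOf.1 hwψ x hx)] at h1
      push Not at hψ
      have hψne : eigenOf π J ψ ≠ ⊥ := fun e => hw0 ((Submodule.eq_bot_iff _).1 e w hwψ)
      have h1 : w - π s w ∈ LinearMap.ker (trOf π s r) := by
        rw [LinearMap.mem_ker, map_sub, trOf_shift π hsr, sub_self]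
      rw [← heq] at h1
      obtain ⟨v, hv⟩ := h1
      have hkill : ∀ {f : G → K} {u : W}, u ∈ eigenOf π J f → (∃ x ∈ J, f x ≠ ψ x) → eavg π J ψ u = 0 :=
        fun {f u} hu ⟨x, hx, hxne⟩ => eavg_kill (fun b hb c hc => eigen_mul hψne hb hc)
          (fun b hb => eigen_ne_zero hψne hb) hx (mem_eigenOf.1 hu x hx) hxne
      have h2 := congrArg (eavg π J ψ) hv
      rw [map_sub, eavg_apply hJK (fun b hb => eigen_ne_zero hψne hb) hwψ] at h2
      have h3 : eavg π J ψ (π s w) = 0 := by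
        obtain ⟨x, hx, hxne⟩ := hmove ψ hψne 1 one_pos hr.one_lt
        have h4 := hmap ψ 1 hwψ
        rw [pow_one] at h4
        exact hkill h4 ⟨x, hx, hxne⟩
      rw [h3, sub_zero] at h2
      refine hw0 (h2.symm.trans ?_)
      show eavg π J ψ (∑ i : Fin r, π (s ^ (i : ℕ)) ((v : Fin r → U) i : W)) = 0
      rw [map_sum]
      refine Finset.sum_eq_zero fun i _ => hkill (hmap χ _ ((v : Fin r → U) i).2) ?_
      obtain ⟨x, hx, hxne⟩ := hψ i
      exact ⟨x, hx, fun e => hxne e.symm⟩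
    refine eq_top_iff.2 fun v _ => ?_
    have hpre : ∀ j : Fin r, ∀ u ∈ eigenOf π J (tr (j : ℕ) χ), u ∈ LinearMap.range Φ := by
      intro j u hu
      have hu' : π (s ^ (j : ℕ))⁻¹ u ∈ U := mem_eigenOf.2 fun x hx => by
        have hx' : s ^ (j : ℕ) * x * (s ^ (j : ℕ))⁻¹ ∈ J :=
          (Subgroup.mem_normalizer_iff.1 (pow_mem hsJ _) x).1 hx
        rw [← End.mul_apply, ← map_mul,
          show x * (s ^ (j : ℕ))⁻¹ = (s ^ (j : ℕ))⁻¹ * (s ^ (j : ℕ) * x * (s ^ (j : ℕ))⁻¹) by group, map_mul,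
          End.mul_apply, mem_eigenOf.1 hu _ hx', map_smul]
        simp only [tr]
        rw [show (s ^ (j : ℕ))⁻¹ * (s ^ (j : ℕ) * x * (s ^ (j : ℕ))⁻¹) * s ^ (j : ℕ) = x by group]
      refine ⟨Pi.single j ⟨_, hu'⟩, ?_⟩
      show ∑ i : Fin r, π (s ^ (i : ℕ)) ((Pi.single j (⟨_, hu'⟩ : U) : Fin r → U) i : W) = u
      rw [Finset.sum_eq_single j (fun i _ hij => by rw [Pi.single_eq_of_ne hij]; simp)
        (fun h0 => absurd (Finset.mem_univ j) h0), Pi.single_eq_same]
      show π (s ^ (j : ℕ)) (π (s ^ (j : ℕ))⁻¹ u) = u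
      rw [← End.mul_apply, ← map_mul, mul_inv_cancel, map_one]; rfl
    have hEmem : ∀ j : Fin r, ∀ w, E j w ∈ eigenOf π J (tr (j : ℕ) χ) := fun j w =>
      eavg_mem (fun b hb c hc => eigen_mul (htrne _) hb hc) (fun b hb => eigen_ne_zero (htrne _) hb) w
    have h4 : v - ∑ j : Fin r, E j v ∈ W2 := (Submodule.mem_iInf _).2 fun i => by
      rw [LinearMap.mem_ker, map_sub, map_sum, Finset.sum_eq_single i, eavg_apply hJK
        (fun b hb => eigen_ne_zero (htrne _) hb) (hEmem i v), sub_self]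
      · intro k _ hki
        obtain ⟨x, hx, hxne⟩ := hne k i hki
        exact eavg_kill (fun b hb c hc => eigen_mul (htrne _) hb hc) (fun b hb => eigen_ne_zero (htrne _) hb) hx
          (mem_eigenOf.1 (hEmem k v) x hx) hxne
      · exact fun h0 => absurd (Finset.mem_univ i) h0
    rw [hW2, Submodule.mem_bot, sub_eq_zero] at h4
    rw [h4]
    exact Submodule.sum_mem _ fun j _ => hpre j _ (hEmem j v)
  have h5 := LinearMap.finrank_range_of_inj hΦ
  rw [htop, finrank_top, Module.finrank_pi_fintype, Finset.sum_const, Finset.card_univ, Fintype.card_fin,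
    smul_eq_mul, hm, mul_one] at h5
  rw [h5, hra]
  exact (Nat.even_pow.2 ⟨even_two, ha.ne'⟩).add_one

end Cfsg.Lib.FitHeight
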