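import Cfsg.Agent.Lib.FitHeight.Core
import Cfsg.Agent.Lib.FitHeight.Fun

/-!
# Propagation of fixed points to the next level
-/

set_option autoImplicit false

namespace Cfsg.Lib.FitHeight

open Module Cfsg.Lib.Local
open scoped commutatorElement

variable {Γ : Type*} [Group Γ] [Finite Γ] {K : Type*} [Field K] [IsAlgClosed K] {V : Type*} [AddCommGroup V]
  [Module K V] [FiniteDimensional K V]

/-- Two levels: `R` acts on the `q`-group `Q`, which acts on `V`. -/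
structure Lev (ρ : Γ →* End K V) (Q Z R : Subgroup Γ) (s : Γ) (r q : ℕ) : Prop where
  cls : Cls Q Z
  inj : ∀ x ∈ Q, ρ x = 1 → x = 1
  qprime : q.Prime
  isP : IsPGroup q Q
  qK : (q : K) ≠ 0
  pow : ∀ x ∈ Q, x ^ q ∈ Z
  rprime : r.Prime
  rK : (r : K) ≠ 0
  rq : r ≠ q
  spow : s ^ r = 1
  sQ : s ∈ Subgroup.normalizer (Q : Set Γ)
  sZ : s ∈ Subgroup.normalizer (Z : Set Γ)
  sR : s ∈ Subgroup.normalizer (R : Set Γ)
  rR : r.Coprime (Nat.card R)
  rsol : Group.IsSolvable R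
  RQ : (Nat.card R).Coprime q
  Rs : R ≤ ⁅R, Subgroup.zpowers s⁆
  normQ : R ≤ Subgroup.normalizer (Q : Set Γ)
  normZ : R ≤ Subgroup.normalizer (Z : Set Γ)
  fixCentral : ∀ c ∈ R, s * c = c * s → ∀ k ∈ R, ⁅c, k⁆ ∈ Subgroup.centralizer (Q : Set Γ)
  centre : Z = ⊥ ∨ ∀ x ∈ Q, (∀ z ∈ Q, x * z = z * x) → ∀ k ∈ R, k * x = x * k

variable {ρ : Γ →* End K V} {Q Z R : Subgroup Γ} {s : Γ} {r q : ℕ}

theorem Lev.rQ (L : Lev ρ Q Z R s r q) : r.Coprime (Nat.card Q) := by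
  haveI := Fact.mk L.qprime
  obtain ⟨e, he⟩ := IsPGroup.iff_card.1 L.isP
  rw [he]
  exact Nat.Coprime.pow_right e ((Nat.coprime_primes L.rprime L.qprime).2 L.rq)

theorem Lev.RQ' (L : Lev ρ Q Z R s r q) : (Nat.card R).Coprime (Nat.card Q) := by
  haveI := Fact.mk L.qprime
  obtain ⟨e, he⟩ := IsPGroup.iff_card.1 L.isP
  rw [he]
  exact Nat.Coprime.pow_right e L.RQ

theorem Lev.cardQ (L : Lev ρ Q Z R s r q) : (Nat.card Q : K) ≠ 0 :=
  haveI := Fact.mk L.qprime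
  natCard_cast_ne_zero L.qK L.isP

/-- An element fixing the fixed moved vectors is trivial on a component which is not still. -/
theorem Lev.good_kills (L : Lev ρ Q Z R s r q) {ω : Γ → K} (hω : Comp L.cls ρ ω)
    (hgood : ¬ Still L.cls ρ s ω) {d : Γ} (hd : d ∈ Q) (hsd : s * d = d * s)
    (hfix : ∀ v ∈ fixNull ρ ⁅Q, Subgroup.zpowers s⁆ s, ρ d v = v) : ∀ v ∈ cspace L.cls ρ ω, ρ d v = v := by
  set S := ⁅Q, Subgroup.zpowers s⁆ with hS
  have hSQ : S ≤ Q := Cfsg.Lib.Coprime.commutator_le_of_le_normalizer (zpowers_le_normalizer L.sQ)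
  have hSn : ∀ y ∈ Q, ∀ x ∈ S, y * x * y⁻¹ ∈ S := fun y hy x hx =>
    (Subgroup.mem_normalizer_iff.1 (Subgroup.normalizer_commutator_ge_left Q _ hy) x).1 hx
  have hsS : s ∈ Subgroup.normalizer (S : Set Γ) :=
    Subgroup.normalizer_commutator_ge_right Q _ (Subgroup.mem_zpowers s)
  have hdisp : ∀ x ∈ Q, x * (s * x * s⁻¹)⁻¹ ∈ S := fun x hx => by
    have := Subgroup.commutator_mem_commutator hx (Subgroup.mem_zpowers s)
    rwa [show ⁅x, s⁆ = x * (s * x * s⁻¹)⁻¹ by rw [commutatorElement_def]; group] at this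
  by_cases hf : FitTwo.translate s ω = ω
  · obtain ⟨hnd, hex⟩ : ¬ Dead L.cls ρ S ω ∧ ∃ v ∈ cspace L.cls ρ ω, ρ s v = v ∧ v ≠ 0 := by
      refine ⟨fun h => hgood ⟨hf, Or.inl h⟩, ?_⟩
      by_contra hcon
      push Not at hcon
      exact hgood ⟨hf, Or.inr hcon⟩
    obtain ⟨v0, hv0, hsv0, hv0ne⟩ := hex
    have hW : ∀ v ∈ cspace L.cls ρ ω, ρ s v = v → ρ d v = v := fun v hv hsv =>
      hfix v (mem_fixNull.2 ⟨hsv, hω.sum_eq_zero hSQ hSn hnd hv⟩)
    have hsst : s ∈ stab Q Z ω := ⟨L.sQ, L.sZ, hf⟩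
    have hdrad : d ∈ rad L.cls ρ ω := by
      let M : Subgroup Γ :=
        { carrier := {n | n ∈ Q ∧ ω ⁅d, n⁆ = 1}
          one_mem' := ⟨one_mem Q, by rw [commutatorElement_one_right]; exact hω.one⟩
          mul_mem' := fun {a b} ha hb => ⟨mul_mem ha.1 hb.1, by
            rw [show ⁅d, a * b⁆ = ⁅d, a⁆ * (a * ⁅d, b⁆ * a⁻¹) by simp only [commutatorElement_def]; group,
              ← L.cls.cent _ (L.cls.comm d hd b hb.1) a ha.1, mul_inv_cancel_right,
              hω.mul (le_rad _ ρ ω (L.cls.comm d hd a ha.1)) (le_rad _ ρ ω (L.cls.comm d hd b hb.1)), ha.2, hb.2,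
              one_mul]⟩
          inv_mem' := fun {a} ha => ⟨inv_mem ha.1, by
            rw [show ⁅d, a⁻¹⁆ = a⁻¹ * ⁅d, a⁆⁻¹ * a by simp only [commutatorElement_def]; group, mul_assoc,
              L.cls.cent _ (inv_mem (L.cls.comm d hd a ha.1)) a ha.1, inv_mul_cancel_left,
              hω.inv (le_rad _ ρ ω (L.cls.comm d hd a ha.1)), ha.2, inv_one]⟩ }
      refine (hω.mem_rad_iff).2 ⟨hd, fun n hn => ?_⟩
      refine (le_of_fixed_moved L.rprime L.spow L.rQ L.sQ M (fun c hc hsc => ⟨hc, ?_⟩) (fun x hx => ?_) hn).2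
      · have hcv : ρ c v0 ∈ cspace L.cls ρ ω := hω.maps hc hv0
        have hscv : ρ s (ρ c v0) = ρ c v0 := by
          rw [← End.mul_apply, ← map_mul, hsc, map_mul, End.mul_apply, hsv0]
        refine smul_left_injective K (rho_apply_ne ρ (c * d) hv0ne) ?_
        show ω ⁅d, c⁆ • ρ (c * d) v0 = (1 : K) • ρ (c * d) v0
        rw [one_smul, ← apply_rad (hω.maps (mul_mem hc hd) hv0) (le_rad _ ρ ω (L.cls.comm d hd c hc)),
          ← End.mul_apply, ← map_mul, show ⁅d, c⁆ * (c * d) = d * c by rw [commutatorElement_def]; group, map_mul,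
          End.mul_apply, map_mul, End.mul_apply, hW _ hcv hscv, hW v0 hv0 hsv0]
      · have hx' : s * x * s⁻¹ ∈ Q := (Subgroup.mem_normalizer_iff.1 L.sQ x).1 hx
        refine ⟨mul_mem hx (inv_mem hx'), ?_⟩
        have h1 : ω ⁅d, s * x * s⁻¹⁆ = ω ⁅d, x⁆ := by
          rw [show ⁅d, s * x * s⁻¹⁆ = s * ⁅d, x⁆ * s⁻¹ by
            simp only [commutatorElement_def]
            calc d * (s * x * s⁻¹) * d⁻¹ * (s * x * s⁻¹)⁻¹ = d * s * x * (d * s)⁻¹ * (s * x⁻¹ * s⁻¹) := by group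
              _ = _ := by rw [← hsd]; group]
          exact (stab_rad hsst (le_rad L.cls ρ ω (L.cls.comm d hd x hx))).2
        rw [show ⁅d, x * (s * x * s⁻¹)⁻¹⁆ = ⁅d, x⁆ * (x * ⁅d, (s * x * s⁻¹)⁻¹⁆ * x⁻¹) by
            simp only [commutatorElement_def]; group,
          ← L.cls.cent _ (L.cls.comm d hd _ (inv_mem hx')) x hx, mul_inv_cancel_right,
          show ⁅d, (s * x * s⁻¹)⁻¹⁆ = (s * x * s⁻¹)⁻¹ * ⁅d, s * x * s⁻¹⁆⁻¹ * (s * x * s⁻¹) by
            simp only [commutatorElement_def]; group,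
          mul_assoc (s * x * s⁻¹)⁻¹, L.cls.cent _ (inv_mem (L.cls.comm d hd _ hx')) _ hx', inv_mul_cancel_left,
          hω.mul (le_rad _ ρ ω (L.cls.comm d hd x hx)) (le_rad _ ρ ω (inv_mem (L.cls.comm d hd _ hx'))),
          hω.inv (le_rad _ ρ ω (L.cls.comm d hd _ hx')), h1,
          mul_inv_cancel₀ (hω.ne_zero (le_rad _ ρ ω (L.cls.comm d hd x hx)))]
    have h1 : ω d = 1 := smul_left_injective K hv0ne (by
      show ω d • v0 = (1 : K) • v0
      rw [← apply_rad hv0 hdrad, hW v0 hv0 hsv0, one_smul])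
    intro v hv
    rw [apply_rad hv hdrad, h1, one_smul]
  · have hnd : ¬ Dead L.cls ρ S ω := fun h => hf (hω.fixed_of_dead L.rprime L.spow L.sQ L.sZ hdisp h)
    refine hω.trivial_of_moved L.rprime L.spow L.sQ L.sZ L.cardQ hf (Subgroup.le_normalizer hd)
      (L.cls.le_normalizer hd) hsd (L.rQ.symm.coprime_dvd_left (Subgroup.orderOf_dvd_natCard Q hd)) fun v hv => ?_
    exact hfix _ (hω.orbit_mem L.rprime L.spow L.sQ L.sZ hSQ hSn hsS hnd hv)

variable {K' : Type*} [Field K'] [IsAlgClosed K'] [CharP K' q]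

/-- The functions killing the kernel of a component. -/
def compFun (K' : Type*) [Field K'] (h : Cls Q Z) (ρ : Γ →* End K V) (ω : Γ → K) (f : Γ → K') : Prop :=
  f ∈ funSpace K' Q Z ∧ ∀ x ∈ Q, (∀ v ∈ cspace h ρ ω, ρ x v = v) → f x = 0

theorem compFun_translate {h : Cls Q Z} {ω : Γ → K} {f : Γ → K'} (hf : compFun K' h ρ ω f) {g : Γ}
    (hgQ : g ∈ Subgroup.normalizer (Q : Set Γ)) (hgZ : g ∈ Subgroup.normalizer (Z : Set Γ)) :
    compFun K' h ρ (FitTwo.translate g ω) (funOp Γ K' g f) := by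
  refine ⟨fun_translate hf.1 hgQ hgZ, fun x hx hfix => hf.2 _ ?_ fun v hv => ?_⟩
  · exact (Subgroup.mem_normalizer_iff.1 hgQ _).2 (by simpa [mul_assoc] using hx)
  · have h1 := hfix _ (map_cspace hgQ hgZ hv)
    have h2 := congrArg (ρ g⁻¹) h1
    simp only [← End.mul_apply, ← map_mul] at h2
    rw [inv_mul_cancel, map_one, End.one_apply, ← mul_assoc] at h2
    exact h2

theorem mem_normalizer_centralizer {g : Γ} (hg : g ∈ Subgroup.normalizer (Q : Set Γ)) :
    g ∈ Subgroup.normalizer (Subgroup.centralizer (Q : Set Γ) : Set Γ) := by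
  have key : ∀ a : Γ, a ∈ Subgroup.normalizer (Q : Set Γ) → ∀ z ∈ Subgroup.centralizer (Q : Set Γ),
      a * z * a⁻¹ ∈ Subgroup.centralizer (Q : Set Γ) := fun a ha z hz => Subgroup.mem_centralizer_iff.2 fun x hx => by
    have hx' : a⁻¹ * x * a ∈ Q := by simpa using (Subgroup.mem_normalizer_iff.1 (inv_mem ha) x).1 hx
    have e := Subgroup.mem_centralizer_iff.1 hz _ hx'
    calc x * (a * z * a⁻¹) = a * (a⁻¹ * x * a * z) * a⁻¹ := by group
      _ = _ := by rw [e]; group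
  refine Subgroup.mem_normalizer_iff.2 fun z => ⟨key g hg z, fun h => ?_⟩
  have := key g⁻¹ (inv_mem hg) _ h
  simpa [mul_assoc] using this

/-- The stabiliser of a still component acts through the fixed points on its functions. -/
theorem Lev.stab_fixes (L : Lev ρ Q Z R s r q) {ω : Γ → K} (hω : Comp L.cls ρ ω) (hst : Still L.cls ρ s ω)
    {f : Γ → K'} (hf : compFun K' L.cls ρ ω f) :
    ∀ k ∈ ⁅R ⊓ stab Q Z ω, Subgroup.zpowers s⁆, funOp Γ K' k f = f := by
  haveI := Fact.mk L.qprime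
  set H := R ⊓ stab Q Z ω with hH
  have hsst : s ∈ stab Q Z ω := ⟨L.sQ, L.sZ, hst.1⟩
  have hsH : s ∈ Subgroup.normalizer (H : Set Γ) :=
    Subgroup.inf_normalizer_le_normalizer_inf ⟨L.sR, Subgroup.le_normalizer hsst⟩
  set H0 := ⁅H, Subgroup.zpowers s⁆ with hH0
  have hH0H : H0 ≤ H := Cfsg.Lib.Coprime.commutator_le_of_le_normalizer (zpowers_le_normalizer hsH)
  have hdvd : Nat.card H0 ∣ Nat.card R := Subgroup.card_dvd_of_le (hH0H.trans inf_le_left)
  have htriv := stab_trivial hω L.qprime L.isP L.pow L.rprime L.rK L.spow L.sQ L.sZ L.rQ hst (J0 := H0)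
    (hH0H.trans inf_le_right) (Cfsg.Lib.Coprime.isSolvable_of_le (hH0H.trans inf_le_left) L.rsol)
    (L.RQ'.coprime_dvd_left hdvd) (L.rR.coprime_dvd_right hdvd)
    (Subgroup.normalizer_commutator_ge_right H _ (Subgroup.mem_zpowers s))
    (Cfsg.Lib.Coprime.commutator_commutator_eq (zpowers_le_normalizer hsH)
      (coprime_zpowers L.rprime L.spow (L.rR.coprime_dvd_right (Subgroup.card_dvd_of_le inf_le_left)))
      (Or.inl (isSolvable_zpowers s))).ge
  intro k hk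
  have hkst : k ∈ stab Q Z ω := (hH0H hk).2
  have hkQ : ∀ x ∈ Q, k * x * k⁻¹ ∈ Q := fun x hx => (Subgroup.mem_normalizer_iff.1 hkst.1 x).1 hx
  have hradfix : ∀ z ∈ rad L.cls ρ ω, f (k * z * k⁻¹) = f z := by
    intro z hz
    obtain ⟨h1, h2⟩ := stab_rad hkst hz
    rw [← sub_eq_zero, ← fun_mul_inv hf.1 (rad_le _ ρ ω h1) (rad_le _ ρ ω hz)]
    refine hf.2 _ (mul_mem (rad_le _ ρ ω h1) (inv_mem (rad_le _ ρ ω hz))) fun v hv => ?_
    rw [apply_rad hv (mul_mem h1 (inv_mem hz)), hω.mul h1 (inv_mem hz), h2, hω.inv hz,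
      mul_inv_cancel₀ (hω.ne_zero hz), one_smul]
  have hzero : ∀ x ∈ Q, f (k * x * k⁻¹ * x⁻¹) = 0 := by
    intro x hx
    have hiter : ∀ a : ℕ, f (k ^ a * x * (k ^ a)⁻¹) = f x + (a : K') * f (k * x * k⁻¹ * x⁻¹) := by
      intro a
      induction a with
      | zero => simp
      | succ a ih =>
        have hxa : k ^ a * x * (k ^ a)⁻¹ ∈ Q := (Subgroup.mem_normalizer_iff.1 (pow_mem hkst.1 a) x).1 hx
        have he := rad_le L.cls ρ ω (htriv k hk x hx)
        have hea : k ^ a * (k * x * k⁻¹ * x⁻¹) * (k ^ a)⁻¹ ∈ Q :=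
          (Subgroup.mem_normalizer_iff.1 (pow_mem hkst.1 a) _).1 he
        rw [show k ^ (a + 1) * x * (k ^ (a + 1))⁻¹ =
          k ^ a * (k * x * k⁻¹ * x⁻¹) * (k ^ a)⁻¹ * (k ^ a * x * (k ^ a)⁻¹) by rw [pow_succ]; group,
          hf.1.2.1 _ hea _ hxa, ih]
        have hconst : ∀ b : ℕ, f (k ^ b * (k * x * k⁻¹ * x⁻¹) * (k ^ b)⁻¹) = f (k * x * k⁻¹ * x⁻¹) := by
          intro b
          induction b with
          | zero => simp
          | succ b ihb =>
            rw [show k ^ (b + 1) * (k * x * k⁻¹ * x⁻¹) * (k ^ (b + 1))⁻¹ =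
              k * (k ^ b * (k * x * k⁻¹ * x⁻¹) * (k ^ b)⁻¹) * k⁻¹ by rw [pow_succ']; group,
              hradfix _ ((stab_rad (pow_mem hkst b) (htriv k hk x hx)).1), ihb]
        rw [hconst a]
        push_cast
        ring
    have h1 := hiter (orderOf k)
    rw [pow_orderOf_eq_one, one_mul, inv_one, mul_one, left_eq_add] at h1
    refine (mul_eq_zero.1 h1).resolve_left fun e => ?_
    rw [CharP.cast_eq_zero_iff K' q] at e
    exact L.qprime.one_lt.ne' (Nat.eq_one_of_dvd_coprimes L.RQ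
      ((e.trans (Subgroup.orderOf_dvd_natCard R (hH0H hk).1))) dvd_rfl)
  funext x
  show f (k⁻¹ * x * k) = f x
  by_cases hx : x ∈ Q
  · have hx' : k⁻¹ * x * k ∈ Q := (Subgroup.mem_normalizer_iff.1 hkst.1 _).2 (by simpa [mul_assoc] using hx)
    have h1 := hzero _ hx'
    rw [show k * (k⁻¹ * x * k) * k⁻¹ = x by group, fun_mul_inv hf.1 hx hx', sub_eq_zero] at h1
    exact h1.symm
  · rw [hf.1.1 x hx, hf.1.1 _ fun h => hx ?_]
    have := (Subgroup.mem_normalizer_iff.1 hkst.1 _).1 h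
    rwa [show k * (k⁻¹ * x * k) * k⁻¹ = x by group] at this

/-- The subgroup sending a still component to still components. -/
def stillSub (Q Z R : Subgroup Γ) (ω : Γ → K) (s : Γ) : Subgroup Γ :=
  (R ⊓ Subgroup.centralizer ({s} : Set Γ)) ⊔ (R ⊓ stab Q Z ω)

theorem stillSub_le (ω : Γ → K) : stillSub Q Z R ω s ≤ R := sup_le inf_le_left inf_le_left

theorem Lev.stillSub_conj (L : Lev ρ Q Z R s r q) {ω : Γ → K} (hst : Still L.cls ρ s ω) :
    s ∈ Subgroup.normalizer (stillSub Q Z R ω s : Set Γ) := by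
  have h1 : s ∈ Subgroup.normalizer ((R ⊓ Subgroup.centralizer ({s} : Set Γ) : Subgroup Γ) : Set Γ) :=
    Subgroup.inf_normalizer_le_normalizer_inf
      ⟨L.sR, Subgroup.le_normalizer (Subgroup.mem_centralizer_iff.2 fun a ha => by
        rw [Set.mem_singleton_iff.1 ha])⟩
  have h2 : s ∈ Subgroup.normalizer ((R ⊓ stab Q Z ω : Subgroup Γ) : Set Γ) :=
    Subgroup.inf_normalizer_le_normalizer_inf
      ⟨L.sR, Subgroup.le_normalizer (show s ∈ stab Q Z ω from ⟨L.sQ, L.sZ, hst.1⟩)⟩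
  refine Subgroup.mem_normalizer_iff_map_conj_eq.2 ?_
  rw [stillSub, Subgroup.map_sup, Subgroup.mem_normalizer_iff_map_conj_eq.1 h1,
    Subgroup.mem_normalizer_iff_map_conj_eq.1 h2]

theorem Lev.fp (L : Lev ρ Q Z R s r q) {ω : Γ → K} (hst : Still L.cls ρ s ω) :
    ∀ k ∈ R, ∀ j, 0 < j → j < r → k⁻¹ * (s ^ j * k * (s ^ j)⁻¹) ∈ stillSub Q Z R ω s →
      k ∈ stillSub Q Z R ω s := by
  intro k hk j hj0 hjr hh
  refine inv_mem_iff.1 (mem_of_coset_fixed L.rprime L.spow L.rR (stillSub_le ω) L.sR (L.stillSub_conj hst)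
    (fun x hx hxc => Subgroup.mem_sup_left ⟨hx, Subgroup.mem_centralizer_iff.2 fun a ha => by
      rw [Set.mem_singleton_iff.1 ha]; exact hxc⟩) (inv_mem hk) hj0 hjr ?_)
  convert hh using 1
  rw [commutatorElement_def]
  group

theorem Lev.good_translate (L : Lev ρ Q Z R s r q) {ω : Γ → K} (hst : Still L.cls ρ s ω) {k : Γ} (hk : k ∈ R)
    (hkB : k ∉ stillSub Q Z R ω s) : ¬ Still L.cls ρ s (FitTwo.translate k ω) := by
  rintro ⟨hfix, -⟩
  refine hkB (L.fp hst k hk 1 one_pos L.rprime.one_lt (Subgroup.mem_sup_right ?_))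
  have hm : k⁻¹ * (s ^ 1 * k * (s ^ 1)⁻¹) ∈ R :=
    mul_mem (inv_mem hk) ((Subgroup.mem_normalizer_iff.1 (pow_mem L.sR 1) k).1 hk)
  refine ⟨hm, L.normQ hm, L.normZ hm, ?_⟩
  rw [pow_one]
  have hsi : FitTwo.translate s⁻¹ ω = ω := by
    conv_lhs => rw [← hst.1]
    rw [translate_translate, inv_mul_cancel, translate_one]
  calc FitTwo.translate (k⁻¹ * (s * k * s⁻¹)) ω
      = FitTwo.translate k⁻¹ (FitTwo.translate s (FitTwo.translate k (FitTwo.translate s⁻¹ ω))) := by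
        simp only [translate_translate, mul_assoc]
    _ = ω := by rw [hsi, hfix, translate_translate, inv_mul_cancel, translate_one]

/-- When the still subgroup is everything, functions of the component are fixed. -/
theorem Lev.fixed_of_full (L : Lev ρ Q Z R s r q) {ω : Γ → K} (hω : Comp L.cls ρ ω) (hst : Still L.cls ρ s ω)
    (hfull : R ≤ stillSub Q Z R ω s) {f : Γ → K'} (hf : compFun K' L.cls ρ ω f) :
    ∀ k ∈ R, funOp Γ K' k f = f := by
  -- `R` acts as the displacements of the stabiliser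
  set H := R ⊓ stab Q Z ω with hH
  set C := R ⊓ Subgroup.centralizer ({s} : Set Γ) with hCdef
  set H0 := ⁅H, Subgroup.zpowers s⁆ with hH0
  set RC := R ⊓ Subgroup.centralizer (Q : Set Γ) with hRC
  set W := H0 ⊔ RC with hW
  have hRCn : R ≤ Subgroup.normalizer (RC : Set Γ) := fun g hg =>
    Subgroup.inf_normalizer_le_normalizer_inf ⟨Subgroup.le_normalizer hg,
      mem_normalizer_centralizer (L.normQ hg)⟩
  have hsH : s ∈ Subgroup.normalizer (H : Set Γ) := Subgroup.inf_normalizer_le_normalizer_inf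
    ⟨L.sR, Subgroup.le_normalizer (show s ∈ stab Q Z ω from ⟨L.sQ, L.sZ, hst.1⟩)⟩
  have hH0H : H0 ≤ H := Cfsg.Lib.Coprime.commutator_le_of_le_normalizer (zpowers_le_normalizer hsH)
  have hHn : H ≤ Subgroup.normalizer (W : Set Γ) := fun g hg => by
    rw [Subgroup.mem_normalizer_iff_map_conj_eq, hW, Subgroup.map_sup,
      Subgroup.mem_normalizer_iff_map_conj_eq.1 (Subgroup.normalizer_commutator_ge_left H _ hg : g ∈ Subgroup.normalizer (H0 : Set Γ)),
      Subgroup.mem_normalizer_iff_map_conj_eq.1 (hRCn hg.1)]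
  have hCW : ∀ c ∈ C, ∀ w ∈ W, c * w * c⁻¹ ∈ W := fun c hc w hw => by
    have hle : W ≤ W.comap (MulAut.conj c).toMonoidHom := by
      refine sup_le (fun h hh => ?_) fun z hz => ?_
      · show c * h * c⁻¹ ∈ W
        rw [show c * h * c⁻¹ = ⁅c, h⁆ * h by rw [commutatorElement_def]; group]
        refine mul_mem (Subgroup.mem_sup_right ⟨?_, ?_⟩) (Subgroup.mem_sup_left hh)
        · rw [commutatorElement_def]
          exact R.mul_mem (R.mul_mem (R.mul_mem hc.1 (hH0H hh).1) (R.inv_mem hc.1)) (R.inv_mem (hH0H hh).1)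
        · exact L.fixCentral c hc.1 (Subgroup.mem_centralizer_iff.1 hc.2 s rfl) h (hH0H hh).1
      · exact Subgroup.mem_sup_right ((Subgroup.mem_normalizer_iff.1 (hRCn hc.1) z).1 hz)
    exact hle hw
  have hCn : C ≤ Subgroup.normalizer (W : Set Γ) := fun c hc => Subgroup.mem_normalizer_iff.2 fun w =>
    ⟨hCW c hc w, fun h => by simpa [mul_assoc] using hCW c⁻¹ (inv_mem hc) _ h⟩
  let T : Subgroup Γ :=
    { carrier := {a | a ∈ Subgroup.normalizer (W : Set Γ) ∧ ∀ g ∈ Subgroup.zpowers s, ⁅a, g⁆ ∈ W}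
      one_mem' := ⟨one_mem _, fun g _ => by simp⟩
      mul_mem' := fun {a b} ha hb => ⟨mul_mem ha.1 hb.1, fun g hg => by
        rw [show ⁅a * b, g⁆ = a * ⁅b, g⁆ * a⁻¹ * ⁅a, g⁆ by simp only [commutatorElement_def]; group]
        exact mul_mem ((Subgroup.mem_normalizer_iff.1 ha.1 _).1 (hb.2 g hg)) (ha.2 g hg)⟩
      inv_mem' := fun {a} ha => ⟨inv_mem ha.1, fun g hg => by
        rw [show ⁅a⁻¹, g⁆ = a⁻¹ * ⁅a, g⁆⁻¹ * a⁻¹⁻¹ by simp only [commutatorElement_def]; group]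
        exact (Subgroup.mem_normalizer_iff.1 (inv_mem ha.1) _).1 (inv_mem (ha.2 g hg))⟩ }
  have hle : stillSub Q Z R ω s ≤ T := by
    refine sup_le (fun c hc => ⟨hCn hc, fun g hg => ?_⟩) fun h hh => ⟨hHn hh, fun g hg =>
      Subgroup.mem_sup_left (Subgroup.commutator_mem_commutator hh hg)⟩
    obtain ⟨i, rfl⟩ := hg
    rw [commutatorElement_eq_one_iff_mul_comm.2
      ((show Commute c s from (Subgroup.mem_centralizer_iff.1 hc.2 s rfl).symm).zpow_right i).eq]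
    exact one_mem W
  let N := Subgroup.normalizer (Q : Set Γ) ⊓ Subgroup.normalizer (Z : Set Γ)
  let M : Subgroup Γ :=
    { carrier := {g | g ∈ N ∧ funOp Γ K' g f = f}
      one_mem' := ⟨one_mem N, by rw [map_one]; rfl⟩
      mul_mem' := fun {a b} ha hb => ⟨mul_mem ha.1 hb.1, by rw [map_mul, End.mul_apply, hb.2, ha.2]⟩
      inv_mem' := fun {a} ha => ⟨inv_mem ha.1, by
        conv_lhs => rw [← ha.2]
        rw [← End.mul_apply, ← map_mul, inv_mul_cancel, map_one]; rfl⟩ }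
  have hWM : W ≤ M := sup_le
    (fun h hh => ⟨⟨L.normQ (hH0H hh).1, L.normZ (hH0H hh).1⟩, L.stab_fixes hω hst hf h hh⟩)
    fun z hz => ⟨⟨L.normQ hz.1, L.normZ hz.1⟩, funOp_of_centralize hf.1 hz.2⟩
  intro k hk
  exact (hWM ((Subgroup.commutator_le.2 fun a ha g hg => (hle (hfull ha)).2 g hg) (L.Rs hk))).2

end Cfsg.Lib.FitHeight
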