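import Cfsg.Agent.Lib.FitHeight.Act

/-!
# An element fixing the vectors fixed by `s`
-/

set_option autoImplicit false

namespace Cfsg.Lib.FitHeight

open Module Polynomial
open scoped commutatorElement

variable {Γ : Type*} [Group Γ] {K : Type*} [Field K] {W : Type*} [AddCommGroup W] [Module K W]
  {ρ : Γ →* End K W} {E R : Subgroup Γ}

/-- `g` fixes every coset of `R` in `E`. -/
def Fixes (E R : Subgroup Γ) (g : Γ) : Prop := ∀ x ∈ E, g * x * g⁻¹ * x⁻¹ ∈ R

theorem Fixes.mul {g g' : Γ} (hg : Fixes E R g) (hg' : Fixes E R g') (hR : ∀ z ∈ R, g * z * g⁻¹ ∈ R) :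
    Fixes E R (g * g') := fun x hx => by
  rw [show g * g' * x * (g * g')⁻¹ * x⁻¹ = g * (g' * x * g'⁻¹ * x⁻¹) * g⁻¹ * (g * x * g⁻¹ * x⁻¹) by group]
  exact mul_mem (hR _ (hg' x hx)) (hg x hx)

theorem Fixes.inv {g : Γ} (hg : Fixes E R g) (hR : ∀ z ∈ R, g⁻¹ * z * g ∈ R) : Fixes E R g⁻¹ := fun x hx => by
  have e : g⁻¹ * x * g⁻¹⁻¹ * x⁻¹ = g⁻¹ * (g * x * g⁻¹ * x⁻¹)⁻¹ * g := by group
  rw [e]
  exact hR _ (inv_mem (hg x hx))

theorem Fixes.pow {g : Γ} (hg : Fixes E R g) (hR : ∀ z ∈ R, g * z * g⁻¹ ∈ R) : ∀ k : ℕ, Fixes E R (g ^ k)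
  | 0 => fun x _ => by simp
  | k + 1 => by rw [pow_succ']; exact hg.mul (Fixes.pow hg hR k) hR

variable [Finite Γ] [FiniteDimensional K W] [Nontrivial W]

omit [FiniteDimensional K W] in
/-- An element fixing every coset, of order prime to `E`, commutes with `E` in the representation. -/
theorem Fixes.commute (h : Heis ρ E R) {g : Γ} (hg : Fixes E R g) (hcop : (orderOf g).Coprime (Nat.card E))
    {x : Γ} (hx : x ∈ E) : ρ g * ρ x = ρ x * ρ g := by
  obtain ⟨d, hd⟩ := h.scalar _ (hg x hx)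
  have h1 : ρ g * ρ x = d • (ρ x * ρ g) := by
    calc ρ g * ρ x = ρ (g * x * g⁻¹ * x⁻¹) * (ρ x * ρ g) := by
          rw [← map_mul, ← map_mul, ← map_mul]; congr 1; group
      _ = _ := by rw [hd, smul_mul_assoc, one_mul]
  have h2 : ∀ k : ℕ, ρ g ^ k * ρ x = d ^ k • (ρ x * ρ g ^ k) := by
    intro k
    induction k with
    | zero => simp
    | succ k ih =>
      rw [pow_succ', mul_assoc, ih, mul_smul_comm, ← mul_assoc, h1, smul_mul_assoc, smul_smul, pow_succ, mul_assoc]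
  have h3 : ∀ k : ℕ, ρ g * ρ x ^ k = d ^ k • (ρ x ^ k * ρ g) := by
    intro k
    induction k with
    | zero => simp
    | succ k ih =>
      rw [pow_succ, ← mul_assoc, ih, smul_mul_assoc, mul_assoc, h1, mul_smul_comm, smul_smul, pow_succ, mul_assoc]
  have hN : d ^ orderOf g = 1 := by
    have := h2 (orderOf g)
    rw [← map_pow, pow_orderOf_eq_one, map_one, one_mul, mul_one] at this
    exact (h.scalar_unique (x := x) ((one_smul K _).trans this)).symm
  have hM : d ^ Nat.card E = 1 := by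
    have := h3 (Nat.card E)
    rw [← map_pow, show x ^ Nat.card E = 1 from orderOf_dvd_iff_pow_eq_one.1 (Subgroup.orderOf_dvd_natCard E hx),
      map_one, one_mul, mul_one] at this
    exact (h.scalar_unique (x := g) ((one_smul K _).trans this)).symm
  have hd1 := pow_gcd_eq_one.2 ⟨hN, hM⟩
  rw [hcop.gcd_eq_one, pow_one] at hd1
  rwa [hd1, one_smul] at h1

theorem Heis.moved_conj {A : Subgroup Γ} (h : Heis ρ E R) (hn : Norm A E R) {g : Γ}
    (hg : ∀ x ∈ E, g * x * g⁻¹ ∈ E) (hgR : ∀ x ∈ R, g * x * g⁻¹ ∈ R) (hgA : ∀ a ∈ A, g * a = a * g) {x : Γ}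
    (hx : x ∈ h.movedPart hn) : g * x * g⁻¹ ∈ h.movedPart hn := by
  obtain ⟨hxE, hxR⟩ := hx
  refine ⟨hg x hxE, ?_⟩
  have h1 := (h.exists_norm hn).choose_spec.2.2.2.2.2 g hg hgR hgA ⟨x, hxE⟩
  have h2 := hgR _ hxR
  simp only [Subgroup.coe_mul, InvMemClass.coe_inv] at h1
  have h3 := mul_mem h2 (inv_mem h1)
  simpa [Heis.normMap, mul_assoc] using h3

omit [Finite Γ] [FiniteDimensional K W] [Nontrivial W] in
theorem fixed_conj {A : Subgroup Γ} (hle : R ≤ E) (hab : ∀ x ∈ E, ∀ y ∈ E, ⁅x, y⁆ ∈ R) (hn : Norm A E R) {g : Γ}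
    (hg : ∀ x ∈ E, g * x * g⁻¹ ∈ E) (hgR : ∀ x ∈ R, g * x * g⁻¹ ∈ R) (hgA : ∀ a ∈ A, g * a = a * g) {x : Γ}
    (hx : x ∈ fixedPart hle hab hn) : g * x * g⁻¹ ∈ fixedPart hle hab hn := by
  refine ⟨hg x hx.1, fun a ha => ?_⟩
  rw [show a * (g * x * g⁻¹) * a⁻¹ * (g * x * g⁻¹)⁻¹ = (a * g) * x * (a * g)⁻¹ * (g * x⁻¹ * g⁻¹) by group, ← hgA a ha,
    show g * a * x * (g * a)⁻¹ * (g * x⁻¹ * g⁻¹) = g * (a * x * a⁻¹ * x⁻¹) * g⁻¹ by group]
  exact hgR _ (hx.2 a ha)

variable [IsAlgClosed K] [DecidableEq K] {s : Γ} {r : ℕ}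

omit [IsAlgClosed K] [FiniteDimensional K W] [DecidableEq K] in
/-- An operator whose conjugation fixes a block of the model on an eigenspace of `τ` is scalar there. -/
theorem ActModel.scalar_on (h : Act ρ E R s r) (D : ActModel ρ E R s r) {y : Γ}
    (hfix : ∀ v, ρ s v = v → ρ y v = v) {t t' : End K (Fin D.M.n → K)} (htt : t' * t = 1)
    (hy : ∀ A, ρ y * D.M.j A = D.M.j (t * A * t') * ρ y) {a c : K} (hac : c * a = 1) {v0 : W} (hv0 : v0 ≠ 0)
    (hvc : D.τ v0 = c • v0) : ∃ l : K, ∀ x ∈ D.S.eigenspace a, t x = l • x := by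
  let Q : Submodule K W := LinearMap.ker (D.τ - c • (1 : End K W))
  have hQ : ∀ w, w ∈ Q ↔ D.τ w = c • w := fun w => by simp [Q, LinearMap.mem_ker, sub_eq_zero]
  have hQinv : ∀ x ∈ E, ∀ w ∈ Q, ρ x w ∈ Q := fun x hx w hw => by
    obtain ⟨e, -, he⟩ := D.M.mem ⟨x, hx⟩
    rw [hQ] at hw ⊢
    rw [show ρ x = e • D.M.j _ from he, LinearMap.smul_apply, map_smul, ← End.mul_apply, D.τ_comm, End.mul_apply,
      hw, map_smul, smul_comm]
  have hC : ∀ A, D.S * A = a • A → ∀ w ∈ Q, ρ y (D.M.j A w) = D.M.j A w := fun A hA w hw => hfix _ (by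
    rw [D.τ_mul, End.mul_apply, ← End.mul_apply (D.M.j D.S), ← map_mul, hA, map_smul, LinearMap.smul_apply,
      map_smul, ← End.mul_apply D.τ, D.τ_comm, End.mul_apply, (hQ w).1 hw, map_smul, smul_smul, mul_comm a, hac,
      one_smul])
  have hkey : ∀ A B, D.S * A = a • A → D.S * B = a • B → (t * A * t' - A) * B = 0 := by
    intro A B hA hB
    refine D.M.faithful Q (fun e => hv0 ((Submodule.eq_bot_iff _).1 e v0 ((hQ v0).2 hvc))) hQinv _ fun w hw => ?_
    have hAB : D.S * (A * B) = a • (A * B) := by rw [← mul_assoc, hA, smul_mul_assoc]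
    have h1 := hC _ hAB w hw
    rw [map_mul, End.mul_apply, ← End.mul_apply (ρ y), hy, End.mul_apply, hC B hB w hw] at h1
    rw [sub_mul, map_sub, map_mul, map_mul D.M.j A B, LinearMap.sub_apply, End.mul_apply, End.mul_apply, h1,
      sub_self]
  by_cases hbot : D.S.eigenspace a = ⊥
  · exact ⟨1, fun x hx => by
      rw [hbot, Submodule.mem_bot] at hx
      rw [hx, map_zero, smul_zero]⟩
  obtain ⟨u, hu, hu0⟩ := Submodule.exists_mem_ne_zero_of_ne_bot hbot
  obtain ⟨ψ, hψ⟩ := exists_dual_one K hu0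
  have hS : ∀ x ∈ D.S.eigenspace a, D.S * ψ.smulRight x = a • ψ.smulRight x := fun x hx => LinearMap.ext fun z => by
    simp [LinearMap.smulRight_apply, End.mem_eigenspace_iff.1 hx, smul_smul, mul_comm]
  have h2 : ∀ x ∈ D.S.eigenspace a, ψ (t' u) • t x = x := fun x hx => by
    have := LinearMap.congr_fun (hkey _ _ (hS x hx) (hS u hu)) u
    simp only [sub_mul, LinearMap.sub_apply, End.mul_apply, LinearMap.smulRight_apply, hψ, one_smul, map_smul,
      LinearMap.zero_apply, sub_eq_zero] at this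
    exact this
  have hne : ψ (t' u) ≠ 0 := fun e => hu0 (by have := h2 u hu; rw [e, zero_smul] at this; exact this.symm)
  exact ⟨(ψ (t' u))⁻¹, fun x hx => by conv_rhs => rw [← h2 x hx, smul_smul, inv_mul_cancel₀ hne, one_smul]⟩

/-- The conjugation of an element commuting with `s`, with the joint move. -/
theorem ActModel.exists_joint (h : Act ρ E R s r) (D : ActModel ρ E R s r) {y : Γ}
    (hn : Norm (Subgroup.zpowers y) E R) (hsy : s * y = y * s) {u : ℕ} (hu : 0 < u) (hru : r.Coprime u)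
    (hcomm : ∀ x ∈ E, ρ (y ^ u) * ρ x = ρ x * ρ (y ^ u))
    (hfree : ∀ x ∈ E, ∀ j, 0 < j → j < u → y ^ j * x * (y ^ j)⁻¹ * x⁻¹ ∈ R → x ∈ R) :
    ∃ (t t' : End K (Fin D.M.n → K)) (π' : Equiv.Perm (E ⧸ R.subgroupOf E)), t' * t = 1 ∧ t ^ u = 1 ∧
      D.S * t = t * D.S ∧ (∀ A, ρ y * D.M.j A = D.M.j (t * A * t') * ρ y) ∧
      FreeMove D.M.basis ((1 : E) : E ⧸ R.subgroupOf E) (D.S * t) π' (r * u) := by
  obtain ⟨t, π, htu, hπu, hπ, hmove, hconj⟩ := D.M.exists_op hn.zpowers_left hn.zpowers_right hu hcomm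
  set t' := t ^ (u - 1) with ht'
  have htt : t' * t = 1 := by rw [ht', ← pow_succ, Nat.sub_add_cancel hu, htu]
  have htt' : t * t' = 1 := by rw [ht', ← pow_succ', Nat.sub_add_cancel hu, htu]
  set S' := D.S ^ (r - 1) with hS'
  have hSS : S' * D.S = 1 := by rw [hS', ← pow_succ, Nat.sub_add_cancel h.prime.pos, D.move.pow]
  have hSS' : D.S * S' = 1 := by rw [hS', ← pow_succ', Nat.sub_add_cancel h.prime.pos, D.move.pow]
  -- the two conjugations commute
  have hcc : ∀ A, D.S * (t * A * t') * S' = t * (D.S * A * S') * t' := by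
    intro A
    have e1 : ρ (s * y) * D.M.j A = D.M.j (D.S * (t * A * t') * S') * ρ (s * y) := by
      rw [map_mul, mul_assoc, hconj, ← mul_assoc, D.conj, mul_assoc]
    have e2 : ρ (s * y) * D.M.j A = D.M.j (t * (D.S * A * S') * t') * ρ (s * y) := by
      rw [hsy, map_mul, mul_assoc, D.conj, ← mul_assoc, hconj, mul_assoc]
    refine D.M.injective ?_
    have := congrArg (· * ρ (s * y)⁻¹) (e1.symm.trans e2)
    simpa only [mul_assoc, rho_mul_inv, mul_one] using this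
  obtain ⟨l, hl⟩ := scalar_of_commute (S := S' * t' * D.S * t) fun A => by
    have h1 := congrArg (fun X => S' * t' * X * (t * D.S)) (hcc A)
    calc S' * t' * D.S * t * A = S' * t' * (D.S * t * A) * (t' * S' * D.S * t) := by
          rw [mul_assoc t' S', hSS, mul_one, htt, mul_one]; simp only [mul_assoc]
      _ = S' * t' * (t * (D.S * A * S') * t') * (D.S * t) := by
          rw [← hcc]; simp only [mul_assoc]
      _ = A * (S' * t' * D.S * t) := by
          calc _ = S' * (t' * t) * D.S * A * (S' * t' * (D.S * t)) := by simp only [mul_assoc]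
            _ = _ := by rw [htt, mul_one, hSS, one_mul]; simp only [mul_assoc]
  have hst : D.S * t = l • (t * D.S) := by
    have := congrArg (fun X => t * D.S * X) hl
    simp only [mul_smul_comm, mul_one] at this
    rw [← this]
    calc D.S * t = t * (D.S * S') * t' * D.S * t := by rw [hSS', mul_one, htt', one_mul]
      _ = _ := by simp only [mul_assoc]
  have hlp : ∀ k : ℕ, D.S ^ k * t = l ^ k • (t * D.S ^ k) ∧ D.S * t ^ k = l ^ k • (t ^ k * D.S) := by
    intro k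
    induction k with
    | zero => simp
    | succ k ih =>
      refine ⟨?_, ?_⟩
      · rw [pow_succ', mul_assoc, ih.1, mul_smul_comm, ← mul_assoc, hst, smul_mul_assoc, smul_smul, pow_succ, mul_assoc]
      · rw [pow_succ, ← mul_assoc, ih.2, smul_mul_assoc, mul_assoc, hst, mul_smul_comm, smul_smul, pow_succ,
          mul_assoc]
  haveI : Nonempty (Fin D.M.n) := ⟨⟨0, D.M.npos⟩⟩
  have hcancel : ∀ {X : End K (Fin D.M.n → K)}, IsUnit X → ∀ c : K, X = c • X → c = 1 := fun {X} hX c e => by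
    obtain ⟨w, hw⟩ := exists_ne (0 : Fin D.M.n → K)
    obtain ⟨X', hX'⟩ := hX.exists_left_inv
    have h1 := congrArg (X' * ·) e
    simp only [mul_smul_comm, hX'] at h1
    exact (smul_left_injective K hw (by simpa using (LinearMap.congr_fun h1 w).symm))
  have hl1 : l = 1 := by
    have h1 := (hlp r).1
    rw [D.move.pow, one_mul, mul_one] at h1
    have h2 := (hlp u).2
    rw [htu, one_mul, mul_one] at h2
    have := pow_gcd_eq_one.2 ⟨hcancel (IsUnit.of_mul_eq_one _ htt') _ h1, hcancel (IsUnit.of_mul_eq_one _ hSS') _ h2⟩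
    rwa [hru.gcd_eq_one, pow_one] at this
  rw [hl1, one_smul] at hst
  refine ⟨t, t', D.π * π, htt, htu, hst, hconj, ?_⟩
  have hππ : Commute D.π π := Equiv.ext fun x => by
    induction x using QuotientGroup.induction_on with
    | _ x =>
      rw [Equiv.Perm.mul_apply, Equiv.Perm.mul_apply, hπ, D.perm, D.perm, hπ]
      refine congrArg QuotientGroup.mk (Subtype.ext ?_)
      show s * (y * (x : Γ) * y⁻¹) * s⁻¹ = y * (s * x * s⁻¹) * y⁻¹
      calc _ = s * y * (x : Γ) * (s * y)⁻¹ := by group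
        _ = _ := by rw [hsy]; group
  refine ⟨Nat.mul_pos h.prime.pos hu, D.M.one, ?_, fun x => ?_, ?_, ?_, fun x hx j hj0 hj e => ?_⟩
  · rw [(show Commute D.S t from hst).mul_pow, pow_mul, D.move.pow, one_pow, one_mul, mul_comm r, pow_mul, htu,
      one_pow]
  · obtain ⟨c, hc⟩ := hmove x
    obtain ⟨c', hc'⟩ := D.move.move (π x)
    exact ⟨c * c', by rw [mul_assoc, hc, mul_smul_comm, ← mul_assoc, hc', smul_mul_assoc, smul_smul, mul_assoc,
      Equiv.Perm.mul_apply]⟩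
  · rw [Equiv.Perm.mul_apply, hπ]
    conv_lhs => rw [show ((⟨y * ((1 : E) : Γ) * y⁻¹, _⟩ : E)) = 1 from Subtype.ext (by simp)]
    exact D.move.fix
  · rw [hππ.mul_pow, pow_mul, D.move.period, one_pow, one_mul, mul_comm r, pow_mul, hπu, one_pow]
  · have hfx : ∀ k, ((D.π * π) ^ (j * k)) x = x := fun k => by
      rw [pow_mul]
      exact Equiv.Perm.pow_apply_eq_self_of_apply_eq_self e k
    have h1 := hfx u
    rw [hππ.mul_pow, show π ^ (j * u) = 1 by rw [mul_comm, pow_mul, hπu, one_pow], mul_one] at h1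
    have h2 := hfx r
    rw [hππ.mul_pow, show D.π ^ (j * r) = 1 by rw [mul_comm, pow_mul, D.move.period, one_pow], one_mul] at h2
    have hr : r ∣ j * u := by
      by_contra hnd
      refine D.move.free x hx (j * u % r) (Nat.pos_of_ne_zero fun e' => hnd (Nat.dvd_of_mod_eq_zero e'))
        (Nat.mod_lt _ h.prime.pos) ?_
      rw [← pow_eq_pow_mod _ D.move.period]; exact h1
    have huj : u ∣ j * r := by
      by_contra hnd
      induction x using QuotientGroup.induction_on with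
      | _ x =>
        refine hx (QuotientGroup.eq.2 ?_)
        rw [Subgroup.mem_subgroupOf]
        rw [pow_eq_pow_mod _ hπu] at h2
        simpa using hfree x x.2 (j * r % u) (Nat.pos_of_ne_zero fun e' => hnd (Nat.dvd_of_mod_eq_zero e'))
          (Nat.mod_lt _ hu) (mem_of_perm_fixed h.heis hn.zpowers_left hπ _ x h2)
    have h3 : r * u ∣ j := hru.mul_dvd_of_dvd_of_dvd (hru.dvd_of_dvd_mul_right hr) (hru.symm.dvd_of_dvd_mul_right huj)
    exact absurd (Nat.le_of_dvd hj0 h3) (not_le.2 hj)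

/-- Acting freely and fixing the fixed vectors of `s`, an element of prime power order has order at most two. -/
theorem Act.free_le_two (h : Act ρ E R s r) {y : Γ} (hn : Norm (Subgroup.zpowers y) E R) (hsy : s * y = y * s)
    {l e : ℕ} (hl : l.Prime) (hlr : l ≠ r) (hcomm : ∀ x ∈ E, ρ (y ^ l ^ e) * ρ x = ρ x * ρ (y ^ l ^ e))
    (hfree : ∀ x ∈ E, ∀ j, 0 < j → j < l ^ e → y ^ j * x * (y ^ j)⁻¹ * x⁻¹ ∈ R → x ∈ R)
    (hfix : ∀ v, ρ s v = v → ρ y v = v) : l ^ e ≤ 2 := by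
  obtain ⟨D⟩ := h.exists_actModel
  haveI := Fintype.ofFinite (E ⧸ R.subgroupOf E)
  obtain ⟨t, t', π', htt, htu, hst, hy, hmove⟩ := D.exists_joint h hn hsy (pow_pos hl.pos e)
    (Nat.Coprime.pow_right e ((Nat.coprime_primes h.prime hl).2 (Ne.symm hlr))) hcomm hfree
  obtain ⟨c, hc, v, -, hv0, hvc⟩ := exists_eigen_of_pow h.prime.pos D.τ_pow (U := ⊤) top_ne_bot (fun _ _ => trivial)
  rw [mem_nthRootsFinset h.prime.pos] at hc
  have hc0 : c ≠ 0 := fun e => by rw [e, zero_pow h.prime.ne_zero] at hc; exact zero_ne_one hc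
  obtain ⟨m, hm⟩ := D.scalar_on h hfix htt hy (mul_inv_cancel₀ hc0) hv0 hvc
  exact D.move.order_le_two h.prime h.cast hmove hl htu hst (by rw [D.M.finrank_eq]; exact D.two)
    ((mem_nthRootsFinset h.prime.pos _).2 (by rw [inv_pow, hc, inv_one])) hm

/-- In odd order an involution cannot both move and fix part of `E`. -/
theorem not_mixed (h : Act ρ E R s r) (hodd : Odd (Nat.card E)) {y : Γ} (hn : Norm (Subgroup.zpowers y) E R)
    (hsy : s * y = y * s) (hcop : (orderOf y).Coprime (Nat.card E)) (hy2 : Fixes E R (y ^ 2)) (hr2 : r ≠ 2)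
    (hfix : ∀ v, ρ s v = v → ρ y v = v) (hmov : ∃ x ∈ E, y * x * y⁻¹ * x⁻¹ ∉ R) :
    ∀ x ∈ E, y * x * y⁻¹ * x⁻¹ ∈ R → x ∈ R := by
  by_contra hcon
  push Not at hcon
  obtain ⟨x2, hx2, hx2f, hx2R⟩ := hcon
  have hcA : (Nat.card (Subgroup.zpowers y)).Coprime (Nat.card E) := by rw [Nat.card_zpowers]; exact hcop
  set E1 := h.heis.movedPart hn with hE1
  set E2 := fixedPart h.heis.le h.heis.abel hn with hE2
  have hyfix : ∀ x ∈ E, y * x * y⁻¹ * x⁻¹ ∈ R → x ∈ E2 := by
    intro x hx hh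
    refine ⟨hx, fun a ha => ?_⟩
    obtain ⟨k, rfl⟩ := mem_powers_iff_mem_zpowers.2 ha
    have hcy : ∀ k : ℕ, y ^ k * x * (y ^ k)⁻¹ * x⁻¹ ∈ R := by
      intro k
      induction k with
      | zero => simp
      | succ k ih =>
        rw [pow_succ', show y * y ^ k * x * (y * y ^ k)⁻¹ * x⁻¹ =
          y * (y ^ k * x * (y ^ k)⁻¹ * x⁻¹) * y⁻¹ * (y * x * y⁻¹ * x⁻¹) by group]
        exact mul_mem (hn.zpowers_right _ ih).1 hh
    exact hcy k
  have hs1 : ∀ a ∈ Subgroup.zpowers s, ∀ b ∈ Subgroup.zpowers y, a * b = b * a := fun a ha b hb => by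
    obtain ⟨i, rfl⟩ := ha
    obtain ⟨k, rfl⟩ := hb
    exact ((show Commute s y from hsy).zpow_zpow i k).eq
  have hnorm1 : Norm (Subgroup.zpowers s) E1 R := ⟨fun a ha x hx =>
    h.heis.moved_conj hn (h.norm.left a ha) (h.norm.right a ha) (hs1 a ha) hx, h.norm.right⟩
  have hnorm2 : Norm (Subgroup.zpowers s) E2 R := ⟨fun a ha x hx =>
    fixed_conj h.heis.le h.heis.abel hn (h.norm.left a ha) (h.norm.right a ha) (hs1 a ha) hx, h.norm.right⟩
  have hdvd1 : Nat.card E1 ∣ Nat.card E := Subgroup.card_dvd_of_le (h.heis.movedPart_le hn)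
  have hdvd2 : Nat.card E2 ∣ Nat.card E := Subgroup.card_dvd_of_le fun _ hx => hx.1
  have hne1 : ∃ x ∈ E1, x ∉ R := by
    by_contra hcon
    push Not at hcon
    obtain ⟨x, hx, hxn⟩ := hmov
    have h1 : E1 ⊔ E2 ≤ E2 := sup_le (fun z hz => h.heis.le_fixedPart hn (hcon z hz)) le_rfl
    exact hxn ((h1 ((h.heis.moved_sup_fixed hcA hn).ge hx)).2 y (Subgroup.mem_zpowers y))
  have hA1 : Act ρ E1 R s r := ⟨h.heis.heis_moved hcA hn, h.prime, h.cast, h.pow, hnorm1,
    fun x hx => h.free x (h.heis.movedPart_le hn hx), h.coprime.coprime_dvd_right hdvd1, hne1⟩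
  have hA2 : Act ρ E2 R s r := ⟨h.heis.heis_fixed hcA hn, h.prime, h.cast, h.pow, hnorm2,
    fun x hx => h.free x hx.1, h.coprime.coprime_dvd_right hdvd2, ⟨x2, hyfix x2 hx2 hx2f, hx2R⟩⟩
  obtain ⟨D⟩ := hA1.exists_actModel
  haveI := Fintype.ofFinite (E1 ⧸ R.subgroupOf E1)
  have hyA : ∀ a ∈ Subgroup.zpowers y, ∀ b ∈ Subgroup.zpowers y, a * b = b * a := fun a ha b hb => by
    obtain ⟨i, rfl⟩ := ha
    obtain ⟨k, rfl⟩ := hb
    exact ((Commute.refl y).zpow_zpow i k).eq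
  have hn1 : Norm (Subgroup.zpowers y) E1 R := ⟨fun a ha x hx =>
    h.heis.moved_conj hn (hn.left a ha) (hn.right a ha) (hyA a ha) hx, hn.right⟩
  obtain ⟨t, t', π', htt, htu, hst, hy, hmove⟩ := D.exists_joint hA1 hn1 hsy two_pos
    ((Nat.coprime_primes h.prime Nat.prime_two).2 hr2)
    (fun x hx => Fixes.commute h.heis hy2 (hcop.coprime_dvd_left (orderOf_pow_dvd _)) (h.heis.movedPart_le hn hx))
    (fun x hx j hj0 hj2 hh => by
      obtain rfl : j = 1 := by omega
      rw [pow_one] at hh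
      exact h.heis.moved_inf_fixed hcA hn hx (hyfix x (h.heis.movedPart_le hn hx) hh))
  -- `t` is scalar on every eigenspace
  have hscal : ∀ a ∈ nthRootsFinset r (1 : K), ∃ m : K, ∀ x ∈ D.S.eigenspace a, t x = m • x := by
    intro a ha
    have ha0 : a ≠ 0 := fun e => by
      rw [mem_nthRootsFinset h.prime.pos, e, zero_pow h.prime.ne_zero] at ha; exact zero_ne_one ha
    let W2 : Submodule K W := ⨆ A : {A // D.S * A = a • A}, LinearMap.range (D.M.j A.1)
    have hW2 : ∀ w ∈ W2, D.M.j D.S w = a • w := by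
      intro w hw
      have hle : W2 ≤ LinearMap.ker (D.M.j D.S - a • (1 : End K W)) := iSup_le fun A => by
        rintro _ ⟨z, rfl⟩
        rw [LinearMap.mem_ker, LinearMap.sub_apply, ← End.mul_apply, ← map_mul, A.2, map_smul]
        simp
      simpa [sub_eq_zero] using hle hw
    have hcommE : ∀ x ∈ E2, ∀ A, ρ x * D.M.j A = D.M.j A * ρ x := fun x hx A =>
      D.M.commute (fun z hz => h.heis.moved_comm_fixed hcA hn hz hx) A
    have hinv : ∀ x ∈ E2, ∀ w ∈ W2, ρ x w ∈ W2 := by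
      intro x hx w hw
      refine Submodule.iSup_induction (motive := fun w => ρ x w ∈ W2) _ hw ?_ ?_ ?_
      · rintro A _ ⟨z, rfl⟩
        rw [← End.mul_apply, hcommE x hx]
        exact Submodule.mem_iSup_of_mem A ⟨ρ x z, rfl⟩
      · simp
      · intro p q hp hq; rw [map_add]; exact W2.add_mem hp hq
    have hs2 : ∀ w ∈ W2, ρ s w ∈ W2 := by
      intro w hw
      refine Submodule.iSup_induction (motive := fun w => ρ s w ∈ W2) _ hw ?_ ?_ ?_
      · rintro A _ ⟨z, rfl⟩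
        rw [← End.mul_apply, D.conj]
        exact Submodule.mem_iSup_of_mem ⟨D.S * A.1 * D.S ^ (r - 1), by
          rw [A.2, smul_mul_assoc, mul_smul_comm, ← mul_assoc, A.2, smul_mul_assoc]⟩ ⟨ρ s z, rfl⟩
      · simp
      · intro p q hp hq; rw [map_add]; exact W2.add_mem hp hq
    have hW2ne : W2 ≠ ⊥ := by
      obtain ⟨u, hu, hu0⟩ := Submodule.exists_mem_ne_zero_of_ne_bot (D.dims hA1 ha (hodd.of_dvd_nat hdvd1))
      obtain ⟨φ, hφ⟩ := exists_dual_one K hu0
      have hA : D.S * φ.smulRight u = a • φ.smulRight u := LinearMap.ext fun z => by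
        simp [LinearMap.smulRight_apply, End.mem_eigenspace_iff.1 hu, smul_smul, mul_comm]
      intro e
      have h0 : D.M.j (φ.smulRight u) = 0 := LinearMap.ext fun z =>
        (Submodule.eq_bot_iff _).1 e _ (Submodule.mem_iSup_of_mem ⟨φ.smulRight u, hA⟩ ⟨z, rfl⟩)
      have := LinearMap.congr_fun (D.M.injective (h0.trans (map_zero D.M.j).symm)) u
      simp [hφ, hu0] at this
    obtain ⟨w, hw, hw0, hsw⟩ := hA2.exists_eigen (hodd.of_dvd_nat hdvd2) hW2ne hinv hs2
      ((mem_nthRootsFinset h.prime.pos _).2 (one_pow r))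
    rw [one_smul, D.τ_mul, End.mul_apply, hW2 w hw, map_smul] at hsw
    refine D.scalar_on hA1 hfix htt hy (inv_mul_cancel₀ ha0) hw0 ?_
    conv_rhs => rw [← hsw]
    rw [smul_smul, inv_mul_cancel₀ ha0, one_smul]
  -- so the commutant of `S` is no larger than that of `S t`
  obtain ⟨k, hk, -, hkeq⟩ := D.move.commutant_dim
  obtain ⟨k', hk', hub, -⟩ := hmove.commutant_dim
  have hle : commutant D.S ≤ commutant (D.S * t) := by
    intro X hX
    rw [mem_commutant] at hX ⊢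
    have htX : t * X = X * t := ext_eigen h.cast D.move.pow fun a ha x hx => by
      obtain ⟨m, hm⟩ := hscal a ha
      have hXx : X x ∈ D.S.eigenspace a := by
        rw [End.mem_eigenspace_iff] at hx ⊢
        rw [← End.mul_apply, hX, End.mul_apply, hx, map_smul]
      rw [End.mul_apply, End.mul_apply, hm _ hXx, hm x hx, map_smul]
    rw [mul_assoc, htX, ← mul_assoc, hX, mul_assoc]
  have h1 := Submodule.finrank_mono hle
  rw [hkeq h.cast] at h1
  have h2 : k ≤ k' := by omega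
  have h3 : 0 < k := by
    rcases Nat.eq_zero_or_pos k with h4 | h4
    · rw [h4, mul_zero, zero_add, D.M.card_eq] at hk
      have := D.two
      have h5 := (Nat.pow_eq_one.1 hk.symm).resolve_right two_ne_zero
      omega
    · exact h4
  nlinarith [h.prime.pos]

/-- An element fixing the fixed vectors of `s` acts as a sign. -/
theorem Act.sign (h : Act ρ E R s r) {y : Γ} (hn : Norm (Subgroup.zpowers y) E R) (hsy : s * y = y * s)
    (hcop : (orderOf y).Coprime (Nat.card E)) (hyr : (orderOf y).Coprime r) (hfix : ∀ v, ρ s v = v → ρ y v = v) :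
    Fixes E R y ∨ (Even (orderOf y) ∧ ∀ x ∈ E, y * x * y⁻¹ * x ∈ R) := by
  classical
  have hnat : ∀ k : ℕ, ∀ z ∈ R, y ^ k * z * (y ^ k)⁻¹ ∈ R := fun k z hz =>
    hn.right _ (pow_mem (Subgroup.mem_zpowers y) k) z hz
  have hex : ∃ m, 0 < m ∧ Fixes E R (y ^ m) := ⟨orderOf y, orderOf_pos y, fun x _ => by simp [pow_orderOf_eq_one]⟩
  set m := Nat.find hex with hm
  obtain ⟨hm0, hmfix⟩ := Nat.find_spec hex
  have hdvd : ∀ i, Fixes E R (y ^ i) → m ∣ i := by
    intro i hi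
    rcases Nat.eq_zero_or_pos (i % m) with h0 | h0
    · exact Nat.dvd_of_mod_eq_zero h0
    refine absurd ?_ (Nat.find_min hex (Nat.mod_lt i hm0))
    refine ⟨h0, ?_⟩
    have h1 : Fixes E R (y ^ (m * (i / m))) := by rw [pow_mul]; exact hmfix.pow (hnat m) _
    have h2 := hi.mul (h1.inv fun z hz => by simpa using hn.right _ (inv_mem (pow_mem (Subgroup.mem_zpowers y) _)) z hz)
      (hnat i)
    have e : y ^ (i % m) = y ^ i * (y ^ (m * (i / m)))⁻¹ := by
      rw [eq_mul_inv_iff_mul_eq, ← pow_add, Nat.mod_add_div]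
    rw [e]
    exact h2
  have hmo : m ∣ orderOf y := hdvd _ fun x _ => by simp [pow_orderOf_eq_one]
  have hyc : ∀ i, ∀ x ∈ E, Fixes E R (y ^ i) → ρ (y ^ i) * ρ x = ρ x * ρ (y ^ i) := fun i x hx hi =>
    Fixes.commute h.heis hi (hcop.coprime_dvd_left (orderOf_pow_dvd _)) hx
  have hsk : ∀ i : ℕ, s * y ^ i = y ^ i * s := fun i => ((show Commute s y from hsy).pow_right i).eq
  have hfixk : ∀ i : ℕ, ∀ v, ρ s v = v → ρ (y ^ i) v = v := by
    intro i v hv
    induction i with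
    | zero => simp
    | succ i ih => rw [pow_succ', map_mul, End.mul_apply, ih, hfix v hv]
  -- an element of prime order on the cosets
  have main : ∀ l, l.Prime → l ∣ m → (∀ x ∈ E, y ^ (m / l) * x * (y ^ (m / l))⁻¹ * x⁻¹ ∈ R → x ∈ R) ∧ l = 2 := by
    intro l hl hlm
    set g := y ^ (m / l) with hg
    have hgl : g ^ l = y ^ m := by rw [hg, ← pow_mul, Nat.div_mul_cancel hlm]
    have hgnot : ¬ Fixes E R g := fun hh => by
      have := Nat.le_of_dvd (Nat.div_pos (Nat.le_of_dvd hm0 hlm) hl.pos) (hdvd _ hh)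
      exact absurd this (not_le.2 (Nat.div_lt_self hm0 hl.one_lt))
    have hn' : Norm (Subgroup.zpowers g) E R :=
      hn.mono (Subgroup.zpowers_le.2 (pow_mem (Subgroup.mem_zpowers y) _))
    have hcg : (orderOf g).Coprime (Nat.card E) := hcop.coprime_dvd_left (orderOf_pow_dvd _)
    have hcA : (Nat.card (Subgroup.zpowers g)).Coprime (Nat.card E) := by rw [Nat.card_zpowers]; exact hcg
    have hlr : l ≠ r := fun e => h.prime.one_lt.ne' (Nat.eq_one_of_dvd_coprimes hyr (e ▸ hlm.trans hmo) dvd_rfl)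
    have hgl' : Fixes E R (g ^ l) := hgl ▸ hmfix
    set E1 := h.heis.movedPart hn' with hE1
    -- `g` has no fixed coset on the moved part
    have hfree1 : ∀ x ∈ E1, ∀ j, 0 < j → j < l → g ^ j * x * (g ^ j)⁻¹ * x⁻¹ ∈ R → x ∈ R := by
      intro x hx j hj0 hjl hh
      refine h.heis.moved_inf_fixed hcA hn' hx ⟨h.heis.movedPart_le hn' hx, fun a ha => ?_⟩
      let F : Subgroup Γ :=
        { carrier := {b | b ∈ Subgroup.zpowers g ∧ b * x * b⁻¹ * x⁻¹ ∈ R}
          one_mem' := ⟨one_mem _, by simp⟩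
          mul_mem' := fun {b b'} hb hb' => ⟨mul_mem hb.1 hb'.1, by
            rw [show b * b' * x * (b * b')⁻¹ * x⁻¹ = b * (b' * x * b'⁻¹ * x⁻¹) * b⁻¹ * (b * x * b⁻¹ * x⁻¹) by group]
            exact mul_mem (hn'.right b hb.1 _ hb'.2) hb.2⟩
          inv_mem' := fun {b} hb => ⟨inv_mem hb.1, by
            rw [show b⁻¹ * x * b⁻¹⁻¹ * x⁻¹ = b⁻¹ * (b * x * b⁻¹ * x⁻¹)⁻¹ * b⁻¹⁻¹ by group]
            exact hn'.right _ (inv_mem hb.1) _ (inv_mem hb.2)⟩ }
      have hjF : g ^ j ∈ F := ⟨pow_mem (Subgroup.mem_zpowers g) j, hh⟩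
      have hlF : g ^ l ∈ F := ⟨pow_mem (Subgroup.mem_zpowers g) l, hgl' x (h.heis.movedPart_le hn' hx)⟩
      have hgF : g ∈ F := by
        have hc : j.Coprime l := ((hl.coprime_iff_not_dvd).2 fun hd => absurd (Nat.le_of_dvd hj0 hd) (not_le.2 hjl)).symm
        have e : g = (g ^ j) ^ (Nat.gcdA j l) * (g ^ l) ^ (Nat.gcdB j l) := by
          rw [← zpow_natCast g j, ← zpow_natCast g l, ← zpow_mul, ← zpow_mul, ← zpow_add, ← Nat.gcd_eq_gcd_ab,
            hc.gcd_eq_one, Nat.cast_one, zpow_one]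
        rw [e]
        exact mul_mem (zpow_mem hjF _) (zpow_mem hlF _)
      exact ((Subgroup.zpowers_le.2 hgF) ha).2
    have hs1 : ∀ a ∈ Subgroup.zpowers s, ∀ b ∈ Subgroup.zpowers g, a * b = b * a := fun a ha b hb => by
      obtain ⟨i, rfl⟩ := ha
      obtain ⟨k, rfl⟩ := hb
      exact ((show Commute s g from hsk _).zpow_zpow i k).eq
    have hne1 : ∃ x ∈ E1, x ∉ R := by
      by_contra hcon
      push Not at hcon
      refine hgnot fun x hx => ?_
      have h1 : E1 ⊔ fixedPart h.heis.le h.heis.abel hn' ≤ fixedPart h.heis.le h.heis.abel hn' :=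
        sup_le (fun z hz => h.heis.le_fixedPart hn' (hcon z hz)) le_rfl
      exact (h1 ((h.heis.moved_sup_fixed hcA hn').ge hx)).2 g (Subgroup.mem_zpowers g)
    have hA1 : Act ρ E1 R s r := ⟨h.heis.heis_moved hcA hn', h.prime, h.cast, h.pow,
      ⟨fun a ha x hx => h.heis.moved_conj hn' (h.norm.left a ha) (h.norm.right a ha) (hs1 a ha) hx, h.norm.right⟩,
      fun x hx => h.free x (h.heis.movedPart_le hn' hx),
      h.coprime.coprime_dvd_right (Subgroup.card_dvd_of_le (h.heis.movedPart_le hn')), hne1⟩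
    have hgA : ∀ a ∈ Subgroup.zpowers g, ∀ b ∈ Subgroup.zpowers g, a * b = b * a := fun a ha b hb => by
      obtain ⟨i, rfl⟩ := ha
      obtain ⟨k, rfl⟩ := hb
      exact ((Commute.refl g).zpow_zpow i k).eq
    have hle2 := hA1.free_le_two (y := g) (l := l) (e := 1)
      ⟨fun a ha x hx => h.heis.moved_conj hn' (hn'.left a ha) (hn'.right a ha) (hgA a ha) hx, hn'.right⟩ (hsk _) hl hlr
      (fun x hx => Fixes.commute h.heis (by rwa [pow_one]) (hcg.coprime_dvd_left (orderOf_pow_dvd _))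
        (h.heis.movedPart_le hn' hx))
      (by simpa [pow_one] using hfree1) (hfixk _)
    have hl2 : l = 2 := le_antisymm (by simpa using hle2) hl.two_le
    subst hl2
    refine ⟨?_, rfl⟩
    have hev : Even (orderOf y) := even_iff_two_dvd.2 (hlm.trans hmo)
    have hodd : Odd (Nat.card E) := Nat.Coprime.odd_of_left (hcop.coprime_dvd_left (even_iff_two_dvd.1 hev))
    refine not_mixed h hodd hn' (hsk _) hcg hgl' (fun e => hlr e.symm) (hfixk _) ?_
    by_contra hcon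
    push Not at hcon
    exact hgnot hcon
  by_cases hm1 : m = 1
  · left; rw [← pow_one y, ← hm1]; exact hmfix
  right
  have hpow : ∃ k, m = 2 ^ k := by
    refine ⟨m.primeFactorsList.length, Nat.eq_prime_pow_of_unique_prime_dvd hm0.ne' fun {d} hd hdm => ?_⟩
    exact (main d hd hdm).2
  obtain ⟨k, hk⟩ := hpow
  have h2m : 2 ∣ m := by
    rcases k with _ | k
    · exact absurd (by simpa using hk) hm1
    · exact hk ▸ dvd_pow_self 2 (by omega)
  have hfree := (main 2 Nat.prime_two h2m).1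
  have hev : Even (orderOf y) := even_iff_two_dvd.2 (h2m.trans hmo)
  refine ⟨hev, ?_⟩
  by_cases hk1 : k = 1
  · subst hk1
    rw [show y ^ (m / 2) = y by rw [hk]; simp] at hfree
    intro x hx
    have hyx : y * x * y⁻¹ ∈ E := (hn.zpowers_left x hx).1
    refine hfree _ (mul_mem hyx hx) ?_
    have h1 : y ^ 2 * x * (y ^ 2)⁻¹ * x⁻¹ ∈ R := by rw [show (2 : ℕ) = m by simpa using hk.symm]; exact hmfix x hx
    rw [show y * (y * x * y⁻¹ * x) * y⁻¹ * (y * x * y⁻¹ * x)⁻¹ =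
      (y ^ 2 * x * (y ^ 2)⁻¹ * x⁻¹) * ⁅x, y * x * y⁻¹⁆ by rw [commutatorElement_def, pow_two]; group]
    exact mul_mem h1 (h.heis.abel _ hx _ hyx)
  · exfalso
    have hk2 : 2 ≤ k := by
      rcases k with _ | _ | k
      · simp at hk; exact absurd hk hm1
      · exact absurd rfl hk1
      · omega
    have h4m : 2 ^ 2 ∣ m := hk ▸ pow_dvd_pow 2 hk2
    obtain ⟨q, hq⟩ := h4m
    set g := y ^ q with hg
    have hg4 : g ^ (2 ^ 2) = y ^ m := by rw [hg, ← pow_mul, hq, mul_comm]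
    have hg2 : g ^ 2 = y ^ (m / 2) := by
      rw [hg, ← pow_mul, hq]; congr 1; omega
    have hle := h.free_le_two (y := g) (l := 2) (e := 2)
      (hn.mono (Subgroup.zpowers_le.2 (pow_mem (Subgroup.mem_zpowers y) _))) (hsk _) Nat.prime_two
      (fun e => absurd (Nat.Coprime.coprime_dvd_left (even_iff_two_dvd.1 hev) hyr) (by rw [← e]; decide))
      (fun x hx => Fixes.commute h.heis (by rw [hg4]; exact hmfix)
        ((hcop.coprime_dvd_left (orderOf_pow_dvd _)).coprime_dvd_left (orderOf_pow_dvd _)) hx)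
      (fun x hx j hj0 hj4 hh => ?_) (hfixk _)
    · norm_num at hle
    have hgR : ∀ j : ℕ, ∀ z ∈ R, g ^ j * z * (g ^ j)⁻¹ ∈ R := fun j z hz =>
      hn.right _ (pow_mem (pow_mem (Subgroup.mem_zpowers y) _) j) z hz
    refine hfree x hx ?_
    rw [← hg2]
    have h4 : g ^ (2 ^ 2) * x * (g ^ (2 ^ 2))⁻¹ * x⁻¹ ∈ R := by rw [hg4]; exact hmfix x hx
    have hcases : j = 1 ∨ j = 2 ∨ j = 3 := by norm_num at hj4; omega
    rcases hcases with rfl | rfl | rfl
    · rw [pow_one] at hh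
      rw [pow_two, show g * g * x * (g * g)⁻¹ * x⁻¹ = g * (g * x * g⁻¹ * x⁻¹) * g⁻¹ * (g * x * g⁻¹ * x⁻¹) by group]
      exact mul_mem (by simpa using hgR 1 _ hh) hh
    · exact hh
    · have h6 : g ^ 6 * x * (g ^ 6)⁻¹ * x⁻¹ ∈ R := by
        rw [show g ^ 6 * x * (g ^ 6)⁻¹ * x⁻¹ = g ^ 3 * (g ^ 3 * x * (g ^ 3)⁻¹ * x⁻¹) * (g ^ 3)⁻¹ *
          (g ^ 3 * x * (g ^ 3)⁻¹ * x⁻¹) by rw [show (6 : ℕ) = 3 + 3 from rfl, pow_add]; group]
        exact mul_mem (hgR 3 _ hh) hh
      -- six is two more than four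
      rw [show g ^ 2 * x * (g ^ 2)⁻¹ * x⁻¹ = g ^ 2 * (g ^ (2 ^ 2) * x * (g ^ (2 ^ 2))⁻¹ * x⁻¹)⁻¹ * (g ^ 2)⁻¹ *
        (g ^ 6 * x * (g ^ 6)⁻¹ * x⁻¹) by
          rw [show (6 : ℕ) = 2 + 2 ^ 2 from rfl, pow_add]; group]
      exact mul_mem (hgR 2 _ (inv_mem h4)) h6

end Cfsg.Lib.FitHeight
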