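import Mathlib

/-!
# Commutants of operators of finite order
-/

set_option autoImplicit false

namespace Cfsg.Lib.FitHeight

open Module Polynomial

variable {K : Type*} [Field K] {U : Type*} [AddCommGroup U] [Module K U] [FiniteDimensional K U]

/-- The operators commuting with `g`. -/
def commutant (g : End K U) : Submodule K (End K U) where
  carrier := {X | g * X = X * g}
  add_mem' := fun {a b} ha hb => by
    simp only [Set.mem_setOf_eq] at *
    rw [mul_add, add_mul, ha, hb]
  zero_mem' := by simp
  smul_mem' := fun c x hx => by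
    simp only [Set.mem_setOf_eq] at *
    rw [mul_smul_comm, hx, smul_mul_assoc]

theorem mem_commutant {g X : End K U} : X ∈ commutant g ↔ g * X = X * g := Iff.rfl

variable [IsAlgClosed K] {N : ℕ} {f : End K U}

theorem isSemisimple_of_pow (hN : (N : K) ≠ 0) (hf : f ^ N = 1) : f.IsSemisimple := by
  refine End.isSemisimple_of_squarefree_aeval_eq_zero (p := X ^ N - 1) ?_ (by simp [hf])
  exact (X_pow_sub_one_separable_iff.2 hN).squarefree

variable [DecidableEq K]

theorem eigenspace_eq_bot_of_not_mem (hN : 0 < N) (hf : f ^ N = 1) {a : K}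
    (ha : a ∉ nthRootsFinset N (1 : K)) : f.eigenspace a = ⊥ := by
  refine (Submodule.eq_bot_iff _).2 fun v hv => ?_
  by_contra hv0
  rw [End.mem_eigenspace_iff] at hv
  have h : ∀ k : ℕ, (f ^ k) v = a ^ k • v := by
    intro k
    induction k with
    | zero => simp
    | succ k ih => rw [pow_succ', End.mul_apply, ih, map_smul, hv, smul_smul, ← pow_succ]
  have h1 := h N
  rw [hf, End.one_apply] at h1
  exact ha ((mem_nthRootsFinset hN (1 : K)).2 (smul_left_injective K hv0 (by simpa using h1.symm)))

theorem eigen_isInternal (hN : (N : K) ≠ 0) (hf : f ^ N = 1) :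
    DirectSum.IsInternal fun a : nthRootsFinset N (1 : K) => f.eigenspace (a : K) := by
  have hpos : 0 < N := Nat.pos_of_ne_zero fun e => hN (by simp [e])
  refine (DirectSum.isInternal_submodule_iff_iSupIndep_and_iSup_eq_top _).2
    ⟨(End.eigenspaces_iSupIndep f).comp Subtype.coe_injective, ?_⟩
  rw [eq_top_iff, ← (isSemisimple_of_pow hN hf).iSup_eigenspace_eq_top]
  refine iSup_le fun a => ?_
  by_cases ha : a ∈ nthRootsFinset N (1 : K)
  · exact le_iSup (fun b : nthRootsFinset N (1 : K) => f.eigenspace (b : K)) ⟨a, ha⟩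
  · rw [eigenspace_eq_bot_of_not_mem hpos hf ha]; exact bot_le

/-- The decomposition into eigenspaces. -/
noncomputable def decomp (hN : (N : K) ≠ 0) (hf : f ^ N = 1) :
    (DirectSum (nthRootsFinset N (1 : K)) fun a => f.eigenspace (a : K)) ≃ₗ[K] U :=
  LinearEquiv.ofBijective (DirectSum.coeLinearMap fun a : nthRootsFinset N (1 : K) => f.eigenspace (a : K))
    (eigen_isInternal hN hf)

theorem decomp_of (hN : (N : K) ≠ 0) (hf : f ^ N = 1) (a : nthRootsFinset N (1 : K))
    (x : f.eigenspace (a : K)) :
    decomp hN hf (DirectSum.of (fun b : nthRootsFinset N (1 : K) => f.eigenspace (b : K)) a x) = (x : U) := by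
  show DirectSum.coeLinearMap (fun b : nthRootsFinset N (1 : K) => f.eigenspace (b : K))
    (DirectSum.of (fun b : nthRootsFinset N (1 : K) => f.eigenspace (b : K)) a x) = _
  exact DirectSum.coeLinearMap_of (fun b : nthRootsFinset N (1 : K) => f.eigenspace (b : K)) a x

theorem sum_finrank_eigenspace (hN : (N : K) ≠ 0) (hf : f ^ N = 1) :
    ∑ a ∈ nthRootsFinset N (1 : K), finrank K (f.eigenspace a) = finrank K U := by
  rw [← Finset.sum_coe_sort]
  rw [← (decomp hN hf).finrank_eq]
  exact (Module.finrank_directSum K _).symm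

/-- The operators made up of operators of the eigenspaces. -/
noncomputable def glue (hN : (N : K) ≠ 0) (hf : f ^ N = 1) :
    (∀ a : nthRootsFinset N (1 : K), End K (f.eigenspace (a : K))) →ₗ[K] End K U where
  toFun g := (DirectSum.toModule K _ U fun a : nthRootsFinset N (1 : K) =>
      (f.eigenspace (a : K)).subtype ∘ₗ g a) ∘ₗ
    (decomp hN hf).symm.toLinearMap
  map_add' g g' := by
    refine LinearMap.ext fun v => ?_
    obtain ⟨w, rfl⟩ := (decomp hN hf).surjective v
    induction w using DirectSum.induction_on with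
    | zero => simp
    | of a x => simp [← DirectSum.lof_eq_of K]
    | add x y hx hy => simp only [map_add, hx, hy]
  map_smul' c g := by
    refine LinearMap.ext fun v => ?_
    obtain ⟨w, rfl⟩ := (decomp hN hf).surjective v
    induction w using DirectSum.induction_on with
    | zero => simp
    | of a x => simp [← DirectSum.lof_eq_of K]
    | add x y hx hy => simp only [map_add, hx, hy]

theorem glue_apply (hN : (N : K) ≠ 0) (hf : f ^ N = 1)
    (g : ∀ a : nthRootsFinset N (1 : K), End K (f.eigenspace (a : K))) (a : nthRootsFinset N (1 : K))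
    (x : f.eigenspace (a : K)) : glue hN hf g (x : U) = (g a x : U) := by
  show (DirectSum.toModule K _ U _) ((decomp hN hf).symm (x : U)) = _
  rw [← decomp_of hN hf a x, LinearEquiv.symm_apply_apply, ← DirectSum.lof_eq_of K, DirectSum.toModule_lof]
  rfl

theorem ext_eigen (hN : (N : K) ≠ 0) (hf : f ^ N = 1) {A B : End K U}
    (h : ∀ a ∈ nthRootsFinset N (1 : K), ∀ x ∈ f.eigenspace a, A x = B x) : A = B := by
  refine LinearMap.ext fun v => ?_
  obtain ⟨w, rfl⟩ := (decomp hN hf).surjective v
  induction w using DirectSum.induction_on with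
  | zero => simp
  | of a x =>
    rw [decomp_of hN hf a x]
    exact h a a.2 x x.2
  | add x y hx hy => simp only [map_add, hx, hy]

theorem glue_injective (hN : (N : K) ≠ 0) (hf : f ^ N = 1) : Function.Injective (glue hN hf) :=
  fun g g' e => funext fun a => LinearMap.ext fun x => Subtype.ext (by
    rw [← glue_apply hN hf g, ← glue_apply hN hf g', e])

theorem glue_mem (hN : (N : K) ≠ 0) (hf : f ^ N = 1)
    (g : ∀ a : nthRootsFinset N (1 : K), End K (f.eigenspace (a : K))) : glue hN hf g ∈ commutant f := by
  refine ext_eigen hN hf fun a ha x hx => ?_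
  rw [End.mul_apply, End.mul_apply, End.mem_eigenspace_iff.1 hx, map_smul,
    glue_apply hN hf g ⟨a, ha⟩ ⟨x, hx⟩, End.mem_eigenspace_iff.1 (g ⟨a, ha⟩ ⟨x, hx⟩).2]

theorem finrank_commutant (hN : (N : K) ≠ 0) (hf : f ^ N = 1) :
    finrank K (commutant f) = ∑ a ∈ nthRootsFinset N (1 : K), finrank K (f.eigenspace a) ^ 2 := by
  have hr : LinearMap.range (glue hN hf) = commutant f := by
    refine le_antisymm (LinearMap.range_le_iff_comap.2 (eq_top_iff.2 fun g _ => glue_mem hN hf g)) fun X hX => ?_
    have hinv : ∀ a : K, ∀ x ∈ f.eigenspace a, X x ∈ f.eigenspace a := fun a x hx => by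
      rw [End.mem_eigenspace_iff] at hx ⊢
      rw [← End.mul_apply, mem_commutant.1 hX, End.mul_apply, hx, map_smul]
    refine ⟨fun a => X.restrict (hinv a), ext_eigen hN hf fun a ha x hx => ?_⟩
    rw [glue_apply hN hf _ ⟨a, ha⟩ ⟨x, hx⟩]
    rfl
  rw [← hr, LinearMap.finrank_range_of_inj (glue_injective hN hf), Module.finrank_pi_fintype,
    ← Finset.sum_coe_sort (nthRootsFinset N (1 : K))]
  refine Finset.sum_congr rfl fun a _ => ?_
  rw [Module.finrank_linearMap, sq]

omit [IsAlgClosed K] [DecidableEq K] in
theorem finrank_le_mul_ker {g : End K U} : ∀ k : ℕ, finrank K (LinearMap.ker (g ^ k)) ≤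
    k * finrank K (LinearMap.ker g) := by
  intro k
  induction k with
  | zero => rw [pow_zero, Nat.zero_mul, nonpos_iff_eq_zero, Submodule.finrank_eq_zero]; exact LinearMap.ker_id
  | succ k ih =>
    have h : finrank K (LinearMap.ker (g ^ (k + 1))) ≤ finrank K (LinearMap.ker (g ^ k)) + finrank K (LinearMap.ker g) := by
      let h : LinearMap.ker (g ^ (k + 1)) →ₗ[K] LinearMap.ker g :=
        LinearMap.codRestrict _ ((g ^ k).comp (Submodule.subtype _)) fun x => by
          have hk : ∀ v : U, g ((g ^ k) v) = (g ^ (k + 1)) v := fun v => by rw [pow_succ']; rfl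
          exact LinearMap.mem_ker.2 ((hk x).trans (LinearMap.mem_ker.1 x.2))
      have h1 := LinearMap.finrank_range_add_finrank_ker h
      have h2 : finrank K (LinearMap.ker h) ≤ finrank K (LinearMap.ker (g ^ k)) := by
        let e : LinearMap.ker h →ₗ[K] LinearMap.ker (g ^ k) :=
          LinearMap.codRestrict _ ((Submodule.subtype _).comp (Submodule.subtype _)) fun x => by
            exact LinearMap.mem_ker.2 (congrArg Subtype.val (LinearMap.mem_ker.1 x.2))
        exact LinearMap.finrank_le_finrank_of_injective (f := e) fun x y e' =>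
          Subtype.ext (Subtype.ext (by simpa [e] using congrArg Subtype.val e'))
      have h3 := Submodule.finrank_le (LinearMap.range h)
      omega
    rw [Nat.succ_mul]
    omega

/-- An operator of prime power order `u` commutes with at least a `u`-th part of the algebra. -/
theorem sq_le_mul_finrank_commutant {l e : ℕ} (hl : l.Prime) (t : End K U) (ht : t ^ l ^ e = 1) :
    finrank K U ^ 2 ≤ l ^ e * finrank K (commutant t) := by
  by_cases hK : (l : K) = 0
  · haveI : CharP K l := (CharP.ringChar_of_prime_eq_zero hl hK) ▸ ringChar.charP K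
    let A : End K (End K U) := LinearMap.mulLeft K t - LinearMap.mulRight K t
    have hker : LinearMap.ker A = commutant t := by
      ext X
      simp [A, mem_commutant, sub_eq_zero]
    have hA : A ^ l ^ e = 0 := by
      rcases subsingleton_or_nontrivial (End K (End K U)) with hs | hs
      · exact Subsingleton.elim _ _
      haveI : CharP (End K (End K U)) l :=
        charP_of_injective_algebraMap (algebraMap K (End K (End K U))).injective l
      haveI : ExpChar (End K (End K U)) l := ExpChar.prime hl
      rw [sub_pow_expChar_pow_of_commute l e (LinearMap.commute_mulLeft_right t t), LinearMap.pow_mulLeft,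
        LinearMap.pow_mulRight, ht]
      ext X
      simp
    have h1 := finrank_le_mul_ker (g := A) (l ^ e)
    rw [hA, hker, LinearMap.ker_zero, finrank_top, Module.finrank_linearMap, ← sq] at h1
    exact h1
  · have hN : ((l ^ e : ℕ) : K) ≠ 0 := by rw [Nat.cast_pow]; exact pow_ne_zero _ hK
    rw [finrank_commutant hN ht, ← sum_finrank_eigenspace hN ht]
    refine sq_sum_le_card_mul_sum_sq.trans (Nat.mul_le_mul_right _ ?_)
    rw [nthRootsFinset_def]
    exact (Multiset.toFinset_card_le _).trans (Polynomial.card_nthRoots _ _)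

end Cfsg.Lib.FitHeight
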