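import Cfsg.Agent.Lib.FitHeight.Heis

/-!
# The parts moved and fixed by coprime operators
-/

set_option autoImplicit false

namespace Cfsg.Lib.FitHeight

open Module
open scoped commutatorElement

variable {Γ : Type*} [Group Γ] {K : Type*} [Field K] {W : Type*} [AddCommGroup W] [Module K W]
  {ρ : Γ →* End K W} {E R A : Subgroup Γ}

/-- `A` normalises `E` and `R`. -/
structure Norm (A E R : Subgroup Γ) : Prop where
  left : ∀ a ∈ A, ∀ x ∈ E, a * x * a⁻¹ ∈ E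
  right : ∀ a ∈ A, ∀ x ∈ R, a * x * a⁻¹ ∈ R

theorem Norm.mono {A' : Subgroup Γ} (h : Norm A E R) (hA : A' ≤ A) : Norm A' E R :=
  ⟨fun a ha => h.left a (hA ha), fun a ha => h.right a (hA ha)⟩

/-- The elements fixed by `A` modulo `R`. -/
def fixedPart (hR : R ≤ E) (hab : ∀ x ∈ E, ∀ y ∈ E, ⁅x, y⁆ ∈ R) (hn : Norm A E R) : Subgroup Γ where
  carrier := {x | x ∈ E ∧ ∀ a ∈ A, a * x * a⁻¹ * x⁻¹ ∈ R}
  one_mem' := ⟨one_mem E, fun a _ => by simp⟩
  mul_mem' := fun {x y} hx hy => ⟨mul_mem hx.1 hy.1, fun a ha => by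
    have h1 : a * y * a⁻¹ * y⁻¹ ∈ R := hy.2 a ha
    have hx' : a * x * a⁻¹ ∈ E := hn.left a ha x hx.1
    rw [show a * (x * y) * a⁻¹ * (x * y)⁻¹ =
      ⁅a * x * a⁻¹, a * y * a⁻¹ * y⁻¹⁆ * (a * y * a⁻¹ * y⁻¹) * (a * x * a⁻¹ * x⁻¹) by
        rw [commutatorElement_def]; group]
    exact mul_mem (mul_mem (hab _ hx' _ (hR h1)) h1) (hx.2 a ha)⟩
  inv_mem' := fun {x} hx => ⟨inv_mem hx.1, fun a ha => by
    have h1 : x * (a * x * a⁻¹)⁻¹ ∈ R := by
      rw [show x * (a * x * a⁻¹)⁻¹ = (a * x * a⁻¹ * x⁻¹)⁻¹ by group]; exact inv_mem (hx.2 a ha)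
    rw [show a * x⁻¹ * a⁻¹ * x⁻¹⁻¹ = ⁅x⁻¹, x * (a * x * a⁻¹)⁻¹⁆ * (x * (a * x * a⁻¹)⁻¹) by
      rw [commutatorElement_def]; group]
    exact mul_mem (hab _ (inv_mem hx.1) _ (hR h1)) h1⟩

section Quot

variable (h : Heis ρ E R)
include h

theorem Heis.normal : (R.subgroupOf E).Normal := ⟨fun z hz x => by
  rw [Subgroup.mem_subgroupOf] at hz ⊢
  have e : ((x * z * x⁻¹ : E) : Γ) = ⁅(x : Γ), (z : Γ)⁆ * (z : Γ) := by
    simp [commutatorElement_def, mul_assoc]
  rw [e]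
  exact mul_mem (h.abel _ x.2 _ z.2) hz⟩

variable [Nontrivial W]

theorem Heis.scalar_unique {c d : K} {x : Γ} (e : c • ρ x = d • ρ x) : c = d := by
  obtain ⟨v, hv⟩ := exists_ne (0 : W)
  exact smul_left_injective K (rho_apply_ne ρ x hv) (by
    simpa using LinearMap.congr_fun e v)

/-- The pairing with `c`. -/
noncomputable def Heis.pairing {c : Γ} (hc : c ∈ E) : E →* K where
  toFun x := (h.comm x.2 hc).choose
  map_one' := by
    refine h.scalar_unique (x := c) ?_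
    have e := (h.comm (x := ((1 : E) : Γ)) (1 : E).2 hc).choose_spec
    generalize (h.comm (x := ((1 : E) : Γ)) (1 : E).2 hc).choose = d at e ⊢
    rw [Subgroup.coe_one, map_one, mul_one, one_mul] at e
    rw [← e, one_smul]
  map_mul' x y := by
    have e := (h.comm (x := ((x * y : E) : Γ)) (x * y).2 hc).choose_spec
    have ex := (h.comm x.2 hc).choose_spec
    have ey := (h.comm y.2 hc).choose_spec
    refine h.scalar_unique (x := (x : Γ) * y * c) ?_
    generalize (h.comm (x := ((x * y : E) : Γ)) (x * y).2 hc).choose = d at e ⊢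
    generalize (h.comm x.2 hc).choose = dx at ex ⊢
    generalize (h.comm y.2 hc).choose = dy at ey ⊢
    simp only [Subgroup.coe_mul, map_mul] at e ⊢
    rw [← e, ← mul_assoc (ρ c), ex, smul_mul_assoc, mul_assoc (ρ (x : Γ)) (ρ c), ey, mul_smul_comm, smul_smul,
      mul_assoc]

theorem Heis.pairing_spec {c : Γ} (hc : c ∈ E) (x : E) :
    ρ c * ρ (x : Γ) = h.pairing hc x • (ρ (x : Γ) * ρ c) := (h.comm x.2 hc).choose_spec

theorem Heis.pairing_eq {c : Γ} (hc : c ∈ E) (x : E) {d : K} (e : ρ c * ρ (x : Γ) = d • (ρ (x : Γ) * ρ c)) :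
    h.pairing hc x = d := by
  refine h.scalar_unique (x := (x : Γ) * c) ?_
  rw [map_mul, ← e, h.pairing_spec hc x]

theorem Heis.pairing_rad {c : Γ} (hc : c ∈ E) {x : E} (hx : (x : Γ) ∈ R) : h.pairing hc x = 1 := by
  obtain ⟨d, hd⟩ := h.scalar _ hx
  refine h.pairing_eq hc x ?_
  rw [hd, one_smul, mul_smul_comm, mul_one, smul_mul_assoc, one_mul]

theorem Heis.pairing_pow_card [Finite Γ] {c : Γ} (hc : c ∈ E) (x : E) : h.pairing hc x ^ Nat.card E = 1 := by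
  rw [← map_pow, pow_card_eq_one', map_one]

theorem Heis.pairing_conj (hn : Norm A E R) {a c : Γ} (ha : a ∈ A) (hc : c ∈ E)
    (hfix : a * c * a⁻¹ * c⁻¹ ∈ R) (x : E) :
    h.pairing hc ⟨a * x * a⁻¹, hn.left a ha x x.2⟩ = h.pairing hc x := by
  refine h.pairing_eq hc _ ?_
  obtain ⟨d, hd⟩ := h.scalar _ hfix
  have h1 := congrArg (fun X => ρ a * X * ρ a⁻¹) (h.pairing_spec hc x)
  simp only [mul_smul_comm, smul_mul_assoc, ← map_mul] at h1
  rw [show a * (c * (x : Γ)) * a⁻¹ = a * c * a⁻¹ * c⁻¹ * (c * (a * x * a⁻¹)) by group,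
    show a * ((x : Γ) * c) * a⁻¹ = a * x * a⁻¹ * (a * c * a⁻¹ * c⁻¹ * c) by group] at h1
  simp only [map_mul ρ (a * c * a⁻¹ * c⁻¹), map_mul ρ (a * (x : Γ) * a⁻¹), hd, smul_mul_assoc, one_mul,
    mul_smul_comm, smul_smul] at h1
  rw [map_mul ρ c] at h1
  have hd0 : d ≠ 0 := fun e => by
    obtain ⟨v, hv⟩ := exists_ne (0 : W)
    rw [e, zero_smul] at hd
    exact rho_apply_ne ρ _ hv (by rw [hd]; rfl)
  rw [mul_comm (h.pairing hc x), ← smul_smul] at h1
  exact smul_right_injective (End K W) hd0 h1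

variable [Finite Γ]

/-- The product over `A` modulo `R`. -/
theorem Heis.exists_norm (hn : Norm A E R) :
    ∃ P : E → E, (∀ x y, (((P (x * y))⁻¹ * (P x * P y) : E) : Γ) ∈ R) ∧
      (∀ x : E, ∀ a ∈ A, a * (P x : Γ) * a⁻¹ * (P x : Γ)⁻¹ ∈ R) ∧
      (∀ x : E, (∀ a ∈ A, a * (x : Γ) * a⁻¹ * (x : Γ)⁻¹ ∈ R) → (((P x)⁻¹ * x ^ Nat.card A : E) : Γ) ∈ R) ∧
      (∀ (a : Γ) (ha : a ∈ A) (x : E), (((P ⟨a * x * a⁻¹, hn.left a ha x x.2⟩)⁻¹ * P x : E) : Γ) ∈ R) ∧
      (∀ (f : E →* K), (∀ x : E, (x : Γ) ∈ R → f x = 1) →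
        (∀ (a : Γ) (ha : a ∈ A) (x : E), f ⟨a * x * a⁻¹, hn.left a ha x x.2⟩ = f x) →
        ∀ x, f (P x) = f x ^ Nat.card A) ∧
      ∀ (g : Γ) (hg : ∀ x ∈ E, g * x * g⁻¹ ∈ E), (∀ x ∈ R, g * x * g⁻¹ ∈ R) → (∀ a ∈ A, g * a = a * g) →
        ∀ x : E, (((P ⟨g * x * g⁻¹, hg x x.2⟩)⁻¹ * ⟨g * P x * g⁻¹, hg _ (P x).2⟩ : E) : Γ) ∈ R := by
  classical
  letI := Fintype.ofFinite A
  haveI := h.normal
  letI : CommGroup (E ⧸ R.subgroupOf E) :=
    { (inferInstance : Group (E ⧸ R.subgroupOf E)) with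
      mul_comm := fun a b => by
        induction a using QuotientGroup.induction_on
        induction b using QuotientGroup.induction_on
        rename_i a b
        rw [← QuotientGroup.mk_mul, ← QuotientGroup.mk_mul, QuotientGroup.eq, Subgroup.mem_subgroupOf]
        have e : (((a * b)⁻¹ * (b * a) : E) : Γ) = ⁅(b : Γ)⁻¹, (a : Γ)⁻¹⁆ := by
          simp [commutatorElement_def, mul_assoc]
        rw [e]
        exact h.abel _ (inv_mem b.2) _ (inv_mem a.2) }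
  let q : E →* E ⧸ R.subgroupOf E := QuotientGroup.mk' _
  have heq : ∀ {x y : E}, q x = q y → ((x⁻¹ * y : E) : Γ) ∈ R := fun e =>
    Subgroup.mem_subgroupOf.1 (QuotientGroup.eq.1 e)
  have heq' : ∀ {x y : E}, ((x⁻¹ * y : E) : Γ) ∈ R → q x = q y := fun e =>
    QuotientGroup.eq.2 (Subgroup.mem_subgroupOf.2 e)
  let cj : A → E → E := fun a x => ⟨a * x * (a : Γ)⁻¹, hn.left a a.2 x x.2⟩
  let P : E → E := fun x => (∏ a : A, q (cj a x)).out
  have hP : ∀ x, q (P x) = ∏ a : A, q (cj a x) := fun x => QuotientGroup.out_eq' _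
  have hPconj : ∀ (g : Γ) (hg : ∀ x ∈ E, g * x * g⁻¹ ∈ E), (∀ x ∈ R, g * x * g⁻¹ ∈ R) → ∀ x : E,
      q ⟨g * P x * g⁻¹, hg _ (P x).2⟩ = ∏ a : A, q ⟨g * cj a x * g⁻¹, hg _ (cj a x).2⟩ := by
    intro g hg hgR x
    let φ : E →* E :=
      { toFun := fun y => ⟨g * y * g⁻¹, hg y y.2⟩
        map_one' := Subtype.ext (by simp)
        map_mul' := fun y z => Subtype.ext (by simp [mul_assoc]) }
    let Φ : E ⧸ R.subgroupOf E →* E ⧸ R.subgroupOf E := QuotientGroup.lift _ (q.comp φ) (fun z hz =>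
      (QuotientGroup.eq_one_iff _).2 (Subgroup.mem_subgroupOf.2 (hgR _ (Subgroup.mem_subgroupOf.1 hz))))
    show Φ (q (P x)) = _
    rw [hP, map_prod]
    rfl
  refine ⟨P, fun x y => heq ?_, fun x a ha => ?_, fun x hx => heq ?_, fun a ha x => heq ?_, fun f hf1 hf2 x => ?_,
    fun g hg hgR hgA x => heq ?_⟩
  · rw [map_mul, hP, hP, hP, ← Finset.prod_mul_distrib]
    refine Finset.prod_congr rfl fun a _ => ?_
    rw [← map_mul]
    congr 1
    exact Subtype.ext (by simp [cj, mul_assoc])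
  · have e : q ⟨a * P x * a⁻¹, hn.left a ha _ (P x).2⟩ = q (P x) := by
      rw [hPconj a (fun y hy => hn.left a ha y hy) (hn.right a ha), hP]
      refine Fintype.prod_equiv (Equiv.mulLeft (⟨a, ha⟩ : A)) _ _ fun b => ?_
      congr 1
      exact Subtype.ext (by simp [cj, mul_assoc])
    have h1 := inv_mem (heq e)
    have h2 : a * (P x : Γ) * a⁻¹ * (P x : Γ)⁻¹ =
        (P x : Γ) * (((⟨a * P x * a⁻¹, hn.left a ha _ (P x).2⟩ : E)⁻¹ * P x : E) : Γ)⁻¹ * (P x : Γ)⁻¹ := by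
      simp [mul_assoc]
    rw [h2]
    have h3 := mul_mem (h.abel _ (P x).2 _ (h.le h1)) h1
    rwa [commutatorElement_def, inv_mul_cancel_right] at h3
  · have hone : ∀ a : A, q (cj a x) = q x := fun a => by
      refine (heq' ?_).symm
      have h1 := hx a a.2
      have e : ((x⁻¹ * cj a x : E) : Γ) =
          ⁅(x : Γ)⁻¹, (a : Γ) * x * (a : Γ)⁻¹ * (x : Γ)⁻¹⁆ * ((a : Γ) * x * (a : Γ)⁻¹ * (x : Γ)⁻¹) := by
        simp [cj, commutatorElement_def, mul_assoc]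
      rw [e]
      exact mul_mem (h.abel _ (inv_mem x.2) _ (h.le h1)) h1
    rw [hP, map_pow, Finset.prod_congr rfl fun a _ => hone a, Finset.prod_const, Finset.card_univ,
      Nat.card_eq_fintype_card]
  · rw [hP, hP]
    refine Fintype.prod_equiv (Equiv.mulRight (⟨a, ha⟩ : A)) _ _ fun b => ?_
    congr 1
    exact Subtype.ext (by simp [cj, mul_assoc])
  · let F : E ⧸ R.subgroupOf E →* K := QuotientGroup.lift _ f (fun z hz => hf1 z (Subgroup.mem_subgroupOf.1 hz))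
    have e : f (P x) = F (∏ a : A, q (cj a x)) := by rw [← hP]; rfl
    rw [e, map_prod, Finset.prod_congr rfl fun a _ => show F (q (cj a x)) = f x from hf2 a a.2 x,
      Finset.prod_const, Finset.card_univ, Nat.card_eq_fintype_card]
  · rw [hPconj g hg hgR, hP]
    refine Finset.prod_congr rfl fun a _ => ?_
    congr 1
    refine Subtype.ext ?_
    show (a : Γ) * (g * x * g⁻¹) * (a : Γ)⁻¹ = g * ((a : Γ) * x * (a : Γ)⁻¹) * g⁻¹
    calc (a : Γ) * (g * x * g⁻¹) * (a : Γ)⁻¹ = ((a : Γ) * g) * x * ((a : Γ) * g)⁻¹ := by group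
      _ = (g * (a : Γ)) * x * (g * (a : Γ))⁻¹ := by rw [hgA a a.2]
      _ = _ := by group

/-- The product over `A`. -/
noncomputable def Heis.normMap (hn : Norm A E R) : E → E := (h.exists_norm hn).choose

theorem Heis.normMap_rel {hn : Norm A E R} {x y : E} (hxy : ((x⁻¹ * y : E) : Γ) ∈ R) :
    (x : Γ) ∈ R → (y : Γ) ∈ R := fun hx => by
  simpa using mul_mem hx hxy

/-- The elements with trivial product over `A` modulo `R`. -/
noncomputable def Heis.movedPart (hn : Norm A E R) : Subgroup Γ where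
  carrier := {x | ∃ hx : x ∈ E, (h.normMap hn ⟨x, hx⟩ : Γ) ∈ R}
  one_mem' := ⟨one_mem E, by
    have h1 := (h.exists_norm hn).choose_spec.1 1 1
    rw [one_mul] at h1
    have h2 : ((h.normMap hn 1 : E) : Γ) ∈ R := by simpa [Heis.normMap] using h1
    exact h2⟩
  mul_mem' := fun {x y} hx hy => by
    obtain ⟨hx, hxR⟩ := hx
    obtain ⟨hy, hyR⟩ := hy
    refine ⟨mul_mem hx hy, ?_⟩
    have h1 := (h.exists_norm hn).choose_spec.1 ⟨x, hx⟩ ⟨y, hy⟩
    simp only [Subgroup.coe_mul, InvMemClass.coe_inv] at h1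
    have h5 := mul_mem h1 (inv_mem (mul_mem hxR hyR))
    rw [show (h.exists_norm hn).choose = h.normMap hn from rfl, mul_inv_cancel_right, inv_mem_iff] at h5
    exact h5
  inv_mem' := fun {x} hx => by
    obtain ⟨hx, hxR⟩ := hx
    refine ⟨inv_mem hx, ?_⟩
    have h1 := (h.exists_norm hn).choose_spec.1 ⟨x, hx⟩ ⟨x⁻¹, inv_mem hx⟩
    have h2 := (h.exists_norm hn).choose_spec.1 1 1
    rw [one_mul] at h2
    have h3 : ((h.normMap hn 1 : E) : Γ) ∈ R := by simpa [Heis.normMap] using h2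
    rw [show (⟨x, hx⟩ * ⟨x⁻¹, inv_mem hx⟩ : E) = 1 from Subtype.ext (by simp)] at h1
    simp only [Subgroup.coe_mul, InvMemClass.coe_inv] at h1
    have h4 := mul_mem (inv_mem hxR) (mul_mem h3 h1)
    simpa [Heis.normMap] using h4

theorem Heis.movedPart_le (hn : Norm A E R) : h.movedPart hn ≤ E := fun _ hx => hx.1

theorem Heis.le_movedPart (hn : Norm A E R) : R ≤ h.movedPart hn := fun x hx => ⟨h.le hx, by
  have hfix : ∀ a ∈ A, a * x * a⁻¹ * x⁻¹ ∈ R := fun a ha => mul_mem (hn.right a ha x hx) (inv_mem hx)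
  have h1 := (h.exists_norm hn).choose_spec.2.2.1 ⟨x, h.le hx⟩ hfix
  have h2 := mul_mem (pow_mem hx (Nat.card A)) (inv_mem h1)
  simpa [Heis.normMap] using h2⟩

theorem Heis.le_fixedPart (hn : Norm A E R) : R ≤ fixedPart h.le h.abel hn := fun x hx =>
  ⟨h.le hx, fun a ha => mul_mem (hn.right a ha x hx) (inv_mem hx)⟩

variable (hcop : (Nat.card A).Coprime (Nat.card E))
include hcop

theorem Heis.mem_of_pow {M : Subgroup Γ} {x : Γ} (hx : x ∈ E) (hp : x ^ Nat.card A ∈ M) : x ∈ M := by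
  obtain ⟨k, hk⟩ := exists_pow_eq_self_of_coprime
    (Nat.Coprime.coprime_dvd_right (Subgroup.orderOf_dvd_natCard E hx) hcop)
  rw [← hk]
  exact pow_mem hp k

/-- The two parts meet in `R`. -/
theorem Heis.moved_inf_fixed (hn : Norm A E R) {x : Γ} (hm : x ∈ h.movedPart hn)
    (hf : x ∈ fixedPart h.le h.abel hn) : x ∈ R := by
  obtain ⟨hx, hxR⟩ := hm
  refine h.mem_of_pow hcop hx ?_
  have h1 := (h.exists_norm hn).choose_spec.2.2.1 ⟨x, hx⟩ hf.2
  simpa [Heis.normMap] using mul_mem hxR h1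

/-- The two parts generate. -/
theorem Heis.moved_sup_fixed (hn : Norm A E R) : h.movedPart hn ⊔ fixedPart h.le h.abel hn = E := by
  refine le_antisymm (sup_le (h.movedPart_le hn) fun _ hx => hx.1) fun x hx => ?_
  refine h.mem_of_pow hcop hx ?_
  let P := h.normMap hn
  have hfix : (P ⟨x, hx⟩ : Γ) ∈ fixedPart h.le h.abel hn :=
    ⟨(P ⟨x, hx⟩).2, (h.exists_norm hn).choose_spec.2.1 ⟨x, hx⟩⟩
  have hm : x ^ Nat.card A * (P ⟨x, hx⟩ : Γ)⁻¹ ∈ h.movedPart hn := by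
    refine ⟨mul_mem (pow_mem hx _) (inv_mem (P ⟨x, hx⟩).2), ?_⟩
    haveI := h.normal
    let q : E →* E ⧸ R.subgroupOf E := QuotientGroup.mk' _
    have hq : ∀ a b, q (P (a * b)) = q (P a) * q (P b) := fun a b => by
      rw [← map_mul]
      exact QuotientGroup.eq.2 (Subgroup.mem_subgroupOf.2 ((h.exists_norm hn).choose_spec.1 a b))
    let F : E →* E ⧸ R.subgroupOf E := MonoidHom.mk' (fun a => q (P a)) hq
    have hfF : q (P (P ⟨x, hx⟩)) = q (P ⟨x, hx⟩) ^ Nat.card A := by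
      rw [← map_pow]
      exact QuotientGroup.eq.2 (Subgroup.mem_subgroupOf.2
        ((h.exists_norm hn).choose_spec.2.2.1 (P ⟨x, hx⟩) hfix.2))
    have h1 : F (⟨x, hx⟩ ^ Nat.card A * (P ⟨x, hx⟩)⁻¹) = 1 := by
      rw [map_mul, map_pow, map_inv]
      show q (P ⟨x, hx⟩) ^ Nat.card A * (q (P (P ⟨x, hx⟩)))⁻¹ = 1
      rw [hfF, mul_inv_cancel]
    exact Subgroup.mem_subgroupOf.1 ((QuotientGroup.eq_one_iff _).1 h1)
  have := mul_mem (Subgroup.mem_sup_left (T := fixedPart h.le h.abel hn) hm)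
    (Subgroup.mem_sup_right (S := h.movedPart hn) hfix)
  simpa using this

/-- The two parts commute in the representation. -/
theorem Heis.moved_comm_fixed (hn : Norm A E R) {x c : Γ} (hm : x ∈ h.movedPart hn)
    (hf : c ∈ fixedPart h.le h.abel hn) : ρ c * ρ x = ρ x * ρ c := by
  obtain ⟨hx, hxR⟩ := hm
  have hc : c ∈ E := hf.1
  have h1 := (h.exists_norm hn).choose_spec.2.2.2.2.1 (h.pairing hc) (fun z hz => h.pairing_rad hc hz)
    (fun a ha z => h.pairing_conj hn ha hc (hf.2 a ha) z) ⟨x, hx⟩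
  rw [show (h.exists_norm hn).choose = h.normMap hn from rfl, h.pairing_rad hc hxR] at h1
  have h2 := h.pairing_pow_card hc ⟨x, hx⟩
  have h3 : h.pairing hc ⟨x, hx⟩ = 1 := by
    have := pow_gcd_eq_one.2 ⟨(show h.pairing hc ⟨x, hx⟩ ^ Nat.card A = 1 from h1.symm), h2⟩
    rwa [hcop.gcd_eq_one, pow_one] at this
  have h4 := h.pairing_spec hc ⟨x, hx⟩
  rwa [h3, one_smul] at h4

theorem Heis.heis_moved (hn : Norm A E R) : Heis ρ (h.movedPart hn) R := by
  refine ⟨h.le_movedPart hn, fun x hx y hy => h.abel x (h.movedPart_le hn hx) y (h.movedPart_le hn hy), h.scalar,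
    fun x hx hxR => ?_⟩
  by_contra hcon
  push Not at hcon
  obtain ⟨y, hy, hne⟩ := h.pair x (h.movedPart_le hn hx) hxR
  let C : Subgroup Γ :=
    { carrier := {y | ρ y * ρ x = ρ x * ρ y}
      one_mem' := by simp
      mul_mem' := fun {a b} ha hb => by
        simp only [Set.mem_setOf_eq] at *
        rw [map_mul, mul_assoc, hb, ← mul_assoc, ha, mul_assoc]
      inv_mem' := fun {a} ha => by
        simp only [Set.mem_setOf_eq] at *
        calc ρ a⁻¹ * ρ x = ρ a⁻¹ * (ρ x * ρ a) * ρ a⁻¹ := by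
              rw [mul_assoc (ρ a⁻¹), mul_assoc (ρ x), rho_mul_inv, mul_one]
          _ = ρ x * ρ a⁻¹ := by rw [← ha, ← mul_assoc (ρ a⁻¹), rho_inv_mul, one_mul] }
  have hle : h.movedPart hn ⊔ fixedPart h.le h.abel hn ≤ C :=
    sup_le hcon fun c hc => h.moved_comm_fixed hcop hn hx hc
  exact hne (hle ((h.moved_sup_fixed hcop hn).ge hy))

theorem Heis.heis_fixed (hn : Norm A E R) : Heis ρ (fixedPart h.le h.abel hn) R := by
  refine ⟨h.le_fixedPart hn, fun x hx y hy => h.abel x hx.1 y hy.1, h.scalar, fun x hx hxR => ?_⟩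
  by_contra hcon
  push Not at hcon
  obtain ⟨y, hy, hne⟩ := h.pair x hx.1 hxR
  let C : Subgroup Γ :=
    { carrier := {y | ρ y * ρ x = ρ x * ρ y}
      one_mem' := by simp
      mul_mem' := fun {a b} ha hb => by
        simp only [Set.mem_setOf_eq] at *
        rw [map_mul, mul_assoc, hb, ← mul_assoc, ha, mul_assoc]
      inv_mem' := fun {a} ha => by
        simp only [Set.mem_setOf_eq] at *
        calc ρ a⁻¹ * ρ x = ρ a⁻¹ * (ρ x * ρ a) * ρ a⁻¹ := by
              rw [mul_assoc (ρ a⁻¹), mul_assoc (ρ x), rho_mul_inv, mul_one]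
          _ = ρ x * ρ a⁻¹ := by rw [← ha, ← mul_assoc (ρ a⁻¹), rho_inv_mul, one_mul] }
  have hle : h.movedPart hn ⊔ fixedPart h.le h.abel hn ≤ C :=
    sup_le (fun m hm => (h.moved_comm_fixed hcop hn hm hx).symm) hcon
  exact hne (hle ((h.moved_sup_fixed hcop hn).ge hy))

end Quot

end Cfsg.Lib.FitHeight
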