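import Cfsg.Agent.Lib.FitHeight.Image

/-!
# Propagation of fixed moved vectors along a tower
-/

set_option autoImplicit false

namespace Cfsg.Lib.FitHeight

open Subgroup Module
open Cfsg.Lib.FitTwo.Cfg (Phi Phi_le)
open scoped commutatorElement

variable {Γ : Type*} [Group Γ] [Finite Γ] {s : Γ} {X K : ℕ → Subgroup Γ} {F : ℕ → Type*} [∀ l, Field (F l)]
  {G : Subgroup Γ} {r m : ℕ} {p : ℕ → ℕ} {l : ℕ}

namespace Sys

variable (S : Sys s X K F G r m p)
include S

theorem cast_card {j : ℕ} (hl : l ≤ m) (hj : j ≤ m) (hne : p j ≠ p l) {A : Subgroup Γ} (hA : A ≤ X j) :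
    (Nat.card A : F l) ≠ 0 := by
  haveI := S.char l hl
  haveI := Fact.mk (S.T.prime j hj)
  obtain ⟨a, ha⟩ := IsPGroup.iff_card.1 ((S.T.isP j hj).to_le hA)
  intro e
  rw [CharP.cast_eq_zero_iff (F l) (p l), ha] at e
  exact hne.symm ((Nat.prime_dvd_prime_iff_eq (S.T.prime l hl) (S.T.prime j hj)).1 ((S.T.prime l hl).dvd_of_dvd_pow e))

theorem img_disp (hl : l < m) :
    img (layerProj (F (l + 1)) (X (l + 1)) (Zl X K (l + 1))) (disp s (X l)) =
      ⁅img (layerProj (F (l + 1)) (X (l + 1)) (Zl X K (l + 1))) (X l),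
        zpowers (layerProj (F (l + 1)) (X (l + 1)) (Zl X K (l + 1)) ⟨s, S.s_mem_layerN hl⟩)⁆ := by
  rw [img_commutator (S.le_layerN hl (by omega)) (zpowers_le.2 (S.s_mem_layerN hl)), img_zpowers (S.s_mem_layerN hl)]

/-- The fixed moved vectors in the induced representation. -/
theorem mem_fixNull_iff (hl : l < m) (v : funSpace (F (l + 1)) (X (l + 1)) (Zl X K (l + 1))) :
    v ∈ fixNull (layerRho (F (l + 1)) (X (l + 1)) (Zl X K (l + 1)))
        ⁅img (layerProj (F (l + 1)) (X (l + 1)) (Zl X K (l + 1))) (X l),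
          zpowers (layerProj (F (l + 1)) (X (l + 1)) (Zl X K (l + 1)) ⟨s, S.s_mem_layerN hl⟩)⁆
        (layerProj (F (l + 1)) (X (l + 1)) (Zl X K (l + 1)) ⟨s, S.s_mem_layerN hl⟩) ↔
      Esp s X K F l (v : Γ → F (l + 1)) := by
  have hA : disp s (X l) ≤ layerN (X (l + 1)) (Zl X K (l + 1)) :=
    (S.disp_le hl.le).trans (S.le_layerN hl (by omega))
  letI := Fintype.ofFinite (disp s (X l))
  letI := Fintype.ofFinite ((disp s (X l)).subgroupOf (layerN (X (l + 1)) (Zl X K (l + 1))))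
  rw [mem_fixNull, ← S.img_disp hl, ← sumOf_img_eq_zero _ _ hA (S.cast_card hl hl.le (S.T.ne l hl) (S.disp_le hl.le)),
    Subtype.ext_iff, Subtype.ext_iff, layerRho_coe]
  have e : ((sumOf ((layerRho (F (l + 1)) (X (l + 1)) (Zl X K (l + 1))).comp
        (layerProj (F (l + 1)) (X (l + 1)) (Zl X K (l + 1)))) ((disp s (X l)).subgroupOf _) v :
          funSpace (F (l + 1)) (X (l + 1)) (Zl X K (l + 1))) : Γ → F (l + 1)) =
      sumOf (funOp Γ (F (l + 1))) (disp s (X l)) (v : Γ → F (l + 1)) := by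
    rw [sumOf_apply, sumOf_apply, Submodule.coe_sum,
      ← sum_subgroupOf hA fun g => funOp Γ (F (l + 1)) g (v : Γ → F (l + 1))]
    exact Finset.sum_congr rfl fun x _ => layerRho_coe _ v
  rw [e]
  exact ⟨fun h => ⟨v.2, h⟩, fun h => h.2⟩

/-- A moved bottom level leaves fixed moved vectors above it. -/
theorem bottom [∀ l, IsAlgClosed (F l)] (hm : 2 ≤ m) (hmov : ∃ x ∈ X 0, s * x ≠ x * s) :
    ∃ f, Esp s X K F 1 f ∧ f ≠ 0 := by
  by_contra hcon
  push Not at hcon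
  have hm1 : 1 < m := by omega
  have hX0 := S.T.le_displacements S.rprime S.spow S.cop S.sol m.zero_le (fun j hj => absurd hj (by omega)) hmov
  haveI := S.char 1 hm1.le
  have L := S.lev (l := 0) hm
  have hnull := L.eq_bot_of_null (F 1) (by
    refine (Submodule.eq_bot_iff _).2 fun v hv => Subtype.ext (hcon _ ((S.mem_fixNull_iff hm1 v).1 hv)))
  refine S.T.proper 1 hm1.le ((S.T.gen 0 (by omega)).trans (commutator_le.2 fun a ha x hx => ?_))
  have hxR : x ∈ disp s (X 0) := hX0 hx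
  set π := layerProj (F 2) (X 2) (Zl X K 2)
  have ha' := S.le_layerN (F := F) hm (show 1 ≤ 2 by omega) ha
  have hx' := S.le_layerN (F := F) hm (show 0 ≤ 2 by omega) hx
  have h1 : π ⁅(⟨a, ha'⟩ : layerN (X 2) (Zl X K 2)), ⟨x, hx'⟩⁆ = 1 := by
    rw [map_commutatorElement, ← mem_bot, ← hnull]
    exact commutator_mem_commutator (img_mem ha ha') (img_mem hxR hx')
  exact (S.proj_eq_one_iff hm1 (Cfsg.Lib.Coprime.commutator_le_of_le_normalizer (S.T.norm 1 hm1.le 0 (by omega))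
    (commutator_mem_commutator ha hx)) _).1 h1

theorem hker (hl : l + 2 ≤ m) : ∀ x : layerN (X (l + 2)) (Zl X K (l + 2)), (x : Γ) ∈ X (l + 1) →
    layerProj (F (l + 2)) (X (l + 2)) (Zl X K (l + 2)) x = 1 → (x : Γ) ∈ Zl X K (l + 1) := fun x hx h =>
  mem_sup_right ((S.proj_eq_one_iff (show l + 1 < m by omega) hx x.2).1 h)

theorem eq_of_desc (hl : l + 2 ≤ m) {f g : Γ → F (l + 1)} (hf : f ∈ funSpace (F (l + 1)) (X (l + 1)) (Zl X K (l + 1)))
    (hg : g ∈ funSpace (F (l + 1)) (X (l + 1)) (Zl X K (l + 1)))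
    (e : desc (layerProj (F (l + 2)) (X (l + 2)) (Zl X K (l + 2))) (X (l + 1)) f =
      desc (layerProj (F (l + 2)) (X (l + 2)) (Zl X K (l + 2))) (X (l + 1)) g) : f = g := by
  funext x
  by_cases hx : x ∈ X (l + 1)
  · have h := congrFun e (layerProj (F (l + 2)) (X (l + 2)) (Zl X K (l + 2))
      ⟨x, S.le_layerN hl (by omega) hx⟩)
    rwa [desc_apply (S.hker hl) hf hx, desc_apply (S.hker hl) hg hx] at h
  · rw [hf.1 x hx, hg.1 x hx]

/-- The induced function of a fixed moved vector. -/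
theorem desc_esp (hl : l + 2 ≤ m) {f : Γ → F (l + 1)} (hf : Esp s X K F l f) :
    desc (layerProj (F (l + 2)) (X (l + 2)) (Zl X K (l + 2))) (X (l + 1)) f ∈
        funSpace (F (l + 1)) (img (layerProj (F (l + 2)) (X (l + 2)) (Zl X K (l + 2))) (X (l + 1)))
          (img (layerProj (F (l + 2)) (X (l + 2)) (Zl X K (l + 2))) (Zl X K (l + 1))) ∧
      funOp _ (F (l + 1)) (layerProj (F (l + 2)) (X (l + 2)) (Zl X K (l + 2)) ⟨s, S.s_mem_layerN hl⟩)
          (desc (layerProj (F (l + 2)) (X (l + 2)) (Zl X K (l + 2))) (X (l + 1)) f) =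
        desc (layerProj (F (l + 2)) (X (l + 2)) (Zl X K (l + 2))) (X (l + 1)) f ∧
      sumOf (funOp _ (F (l + 1))) (img (layerProj (F (l + 2)) (X (l + 2)) (Zl X K (l + 2))) (disp s (X l)))
          (desc (layerProj (F (l + 2)) (X (l + 2)) (Zl X K (l + 2))) (X (l + 1)) f) = 0 := by
  have hl1 : l + 1 ≤ m := by omega
  refine ⟨desc_mem (S.hker hl) (S.Zl_le hl1) hf.1, ?_, ?_⟩
  · rw [desc_translate (S.hker hl) hf.1 (S.T.sP _ hl1) (S.Zl_normalized hl1 (S.T.sP _ hl1) (S.T.sK _ hl1)), hf.2.1]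
  · refine desc_sumOf (S.hker hl) ((S.disp_le (by omega)).trans (S.le_layerN hl (by omega)))
      ((S.disp_le (by omega)).trans (S.T.norm _ hl1 l (by omega))) (fun x hx => ?_)
      (S.cast_card hl1 (by omega) (S.T.ne l (by omega)) (S.disp_le (by omega))) hf.1 hf.2.2
    exact S.Zl_normalized hl1 (S.T.norm _ hl1 l (by omega) (S.disp_le (by omega) hx))
      (S.T.normK _ hl1 l (by omega) (S.disp_le (by omega) hx))

/-- Fixed moved vectors make the fixed points above live. -/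
theorem zero_live [∀ l, IsAlgClosed (F l)] (hl : l + 2 ≤ m) {f : Γ → F (l + 1)} (hf : Esp s X K F l f) (hf0 : f ≠ 0) :
    Live s X K F (l + 1) (fixs s (X (l + 1))) := by
  by_contra hcon
  haveI := S.char (l + 1) (by omega)
  refine hf0 (S.eq_of_desc hl hf.1 (Submodule.zero_mem _) ?_)
  obtain ⟨h1, h2, h3⟩ := S.desc_esp hl hf
  rw [(S.lev hl).zero_step ?_ h1 h2 h3]
  · funext a
    by_cases ha : a ∈ img (layerProj (F (l + 2)) (X (l + 2)) (Zl X K (l + 2))) (X (l + 1))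
    · obtain ⟨x, hx, rfl⟩ := mem_img.1 ha
      exact (desc_apply (S.hker hl) (Submodule.zero_mem _) hx).symm
    · exact (desc_outside ha).symm
  · intro c hc hsc v hv
    obtain ⟨c', hc', rfl⟩ := S.lift hl (show l + 1 ≤ l + 2 by omega) hc hsc
    refine Subtype.ext ?_
    rw [layerRho_coe]
    by_contra hne
    exact hcon ⟨c', hc', _, (S.mem_fixNull_iff (show l + 1 < m by omega) v).1 hv, hne⟩

set_option maxHeartbeats 2000000 in
/-- A live subgroup makes its commutators with the fixed points above live. -/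
theorem step_live [∀ l, IsAlgClosed (F l)] (hl : l + 2 ≤ m) {j : ℕ} (hj : j ≤ l) {y : Γ} (hy : y ∈ X j)
    (hsy : s * y = y * s) (hopt : (Nat.card (X j)).Coprime (Nat.card (X l)) ∨ (1 ≤ l ∧ j = l)) {D : Subgroup Γ}
    (hyD : y ∈ D) {f : Γ → F (l + 1)} (hf : Esp s X K F l f) (hmov : funOp Γ (F (l + 1)) y f ≠ f) :
    Live s X K F (l + 1) ⁅fixs s (X (l + 1)), D⁆ := by
  by_contra hcon
  have hl1 : l + 1 < m := by omega
  have hl0 : l < m := by omega
  haveI := S.char (l + 1) hl1.le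
  set π := layerProj (F (l + 2)) (X (l + 2)) (Zl X K (l + 2)) with hπ
  have hyN := S.le_layerN (F := F) hl (show j ≤ l + 2 by omega) hy
  have hsN := S.s_mem_layerN (F := F) hl
  set y2 : layerN (X (l + 2)) (Zl X K (l + 2)) := ⟨y, hyN⟩ with hy2
  have hyQ : y ∈ normalizer (X (l + 1) : Set Γ) := S.T.norm _ hl1.le j (by omega) hy
  have hyK : y ∈ normalizer (K (l + 1) : Set Γ) := S.T.normK _ hl1.le j (by omega) hy
  have hyl : y ∈ normalizer (X l : Set Γ) := by
    rcases lt_or_eq_of_le hj with h | h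
    exacts [S.T.norm l hl0.le j h hy, le_normalizer (h ▸ hy)]
  have hyR : y ∈ normalizer ((disp s (X l) : Subgroup Γ) : Set Γ) :=
    FitTwo.Cfg.le_normalizer_commutator_of (zpowers_le.2 hyl) (zpowers_le.2 (mem_normalizer_of_conj fun a ha => by
      obtain ⟨i, rfl⟩ := mem_zpowers_iff.1 ha
      rw [← ((show Commute s y from hsy).zpow_left i).eq, mul_inv_cancel_right]
      exact ha)) (mem_zpowers y)
  have hord : orderOf (π y2) ∣ Nat.card (X j) := by
    refine (orderOf_map_dvd π y2).trans ?_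
    rw [← orderOf_coe, hy2]
    exact (orderOf_coe (⟨y, hy⟩ : X j)).symm ▸ orderOf_dvd_natCard _
  refine hmov (S.eq_of_desc hl (fun_translate hf.1 hyQ (S.Zl_normalized hl1.le hyQ hyK)) hf.1 ?_)
  obtain ⟨h1, h2, h3⟩ := S.desc_esp hl hf
  rw [← desc_translate (g := y2) (S.hker hl) hf.1 hyQ (S.Zl_normalized hl1.le hyQ hyK)]
  refine (S.lev hl).fixed_step ?_ (img_normalizer hyQ hyN) (img_normalizer (S.Zl_normalized hl1.le hyQ hyK) hyN)
    (img_normalizer hyR hyN) ?_ ?_ ?_ h1 h2 h3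
  · rw [← map_mul, ← map_mul]; exact congrArg _ (Subtype.ext hsy)
  · exact (((S.T.coprime_r S.rprime S.cop (show j ≤ m by omega)).symm).coprime_dvd_left hord)
  · rcases hopt with h | ⟨h1l, rfl⟩
    · exact Or.inl ((h.coprime_dvd_left hord).coprime_dvd_right (card_img_dvd.trans (card_dvd_of_le (S.disp_le hl0.le))))
    · refine Or.inr fun k hk u hu => mem_centralizer_iff.2 fun x hx => ?_
      obtain ⟨k', hk', rfl⟩ := mem_img.1 hk
      obtain ⟨u', hu', rfl⟩ := mem_img.1 hu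
      obtain ⟨a, ha, rfl⟩ := mem_img.1 hx
      haveI := Fact.mk (S.T.prime j hl0.le)
      have hyX : y ∈ X j := hy
      have he : (y * k' * y⁻¹)⁻¹ * (k' : Γ) ∈ Phi (X j) := by
        rw [show (y * k' * y⁻¹)⁻¹ * (k' : Γ) = ⁅y, (k' : Γ)⁻¹⁆ by rw [commutatorElement_def]; group]
        exact comm_phi (S.T.isP j hl0.le) hyX (inv_mem (S.disp_le hl0.le hk'))
      obtain ⟨i, rfl⟩ : ∃ i, j = i + 1 := ⟨j - 1, by omega⟩
      have h4 := inv_mem (S.T.phi_central (show i < m by omega) _ he (u' : Γ) (S.disp_le hl0.le hu'))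
      rw [commutatorElement_inv] at h4
      have h5 := (S.T.kills (i + 1) hl0 _ (S.T.K_le _ hl0.le h4)).1 h4 (a : Γ) ha
      have h6 : π (⁅⁅u', (y2 * k' * y2⁻¹)⁻¹ * k'⁆, a⁆ : layerN (X (i + 1 + 2)) (Zl X K (i + 1 + 2))) = 1 :=
        (S.proj_eq_one_iff hl1 (S.T.K_le _ hl1.le h5) _).2 h5
      simp only [map_commutatorElement, map_mul, map_inv] at h6
      exact (commutatorElement_eq_one_iff_mul_comm.1 h6).symm
  · intro c hc hsc v hv
    obtain ⟨c', hc', rfl⟩ := S.lift hl (show l + 1 ≤ l + 2 by omega) hc hsc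
    refine Subtype.ext ?_
    rw [← map_commutatorElement, layerRho_coe]
    by_contra hne
    refine hcon ⟨⁅y, (c' : Γ)⁆, ?_, _, (S.mem_fixNull_iff hl1 v).1 hv, hne⟩
    rw [← commutatorElement_inv]
    exact inv_mem (commutator_mem_commutator hc' hyD)

/-- Fixed moved vectors in the top layer give fixed points. -/
theorem zero_top (hl : l + 1 ≤ m) {f : Γ → F (l + 1)} (hf : Esp s X K F l f) (hf0 : f ≠ 0) :
    fixs s (X (l + 1)) ≠ ⊥ := by
  intro hbot
  refine hf0 (funext fun x => ?_)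
  by_cases hx : x ∈ X (l + 1)
  · refine fun_eq_zero_of_fixed hf.1 S.rprime S.spow le_rfl (S.T.coprime_r S.rprime S.cop hl) (S.T.sP _ hl) hf.2.1
      (fun c hc hsc => ?_) x hx
    have hc1 : c ∈ fixs s (X (l + 1)) := mem_fixs.2 ⟨hc, hsc⟩
    rw [hbot, mem_bot] at hc1
    rw [hc1, fun_one hf.1]
  · exact hf.1.1 x hx

/-- A live subgroup under the top gives nontrivial commutators with the fixed points. -/
theorem step_top (hl : l + 1 ≤ m) {j : ℕ} (hj : j ≤ l) {y : Γ} (hy : y ∈ X j) (hsy : s * y = y * s)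
    {D : Subgroup Γ} (hyD : y ∈ D) {f : Γ → F (l + 1)} (hf : Esp s X K F l f)
    (hmov : funOp Γ (F (l + 1)) y f ≠ f) : ⁅fixs s (X (l + 1)), D⁆ ≠ ⊥ := by
  intro hbot
  have hyQ : y ∈ normalizer (X (l + 1) : Set Γ) := S.T.norm _ hl j (by omega) hy
  have hg : funOp Γ (F (l + 1)) y f - f ∈ funSpace (F (l + 1)) (X (l + 1)) (Zl X K (l + 1)) :=
    Submodule.sub_mem _ (fun_translate hf.1 hyQ (S.Zl_normalized hl hyQ (S.T.normK _ hl j (by omega) hy))) hf.1
  refine hmov (sub_eq_zero.1 (funext fun x => ?_))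
  by_cases hx : x ∈ X (l + 1)
  · refine fun_eq_zero_of_fixed hg S.rprime S.spow le_rfl (S.T.coprime_r S.rprime S.cop hl) (S.T.sP _ hl) ?_
      (fun c hc hsc => ?_) x hx
    · rw [map_sub, hf.2.1, ← End.mul_apply, ← map_mul, hsy, map_mul, End.mul_apply, hf.2.1]
    have hc1 := commutator_mem_commutator (mem_fixs.2 ⟨hc, hsc⟩ : c ∈ fixs s (X (l + 1))) hyD
    rw [hbot, mem_bot, commutatorElement_eq_one_iff_mul_comm] at hc1
    show f (y⁻¹ * c * y) - f c = 0
    rw [mul_assoc, hc1, inv_mul_cancel_left, sub_self]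
  · exact hg.1 x hx

set_option maxHeartbeats 2000000 in
/-- If the level below is not live on the first moved level then some fixed points in it are. -/
theorem sign_live [∀ l, IsAlgClosed (F l)] (hl : l + 2 ≤ m) (hlow : ∀ j ≤ l, ∀ x ∈ X j, s * x = x * s)
    (hmov : ∃ x ∈ X (l + 1), s * x ≠ x * s) (hX : ¬ Live s X K F (l + 1) (X l)) :
    Live s X K F (l + 1) (if l = 0 then fixs s (X 1) else ⁅fixs s (X (l + 1)), X (l - 1)⁆) := by
  by_contra hcon
  have hl1 : l + 1 < m := by omega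
  have hl0 : l < m := by omega
  haveI := S.char (l + 2) hl
  set π := layerProj (F (l + 2)) (X (l + 2)) (Zl X K (l + 2)) with hπ
  set ρ := layerRho (F (l + 2)) (X (l + 2)) (Zl X K (l + 2)) with hρ
  have L := S.lev hl
  have hdisp := S.T.le_displacements S.rprime S.spow S.cop S.sol hl1.le (fun j hj => hlow j (by omega)) hmov
  have hsN := S.s_mem_layerN (F := F) hl
  have hN : ∀ j ≤ l + 2, X j ≤ layerN (X (l + 2)) (Zl X K (l + 2)) := fun j hj => S.le_layerN hl hj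
  set s2 := π ⟨s, hsN⟩ with hs2
  have hcomm : ∀ j ≤ l, ∀ a ∈ img π (X j), s2 * a = a * s2 := fun j hj a ha => by
    obtain ⟨x, hx, rfl⟩ := mem_img.1 ha
    rw [hs2, ← map_mul, ← map_mul]
    exact congrArg _ (Subtype.ext (hlow j hj x hx))
  have hQ : img π (X (l + 1)) = ⁅img π (X (l + 1)), zpowers s2⁆ := by
    rw [hs2, ← S.img_disp hl1]
    exact congrArg (img π) (le_antisymm hdisp (S.disp_le hl1.le))
  have hnull : ∀ v : funSpace (F (l + 2)) (X (l + 2)) (Zl X K (l + 2)),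
      v ∈ fixNull ρ (img π (X (l + 1))) s2 → Esp s X K F (l + 1) (v : Γ → F (l + 2)) := fun v hv => by
    rw [hQ] at hv
    exact (S.mem_fixNull_iff hl1 v).1 hv
  have hQK : (Nat.card (img π (X (l + 1))) : F (l + 2)) ≠ 0 := by
    obtain ⟨t, ht⟩ := card_img_dvd (π := π) (A := X (l + 1))
    intro e
    exact S.cast_card hl hl1.le (S.T.ne (l + 1) hl1) le_rfl (by rw [ht, Nat.cast_mul, e, zero_mul])
  have hrQ : r.Coprime (Nat.card (img π (X (l + 1)))) :=
    (S.T.coprime_r S.rprime S.cop hl1.le).coprime_dvd_right card_img_dvd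
  have hC : ∀ x ∈ img π (X (l + 1)), s2 * x = x * s2 → x ∈ img π (Zl X K (l + 1)) := fun x hx hsx => by
    obtain ⟨c, hc, rfl⟩ := S.lift hl (show l + 1 ≤ l + 2 by omega) hx hsx
    obtain ⟨hc1, hsc⟩ := mem_fixs.1 hc
    exact img_mem (mem_sup_left (S.T.fixed_phi S.rprime S.spow S.cop hl1.le (hdisp hc1) hsc)) _
  have key := sign_trivial (ρ := ρ) (s := s2) (r := r) (X := img π (X l)) L.cls hQK S.rprime L.rK L.spow hrQ L.sQ L.sZ hC
    (img_le_normalizer (S.T.norm _ hl1.le l (by omega))) ?_ (hcomm l le_rfl) ?_ ?_ ?_ ?_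
  · refine S.T.proper (l + 1) hl1.le ((S.T.gen l hl0).trans (commutator_le.2 fun a ha x hx => ?_))
    have h1 := layerRho_injective (key _ (img_mem hx (hN l (by omega) hx)) _ (img_mem ha (hN _ (by omega) ha)))
    rw [← map_commutatorElement] at h1
    have h2 : ⁅x, a⁆ ∈ X (l + 1) :=
      mul_mem (conj_mem (S.T.norm _ hl1.le l (by omega) hx) ha) (inv_mem ha)
    rw [← commutatorElement_inv]
    exact inv_mem ((S.proj_eq_one_iff hl1 h2 _).1 h1)
  · intro y hy z hz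
    obtain ⟨a, ha, rfl⟩ := mem_img.1 hy
    obtain ⟨b, hb, rfl⟩ := mem_img.1 hz
    rw [eq_comm, ← commutatorElement_eq_one_iff_mul_comm, ← map_commutatorElement]
    have h3 := S.Zl_small hl0 _ hb _ ha
    exact (S.proj_eq_one_iff hl1 (S.T.K_le _ hl1.le h3) _).2 h3
  · exact ((S.T.coprime hl0).coprime_dvd_left card_img_dvd).coprime_dvd_right card_img_dvd
  · exact (S.T.coprime_r S.rprime S.cop hl0.le).symm.coprime_dvd_left card_img_dvd
  · intro y hy v hv
    obtain ⟨a, ha, rfl⟩ := mem_img.1 hy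
    refine Subtype.ext ?_
    rw [layerRho_coe]
    by_contra hne
    exact hX ⟨a, ha, _, hnull v hv, hne⟩
  intro ω hω hf hrad hw
  obtain ⟨w, hw, hw0, hsw⟩ := hw
  have hwn : w ∈ fixNull ρ (img π (X (l + 1))) s2 :=
    mem_fixNull.2 ⟨hsw, hω.sum_eq_zero le_rfl (fun y hy x hx => mul_mem (mul_mem hy hx) (inv_mem hy))
      (hω.not_dead hrad) hw⟩
  have hfixw : ∀ c : layerN (X (l + 2)) (Zl X K (l + 2)), (c : Γ) ∈
      (if l = 0 then fixs s (X 1) else ⁅fixs s (X (l + 1)), X (l - 1)⁆) → ρ (π c) w = w := fun c hc => by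
    refine Subtype.ext ?_
    rw [layerRho_coe]
    by_contra hne
    exact hcon ⟨c, hc, _, hnull w hwn, hne⟩
  have hsZ2 : s2 ∈ normalizer (img π (Zl X K (l + 1)) : Set _) := L.sZ
  have hrZ : r.Coprime (Nat.card (img π (Zl X K (l + 1)))) :=
    hrQ.coprime_dvd_right (card_dvd_of_le L.cls.le)
  have hZrad : ∀ z ∈ img π (Zl X K (l + 1)), z ∈ rad L.cls ρ ω := fun z hz => le_rad _ _ _ hz
  have hω1 : ∀ x ∈ rad L.cls ρ ω, ρ x w = w → ω x = 1 := fun x hx h => by
    have h1 := apply_rad hw hx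
    rw [h] at h1
    exact smul_left_injective (F (l + 2)) hw0 (by simpa using h1.symm)
  rcases Nat.eq_zero_or_pos l with rfl | hlpos
  · exfalso
    let M : Subgroup (layerGrp (F (0 + 2)) (X (0 + 2)) (Zl X K (0 + 2))) :=
      { carrier := {z | z ∈ img π (Zl X K (0 + 1)) ∧ ω z = 1}
        one_mem' := ⟨one_mem _, hω.one⟩
        mul_mem' := fun {a b} ha hb => ⟨mul_mem ha.1 hb.1, by
          rw [hω.mul (hZrad a ha.1) (hZrad b hb.1), ha.2, hb.2, one_mul]⟩
        inv_mem' := fun {a} ha => ⟨inv_mem ha.1, by rw [hω.inv (hZrad a ha.1), ha.2, inv_one]⟩ }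
    have hM : img π (Zl X K (0 + 1)) ≤ M := le_of_fixed_moved S.rprime L.spow hrZ hsZ2 M (fun z hz hsz => by
      obtain ⟨c, hc, rfl⟩ := S.lift hl (show 0 + 1 ≤ 0 + 2 by omega) (L.cls.le hz) hsz
      exact ⟨hz, hω1 _ (hZrad _ hz) (hfixw c (by simpa using hc))⟩) fun z hz => by
      have hz' : s2 * z * s2⁻¹ ∈ img π (Zl X K (0 + 1)) := conj_mem hsZ2 hz
      refine ⟨mul_mem hz (inv_mem hz'), ?_⟩
      rw [hω.mul (hZrad z hz) (inv_mem (hZrad _ hz')), hω.inv (hZrad _ hz'),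
        (stab_rad ⟨L.sQ, L.sZ, hf⟩ (hZrad z hz)).2, mul_inv_cancel₀ (hω.ne_zero (hZrad z hz))]
    exact hrad fun x hx => hω.mem_rad_iff.2 ⟨hx, fun y hy => (hM (L.cls.comm x hx y hy)).2⟩
  · have hj : l - 1 < l := by omega
    refine ⟨img π (X (l - 1)), fun g hg => ?_, img_le_normalizer (S.T.norm l hl0.le _ hj), ?_⟩
    swap
    · rw [← img_commutator (hN l (by omega)) (hN _ (by omega))]
      refine img_mono ?_
      have h := S.T.gen (l - 1) (by omega)
      rwa [Nat.sub_add_cancel hlpos] at h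
    obtain ⟨a, ha, rfl⟩ := mem_img.1 hg
    have haQ : (a : Γ) ∈ normalizer (X (l + 1) : Set Γ) := S.T.norm _ hl1.le _ (by omega) ha
    have haZ : (a : Γ) ∈ normalizer (Zl X K (l + 1) : Set Γ) :=
      S.Zl_normalized hl1.le haQ (S.T.normK _ hl1.le _ (by omega) ha)
    have hgQ : π a ∈ normalizer (img π (X (l + 1)) : Set _) := img_normalizer haQ a.2
    have hgZ : π a ∈ normalizer (img π (Zl X K (l + 1)) : Set _) := img_normalizer haZ a.2
    have hsg : s2 * π a = π a * s2 := hcomm (l - 1) (by omega) _ hg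
    refine ⟨hgQ, hgZ, (Comp.eq_of_fixed S.rprime L.spow L.sQ L.sZ hω (hω.translate hgQ hgZ) hrQ hC hf ?_ ?_).symm⟩
    · rw [translate_translate, hsg, ← translate_translate, hf]
    have hgZ' : ∀ z ∈ img π (Zl X K (l + 1)), (π a)⁻¹ * z * π a ∈ img π (Zl X K (l + 1)) := fun z hz =>
      conj_mem' hgZ hz
    let M : Subgroup (layerGrp (F (l + 2)) (X (l + 2)) (Zl X K (l + 2))) :=
      { carrier := {z | z ∈ img π (Zl X K (l + 1)) ∧ ω z = ω ((π a)⁻¹ * z * π a)}
        one_mem' := ⟨one_mem _, by simp⟩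
        mul_mem' := fun {u v} hu hv => ⟨mul_mem hu.1 hv.1, by
          rw [show (π a)⁻¹ * (u * v) * π a = ((π a)⁻¹ * u * π a) * ((π a)⁻¹ * v * π a) by group,
            hω.mul (hZrad u hu.1) (hZrad v hv.1), hω.mul (hZrad _ (hgZ' u hu.1)) (hZrad _ (hgZ' v hv.1)), hu.2, hv.2]⟩
        inv_mem' := fun {u} hu => ⟨inv_mem hu.1, by
          rw [show (π a)⁻¹ * u⁻¹ * π a = ((π a)⁻¹ * u * π a)⁻¹ by group, hω.inv (hZrad u hu.1),
            hω.inv (hZrad _ (hgZ' u hu.1)), hu.2]⟩ }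
    intro z hz
    show ω z = ω ((π a)⁻¹ * z * π a)
    refine (le_of_fixed_moved S.rprime L.spow hrZ hsZ2 M (fun z hz hsz => ⟨hz, ?_⟩) (fun z hz => ?_) hz).2
    · obtain ⟨c, hc, rfl⟩ := S.lift hl (show l + 1 ≤ l + 2 by omega) (L.cls.le hz) hsz
      have hd : ((⁅c, a⁻¹⁆ : layerN (X (l + 2)) (Zl X K (l + 2))) : Γ) ∈ ⁅fixs s (X (l + 1)), X (l - 1)⁆ :=
        commutator_mem_commutator hc (inv_mem ha)
      have h1 := hfixw ⁅c, a⁻¹⁆ (by rwa [if_neg (show l ≠ 0 by omega)])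
      have h2 := hgZ' _ (inv_mem hz)
      have h3 := hω1 _ (mul_mem (hZrad _ hz) (hZrad _ h2)) (by
        rw [show π c * ((π a)⁻¹ * (π c)⁻¹ * π a) = π ⁅c, a⁻¹⁆ by
          rw [map_commutatorElement, map_inv, commutatorElement_def]; group]
        exact h1)
      rw [hω.mul (hZrad _ hz) (hZrad _ h2), show (π a)⁻¹ * (π c)⁻¹ * π a = ((π a)⁻¹ * π c * π a)⁻¹ by group,
        hω.inv (hZrad _ (hgZ' _ hz))] at h3
      exact (mul_inv_eq_one₀ (hω.ne_zero (hZrad _ (hgZ' _ hz)))).1 h3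
    · have hd : ∀ z ∈ img π (Zl X K (l + 1)), ω (z * (s2 * z * s2⁻¹)⁻¹) = 1 := fun z hz => by
        have hz' : s2 * z * s2⁻¹ ∈ img π (Zl X K (l + 1)) := conj_mem hsZ2 hz
        rw [hω.mul (hZrad z hz) (inv_mem (hZrad _ hz')), hω.inv (hZrad _ hz'),
          (stab_rad ⟨L.sQ, L.sZ, hf⟩ (hZrad z hz)).2, mul_inv_cancel₀ (hω.ne_zero (hZrad z hz))]
      refine ⟨mul_mem hz (inv_mem (conj_mem hsZ2 hz)), ?_⟩
      have hc : Commute s2 (π a) := hsg
      rw [hd z hz, show (π a)⁻¹ * (z * (s2 * z * s2⁻¹)⁻¹) * π a =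
        ((π a)⁻¹ * z * π a) * ((π a)⁻¹ * s2 * z⁻¹ * (s2⁻¹ * π a)) by group,
        hc.inv_right.eq.symm, hc.inv_left.eq,
        show s2 * (π a)⁻¹ * z⁻¹ * (π a * s2⁻¹) = (s2 * ((π a)⁻¹ * z * π a) * s2⁻¹)⁻¹ by group,
        hd _ (hgZ' z hz)]

end Sys

end Cfsg.Lib.FitHeight
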