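import Cfsg.Agent.Lib.FitHeight.Weak

/-!
# Minimal towers
-/

set_option autoImplicit false

namespace Cfsg.Lib.FitHeight

open Subgroup
open Cfsg.Lib.FitTwo.Cfg (Phi Phi_le le_normalizer_commutator_of)
open scoped commutatorElement

variable {Γ : Type*} [Group Γ]

/-- A minimal tower. -/
structure Tower (G : Subgroup Γ) (s : Γ) (m : ℕ) (P K : ℕ → Subgroup Γ) (p : ℕ → ℕ) : Prop extends
    Weak G s m P K p where
  K_le : ∀ l ≤ m, K l ≤ P l
  gen : ∀ l < m, P (l + 1) ≤ ⁅P (l + 1), P l⁆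
  small : ∀ l < m, ∀ M ≤ P (l + 1), M ≠ P (l + 1) → s ∈ normalizer (M : Set Γ) →
    (∀ j ≤ l, P j ≤ normalizer (M : Set Γ)) → ∀ x ∈ M, ∀ a ∈ P l, ⁅x, a⁆ ∈ K (l + 1)
  base : ∀ M ≤ P 0, M ≠ P 0 → s ∈ normalizer (M : Set Γ) → M ≤ K 0

/-- The kernels of a tower, from the top down. -/
def kerStep (X k : ℕ → Subgroup Γ) (m : ℕ) : ℕ → Subgroup Γ
  | 0 => X m ⊓ k m
  | d + 1 => X (m - (d + 1)) ⊓ Cen (X (m - d)) (kerStep X k m d)

variable [Finite Γ] {G : Subgroup Γ} {s : Γ} {m : ℕ} {P k : ℕ → Subgroup Γ} {p : ℕ → ℕ}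

/-- Towers can be minimised. -/
theorem Weak.exists_tower (W : Weak G s m P k p) (hsol : Group.IsSolvable G) :
    ∃ X K : ℕ → Subgroup Γ, Tower G s m X K p := by
  have hmin : ∀ l ≤ m, ∃ X : ℕ → Subgroup Γ,
      (X 0 ≤ P 0 ∧ s ∈ normalizer (X 0 : Set Γ) ∧ ¬ X 0 ≤ k 0 ∧
        ∀ M ≤ X 0, M ≠ X 0 → s ∈ normalizer (M : Set Γ) → M ≤ k 0) ∧
      ∀ i < l, X (i + 1) ≤ P (i + 1) ∧ s ∈ normalizer (X (i + 1) : Set Γ) ∧
        (∀ j ≤ i, X j ≤ normalizer (X (i + 1) : Set Γ)) ∧ ¬ ⁅X (i + 1), X i⁆ ≤ k (i + 1) ∧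
        ∀ M ≤ X (i + 1), M ≠ X (i + 1) → s ∈ normalizer (M : Set Γ) →
          (∀ j ≤ i, X j ≤ normalizer (M : Set Γ)) → ⁅M, X i⁆ ≤ k (i + 1) := by
    intro l hl
    induction l with
    | zero =>
      obtain ⟨A, ⟨h1, h2, h3⟩, hA⟩ := (Set.toFinite {A : Subgroup Γ | A ≤ P 0 ∧ s ∈ normalizer (A : Set Γ) ∧
        ¬ A ≤ k 0}).exists_minimal ⟨P 0, le_rfl, W.sP 0 hl, W.proper 0 hl⟩
      exact ⟨fun _ => A, ⟨h1, h2, h3, fun M hM hne hsM => by
        by_contra h
        exact hne (le_antisymm hM (hA ⟨hM.trans h1, hsM, h⟩ hM))⟩, fun i hi => absurd hi (by omega)⟩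
    | succ l ih =>
      obtain ⟨X, hX0, hX⟩ := ih (by omega)
      have hXP : ∀ j ≤ l, X j ≤ P j := fun j hj => by
        cases j with
        | zero => exact hX0.1
        | succ j => exact (hX j (by omega)).1
      have hXk : ¬ X l ≤ k l := by
        cases l with
        | zero => exact hX0.2.2.1
        | succ j =>
          obtain ⟨-, -, h3, h4, -⟩ := hX j (by omega)
          exact fun h => h4 ((Cfsg.Lib.Coprime.commutator_le_of_le_normalizer (h3 j le_rfl)).trans h)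
      obtain ⟨A, ⟨h1, h2, h3, h4⟩, hA⟩ := (Set.toFinite {A : Subgroup Γ | A ≤ P (l + 1) ∧
        s ∈ normalizer (A : Set Γ) ∧ (∀ j ≤ l, X j ≤ normalizer (A : Set Γ)) ∧
        ¬ ⁅A, X l⁆ ≤ k (l + 1)}).exists_minimal ⟨P (l + 1), le_rfl, W.sP _ hl,
          fun j hj => (hXP j hj).trans (W.norm _ hl j (by omega)), fun h => hXk fun x hx =>
            (W.kills l (by omega) x (hXP l le_rfl hx)).2 fun a ha => by
              rw [← commutatorElement_inv]
              exact inv_mem (h (commutator_mem_commutator ha hx))⟩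
      refine ⟨fun j => if j ≤ l then X j else A, by simpa using hX0, fun i hi => ?_⟩
      by_cases hil : i < l
      · simp only [if_pos (show i + 1 ≤ l by omega), if_pos (show i ≤ l by omega)]
        obtain ⟨e1, e2, e3, e4, e5⟩ := hX i hil
        exact ⟨e1, e2, fun j hj => by rw [if_pos (show j ≤ l by omega)]; exact e3 j hj, e4,
          fun M hM hne hsM hj => e5 M hM hne hsM fun j hji => by
            simpa [if_pos (show j ≤ l by omega)] using hj j hji⟩
      · obtain rfl : i = l := by omega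
        simp only [if_neg (show ¬ i + 1 ≤ i by omega), if_pos (le_refl i)]
        refine ⟨h1, h2, fun j hj => by rw [if_pos hj]; exact h3 j hj, h4, fun M hM hne hsM hj => ?_⟩
        by_contra h
        exact hne (le_antisymm hM (hA ⟨hM.trans h1, hsM, fun j hji => by simpa [if_pos hji] using hj j hji, h⟩ hM))
  obtain ⟨X, hX0, hX⟩ := hmin m le_rfl
  have hXP : ∀ j ≤ m, X j ≤ P j := fun j hj => by
    cases j with
    | zero => exact hX0.1
    | succ j => exact (hX j (by omega)).1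
  have hXs : ∀ j ≤ m, s ∈ normalizer (X j : Set Γ) := fun j hj => by
    cases j with
    | zero => exact hX0.2.1
    | succ j => exact (hX j (by omega)).2.1
  have hXn : ∀ l ≤ m, ∀ j < l, X j ≤ normalizer (X l : Set Γ) := fun l hl j hj => by
    cases l with
    | zero => omega
    | succ l => exact (hX l (by omega)).2.2.1 j (by omega)
  have hXk : ∀ l ≤ m, ¬ X l ≤ k l := fun l hl => by
    cases l with
    | zero => exact hX0.2.2.1
    | succ l =>
      obtain ⟨-, -, h3, h4, -⟩ := hX l (by omega)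
      exact fun h => h4 ((Cfsg.Lib.Coprime.commutator_le_of_le_normalizer (h3 l le_rfl)).trans h)
  have hgen : ∀ l < m, X (l + 1) ≤ ⁅X (l + 1), X l⁆ := by
    intro l hl
    obtain ⟨h1, h2, h3, h4, h5⟩ := hX l hl
    have hle : ⁅X (l + 1), X l⁆ ≤ X (l + 1) := Cfsg.Lib.Coprime.commutator_le_of_le_normalizer (h3 l le_rfl)
    by_contra hne
    refine h4 ?_
    rw [← Cfsg.Lib.Coprime.commutator_commutator_eq (h3 l le_rfl)
      (coprime_of_isPGroup (W.prime l hl.le) (W.prime _ hl) (W.ne l hl) ((W.isP l hl.le).to_le (hXP l hl.le))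
        ((W.isP _ hl).to_le (hXP _ hl)))
      (Or.inr (Cfsg.Lib.Coprime.isSolvable_of_le ((hXP _ hl).trans (W.le _ hl)) hsol))]
    refine h5 _ hle (fun e => hne e.ge) ?_ fun j hj => ?_
    · exact le_normalizer_commutator_of (zpowers_le.2 h2) (zpowers_le.2 (hXs l hl.le)) (mem_zpowers s)
    · refine le_normalizer_commutator_of (h3 j hj) ?_
      rcases lt_or_eq_of_le hj with h | h
      exacts [hXn l hl.le j h, h ▸ le_normalizer]
  -- the kernels
  let f : ℕ → Subgroup Γ := kerStep X k m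
  have hf : ∀ d ≤ m, X (m - d) ⊓ k (m - d) ≤ f d ∧ s ∈ normalizer (SetLike.coe (f d)) ∧
      (∀ j ≤ m - d, X j ≤ normalizer (SetLike.coe (f d))) ∧ f d ≤ X (m - d) ∧ ¬ X (m - d) ≤ f d := by
    intro d hd
    induction d with
    | zero =>
      refine ⟨le_rfl, inf_normalizer_le_normalizer_inf ⟨hXs m le_rfl, W.sK m le_rfl⟩, fun j hj x hx =>
        inf_normalizer_le_normalizer_inf ⟨?_, W.normK m le_rfl j (by omega) (hXP j (by omega) hx)⟩, inf_le_left,
        fun h => hXk m le_rfl (le_trans h inf_le_right)⟩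
      rcases lt_or_eq_of_le (show j ≤ m by omega) with h | h
      exacts [hXn m le_rfl j h hx, le_normalizer (h ▸ hx)]
    | succ d ih =>
      obtain ⟨hk, hs', hn, hle, hprop⟩ := ih (by omega)
      have e : m - d = m - (d + 1) + 1 := by omega
      set l := m - (d + 1) with hl
      have hlm : l < m := by omega
      have hfd : f (d + 1) = X l ⊓ Cen (X (l + 1)) (f d) := by rw [← e]; rfl
      rw [hfd]
      rw [e] at hk hn hle hprop
      have hconj : ∀ g, g ∈ normalizer (X l : Set Γ) → g ∈ normalizer (X (l + 1) : Set Γ) →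
          g ∈ normalizer (SetLike.coe (f d)) → g ∈ normalizer ((X l ⊓ Cen (X (l + 1)) (f d) : Subgroup Γ) : Set Γ) := fun g h1 h2 h3 =>
        mem_normalizer_of_conj fun x hx => ⟨conj_mem h1 hx.1, conj_mem_Cen h2 h3 hx.2⟩
      refine ⟨fun x hx => ⟨hx.1, hn l (by omega) hx.1, fun a ha => hk ⟨?_, ?_⟩⟩, ?_, fun j hj x hx => ?_,
        inf_le_left, fun h => hprop ((hgen l hlm).trans (commutator_le.2 fun a ha x hx => ?_))⟩
      · exact (X (l + 1)).mul_mem (conj_mem (hXn (l + 1) hlm l (by omega) hx.1) ha) ((X (l + 1)).inv_mem ha)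
      · exact (W.kills l hlm x (hXP l hlm.le hx.1)).1 hx.2 a (hXP (l + 1) hlm ha)
      · exact hconj s (hXs l hlm.le) (hXs _ hlm) hs'
      · refine hconj x ?_ (hXn _ hlm j (by omega) hx) (hn j (by omega) hx)
        rcases lt_or_eq_of_le hj with h | h
        exacts [hXn l hlm.le j h hx, le_normalizer (h ▸ hx)]
      · rw [← commutatorElement_inv]
        exact inv_mem ((h hx).2.2 a ha)
  refine ⟨X, fun l => f (m - l), ?_⟩
  have hf' : ∀ l ≤ m, X l ⊓ k l ≤ f (m - l) ∧ s ∈ normalizer (f (m - l) : Set Γ) ∧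
      (∀ j ≤ l, X j ≤ normalizer (f (m - l) : Set Γ)) ∧ f (m - l) ≤ X l ∧ ¬ X l ≤ f (m - l) := fun l hl => by
    simpa [show m - (m - l) = l by omega] using hf (m - l) (by omega)
  refine
    { le := fun l hl => (hXP l hl).trans (W.le l hl), prime := W.prime
      isP := fun l hl => (W.isP l hl).to_le (hXP l hl), ne := W.ne, norm := hXn, sP := hXs
      sK := fun l hl => (hf' l hl).2.1, normK := fun l hl => (hf' l hl).2.2.1
      kills := fun l hl x hx => ?_, proper := fun l hl => (hf' l hl).2.2.2.2, K_le := fun l hl => (hf' l hl).2.2.2.1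
      gen := hgen, small := fun l hl M hM hne hsM hj x hx a ha => ?_, base := fun M hM hne hsM x hx => ?_ }
  · show x ∈ f (m - l) ↔ ∀ a ∈ X (l + 1), ⁅x, a⁆ ∈ f (m - (l + 1))
    rw [show m - l = m - (l + 1) + 1 by omega]
    show x ∈ X (m - (m - (l + 1) + 1)) ⊓ Cen (X (m - (m - (l + 1)))) (f (m - (l + 1))) ↔ _
    rw [show m - (m - (l + 1) + 1) = l by omega, show m - (m - (l + 1)) = l + 1 by omega]
    exact ⟨fun h => h.2.2, fun h => ⟨hx, (hf' (l + 1) hl).2.2.1 l (by omega) hx, h⟩⟩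
  · refine (hf' (l + 1) hl).1 ⟨?_, (hX l hl).2.2.2.2 M hM hne hsM hj (commutator_mem_commutator hx ha)⟩
    exact Cfsg.Lib.Coprime.commutator_le_of_le_normalizer ((hX l hl).2.2.1 l le_rfl)
      (commutator_mem_commutator (hM hx) ha)
  · exact (hf' 0 m.zero_le).1 ⟨hM hx, hX0.2.2.2 M hM hne hsM hx⟩

namespace Tower

variable {X K : ℕ → Subgroup Γ} {r : ℕ} (T : Tower G s m X K p) {l : ℕ}
include T

theorem ne_bot (hl : l ≤ m) : X l ≠ ⊥ := fun h => T.proper l hl (h ▸ bot_le)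

theorem coprime (hl : l < m) : (Nat.card (X l)).Coprime (Nat.card (X (l + 1))) :=
  coprime_of_isPGroup (T.prime l hl.le) (T.prime _ hl) (T.ne l hl) (T.isP l hl.le) (T.isP _ hl)

theorem coprime_r (hr : r.Prime) (hcop : ¬ r ∣ Nat.card G) (hl : l ≤ m) : r.Coprime (Nat.card (X l)) :=
  hr.coprime_iff_not_dvd.2 fun h => hcop (h.trans (card_dvd_of_le (T.le l hl)))

theorem ne_r (hr : r.Prime) (hcop : ¬ r ∣ Nat.card G) (hl : l ≤ m) : r ≠ p l := fun e => by
  haveI := Fact.mk (T.prime l hl)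
  obtain ⟨a, ha⟩ := IsPGroup.iff_card.1 (T.isP l hl)
  have h1 := T.coprime_r hr hcop hl
  rw [ha, e] at h1
  refine (T.prime l hl).one_lt.ne' (Nat.eq_one_of_dvd_coprimes h1 dvd_rfl (dvd_pow_self _ fun h => ?_))
  exact T.ne_bot hl (eq_bot_of_card_eq _ (by rw [ha, h, pow_zero]))

theorem phi_small (hl : l < m) : ∀ x ∈ Phi (X (l + 1)), ∀ a ∈ X l, ⁅x, a⁆ ∈ K (l + 1) :=
  T.small l hl _ (Phi_le _) (phi_lt (T.ne_bot hl)).ne (phi_normalized (T.sP _ hl))
    fun j hj x hx => phi_normalized (T.norm _ hl j (by omega) hx)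

theorem phi_central (hl : l < m) : ∀ x ∈ Phi (X (l + 1)), ∀ y ∈ X (l + 1), ⁅x, y⁆ ∈ K (l + 1) := by
  set Q := X (l + 1) with hQ
  have hQK : Q ≤ normalizer (K (l + 1) : Set Γ) := T.normK _ hl _ le_rfl
  have hbK : ∀ b ∈ X l, ∀ a ∈ Phi Q, ⁅b, a⁆ ∈ K (l + 1) := fun b hb a ha => by
    rw [← commutatorElement_inv]; exact inv_mem (T.phi_small hl a ha b hb)
  have hle : Q ≤ Q ⊓ Cen (Phi Q) (K (l + 1)) := (T.gen l hl).trans (commutator_le.2 fun x hx b hb => by
    have hu : ⁅x, b⁆ ∈ Q := Cfsg.Lib.Coprime.commutator_le_of_le_normalizer (T.norm _ hl l (by omega))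
      (commutator_mem_commutator hx hb)
    refine ⟨hu, hQK hu, fun a ha => ?_⟩
    have hw : b * x⁻¹ * b⁻¹ ∈ Q := conj_mem (T.norm _ hl l (by omega) hb) (inv_mem hx)
    have ha' : x⁻¹ * a * x ∈ Phi Q := conj_mem' (phi_normalized (le_normalizer hx)) ha
    rw [show ⁅⁅x, b⁆, a⁆ = x * ((b * x⁻¹ * b⁻¹) * ⁅b, a⁆⁻¹ * (b * x⁻¹ * b⁻¹)⁻¹ * ⁅b, x⁻¹ * a * x⁆) * x⁻¹ by
      simp only [commutatorElement_def]; group]
    exact conj_mem (hQK hx) (mul_mem (conj_mem (hQK hw) (inv_mem (hbK b hb a ha))) (hbK b hb _ ha')))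
  intro x hx y hy
  rw [← commutatorElement_inv]
  exact inv_mem ((hle hy).2.2 x hx)

theorem centre (hl : l < m) (hF : ¬ Phi (X (l + 1)) ≤ K (l + 1)) {x : Γ} (hx : x ∈ X (l + 1))
    (hxc : ∀ y ∈ X (l + 1), ⁅x, y⁆ ∈ K (l + 1)) : ∀ a ∈ X l, ⁅x, a⁆ ∈ K (l + 1) := by
  set Q := X (l + 1) with hQ
  have hQK : Q ≤ normalizer (K (l + 1) : Set Γ) := T.normK _ hl _ le_rfl
  by_cases he : Q ⊓ Cen Q (K (l + 1)) = Q
  · refine absurd (fun a ha => ?_) hF
    exact mem_of_fixed (T.norm _ hl l (by omega)) (T.coprime hl) hQK (T.normK _ hl _ (by omega))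
      (fun u hu v hv => (le_inf_iff.1 he.ge).2 hu |>.2 v hv) (T.gen l hl (Phi_le _ ha)) (T.phi_small hl a ha)
  · refine T.small l hl _ inf_le_left he ?_ (fun j hj g hg => ?_) x ⟨hx, hQK hx, hxc⟩
    · exact mem_normalizer_of_conj fun y hy => ⟨conj_mem (T.sP _ hl) hy.1, conj_mem_Cen (T.sP _ hl) (T.sK _ hl) hy.2⟩
    · have h1 := T.norm _ hl j (by omega) hg
      exact mem_normalizer_of_conj fun y hy =>
        ⟨conj_mem h1 hy.1, conj_mem_Cen h1 (T.normK _ hl j (by omega) hg) hy.2⟩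

theorem fixed_phi (hr : r.Prime) (hsr : s ^ r = 1) (hcop : ¬ r ∣ Nat.card G) (hl : l ≤ m) {x : Γ}
    (hx : x ∈ ⁅X l, zpowers s⁆) (hsx : s * x = x * s) : x ∈ Phi (X l) := by
  haveI := Fact.mk (T.prime l hl)
  have hsP : zpowers s ≤ normalizer (X l : Set Γ) := zpowers_le.2 (T.sP l hl)
  refine mem_of_fixed hsP ?_ (fun y hy => phi_normalized (le_normalizer hy))
    (zpowers_le.2 (phi_normalized (T.sP l hl))) (fun u hu v hv => comm_phi (T.isP l hl) hu hv) hx fun a ha => ?_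
  · rw [Nat.card_zpowers]
    exact (T.coprime_r hr hcop hl).coprime_dvd_left (orderOf_dvd_of_pow_eq_one hsr)
  · obtain ⟨i, rfl⟩ := mem_zpowers_iff.1 ha
    have hc : Commute s x := hsx
    rw [commutatorElement_eq_one_iff_mul_comm.2 (hc.zpow_left i).eq.symm]
    exact one_mem _

/-- The first level moved by the operator is equal to its displacements. -/
theorem le_displacements (hr : r.Prime) (hsr : s ^ r = 1) (hcop : ¬ r ∣ Nat.card G) (hsol : Group.IsSolvable G)
    (hl : l ≤ m) (hlow : ∀ j < l, ∀ x ∈ X j, s * x = x * s) (hmov : ∃ x ∈ X l, s * x ≠ x * s) :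
    X l ≤ ⁅X l, zpowers s⁆ := by
  have hsP : zpowers s ≤ normalizer (X l : Set Γ) := zpowers_le.2 (T.sP l hl)
  have hle : ⁅X l, zpowers s⁆ ≤ X l := Cfsg.Lib.Coprime.commutator_le_of_le_normalizer hsP
  have hcop' : (Nat.card (zpowers s)).Coprime (Nat.card (X l)) := by
    rw [Nat.card_zpowers]
    exact (T.coprime_r hr hcop hl).coprime_dvd_left (orderOf_dvd_of_pow_eq_one hsr)
  have hsup := Cfsg.Lib.Coprime.commutator_sup_centralizer_eq hsP hcop'
    (Or.inr (Cfsg.Lib.Coprime.isSolvable_of_le (T.le l hl) hsol))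
  by_contra hne
  have hR : ⁅X l, zpowers s⁆ ≠ X l := fun e => hne e.ge
  have hC : X l ⊓ centralizer (zpowers s : Set Γ) ≠ X l := fun e => by
    obtain ⟨x, hx, hsx⟩ := hmov
    exact hsx (mem_centralizer_iff.1 ((le_inf_iff.1 e.ge).2 hx) s (mem_zpowers s))
  have hsR : s ∈ normalizer ((⁅X l, zpowers s⁆ : Subgroup Γ) : Set Γ) :=
    le_normalizer_commutator_of hsP le_normalizer (mem_zpowers s)
  have hsC : s ∈ normalizer ((X l ⊓ centralizer (zpowers s : Set Γ) : Subgroup Γ) : Set Γ) :=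
    mem_normalizer_of_conj fun x hx => by
      rw [mem_centralizer_iff.1 hx.2 s (mem_zpowers s), mul_inv_cancel_right]; exact hx
  cases l with
  | zero =>
    refine T.proper 0 hl (hsup.ge.trans (sup_le ?_ ?_))
    exacts [T.base _ hle hR hsR, T.base _ inf_le_left hC hsC]
  | succ l =>
    have hfix : ∀ j ≤ l, ∀ g ∈ X j, g ∈ centralizer (zpowers s : Set Γ) := fun j hj g hg =>
      mem_centralizer_iff.2 fun a ha => by
        obtain ⟨i, rfl⟩ := mem_zpowers_iff.1 ha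
        exact ((show Commute s g from hlow j (by omega) g hg).zpow_left i).eq
    have hgz : ∀ j ≤ l, X j ≤ normalizer (zpowers s : Set Γ) := fun j hj g hg =>
      mem_normalizer_of_conj fun a ha => by
        rw [← mem_centralizer_iff.1 (hfix j hj g hg) a ha, mul_inv_cancel_right]; exact ha
    have h1 := T.small l hl _ hle hR hsR fun j hj => le_normalizer_commutator_of (T.norm _ hl j (by omega)) (hgz j hj)
    have h2 := T.small l hl _ inf_le_left hC hsC fun j hj g hg => inf_normalizer_le_normalizer_inf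
      ⟨T.norm _ hl j (by omega) hg, le_normalizer (hfix j hj g hg)⟩
    refine T.proper (l + 1) hl ((T.gen l hl).trans (commutator_le.2 fun x hx a ha => ?_))
    obtain ⟨u, hu, v, hv, rfl⟩ := Cfsg.Lib.Coprime.le_commutator_sup_centralizer hsP hcop'
      (Or.inr (Cfsg.Lib.Coprime.isSolvable_of_le (T.le _ hl) hsol)) hx
    rw [show ⁅u * v, a⁆ = u * ⁅v, a⁆ * u⁻¹ * ⁅u, a⁆ by simp only [commutatorElement_def]; group]
    exact mul_mem (conj_mem (T.normK _ hl _ le_rfl (hle hu)) (h2 v hv a ha)) (h1 u hu a ha)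

end Tower

end Cfsg.Lib.FitHeight
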