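import Cfsg.Agent.Lib.FitHeight.Propagate

/-!
# Fixed moved vectors at consecutive levels
-/

set_option autoImplicit false

namespace Cfsg.Lib.FitHeight

open Module Cfsg.Lib.Local
open scoped commutatorElement

variable {Γ : Type*} [Group Γ] [Finite Γ] {K : Type*} [Field K] [IsAlgClosed K] {V : Type*} [AddCommGroup V]
  [Module K V] [FiniteDimensional K V] {ρ : Γ →* End K V} {Q Z R : Subgroup Γ} {s : Γ} {r q : ℕ}
  {K' : Type*} [Field K'] [IsAlgClosed K'] [CharP K' q]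

omit [IsAlgClosed K] [FiniteDimensional K V] [IsAlgClosed K'] in
theorem Lev.cast_R (L : Lev ρ Q Z R s r q) : (Nat.card R : K') ≠ 0 := fun e => by
  rw [CharP.cast_eq_zero_iff K' q] at e
  exact L.qprime.one_lt.ne' (Nat.eq_one_of_dvd_coprimes L.RQ e dvd_rfl)

omit [IsAlgClosed K] [FiniteDimensional K V] [IsAlgClosed K'] in
theorem Lev.cast_r (L : Lev ρ Q Z R s r q) : (r : K') ≠ 0 := fun e => by
  rw [CharP.cast_eq_zero_iff K' q] at e
  exact L.rq ((Nat.prime_dvd_prime_iff_eq L.qprime L.rprime).1 e).symm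

omit [Finite Γ] in
theorem trOf_fix (π : Γ →* End K V) (hsr : s ^ r = 1) (v : V) : π s (trOf π s r v) = trOf π s r v := by
  conv_rhs => rw [← trOf_shift π hsr]
  rw [trOf_apply, trOf_apply, map_sum]
  refine Finset.sum_congr rfl fun i _ => ?_
  simp only [← End.mul_apply, ← map_mul]
  rw [← pow_succ', pow_succ]

/-- An element in every kernel and centre is central. -/
theorem Lev.of_all (L : Lev ρ Q Z R s r q) {x : Γ} (hx : x ∈ Q)
    (hall : ∀ ω, Comp L.cls ρ ω → ∃ a ∈ Q, (∀ v ∈ cspace L.cls ρ ω, ρ a v = v) ∧ a⁻¹ * x ∈ Z) :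
    (Z = ⊥ ∧ x = 1) ∨ ((∀ x ∈ Q, (∀ z ∈ Q, x * z = z * x) → ∀ k ∈ R, k * x = x * k) ∧ ∀ z ∈ Q, x * z = z * x) := by
  rcases L.centre with hZ | hcen
  · refine Or.inl ⟨hZ, L.inj x hx (eq_one_of_comp L.cls ρ L.cardQ hx fun ω hω => ?_)⟩
    obtain ⟨a, -, ha, hax⟩ := hall ω hω
    rw [hZ, Subgroup.mem_bot, inv_mul_eq_one] at hax
    rwa [← hax]
  refine Or.inr ⟨hcen, fun z hz => ?_⟩
  rw [← commutatorElement_eq_one_iff_mul_comm]
  refine L.inj _ (L.cls.le (L.cls.comm x hx z hz))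
    (eq_one_of_comp L.cls ρ L.cardQ (L.cls.le (L.cls.comm x hx z hz)) fun ω hω => ?_)
  obtain ⟨a, haQ, ha, hax⟩ := hall ω hω
  intro v hv
  have hzv : ρ z⁻¹ v ∈ cspace L.cls ρ ω := hω.maps (inv_mem hz) hv
  have e : ⁅x, z⁆ = ⁅a, z⁆ := by
    have hc := L.cls.cent _ hax z hz
    rw [show ⁅x, z⁆ = a * (a⁻¹ * x * z) * (a⁻¹ * x)⁻¹ * a⁻¹ * z⁻¹ by rw [commutatorElement_def]; group, hc,
      commutatorElement_def]
    group
  rw [e, commutatorElement_def, map_mul, End.mul_apply, map_mul, End.mul_apply, map_mul, End.mul_apply]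
  have ha' : ∀ u ∈ cspace L.cls ρ ω, ρ a⁻¹ u = u := fun u hu => by
    conv_lhs => rw [← ha u hu]
    rw [← End.mul_apply, ← map_mul, inv_mul_cancel, map_one]; rfl
  rw [ha' _ hzv, ← End.mul_apply (ρ z), ← map_mul, mul_inv_cancel, map_one, End.one_apply, ha v hv]

/-- A central element from the components kills the functions with trivial sum over `R`. -/
theorem Lev.eval_zero (L : Lev ρ Q Z R s r q) {x : Γ} (hx : x ∈ Q) (hsx : s * x = x * s)
    (hgood : ∀ ω, Comp L.cls ρ ω → ¬ Still L.cls ρ s ω → ∀ v ∈ cspace L.cls ρ ω, ρ x v = v)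
    (hstill : ∀ ω, Comp L.cls ρ ω → Still L.cls ρ s ω → ∀ f : Γ → K', compFun K' L.cls ρ ω f →
      funOp Γ K' s f = f → f x = 0)
    {f : Γ → K'} (hf : f ∈ funSpace K' Q Z) (hsum : sumOf (funOp Γ K') R f = 0) : f x = 0 := by
  haveI := Fact.mk L.qprime
  let ker : (Γ → K) → Subgroup Γ := fun ω =>
    { carrier := {y | y ∈ Q ∧ ∀ v ∈ cspace L.cls ρ ω, ρ y v = v}
      one_mem' := ⟨one_mem Q, fun v _ => by rw [map_one]; rfl⟩
      mul_mem' := fun {a b} ha hb => ⟨mul_mem ha.1 hb.1, fun v hv => by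
        rw [map_mul, End.mul_apply, hb.2 v hv, ha.2 v hv]⟩
      inv_mem' := fun {a} ha => ⟨inv_mem ha.1, fun v hv => by
        conv_lhs => rw [← ha.2 v hv]
        rw [← End.mul_apply, ← map_mul, inv_mul_cancel, map_one]; rfl⟩ }
  have hall0 : ∀ ω, Comp L.cls ρ ω → x ∈ ker ω ⊔ Z := by
    intro ω hω
    by_cases hst : Still L.cls ρ s ω
    · by_contra hne
      obtain ⟨g, hg, hg0, hgx⟩ := exists_fun_ne (K := K') q L.pow L.cls.comm le_sup_right
        (sup_le (show ker ω ≤ Q from fun y hy => hy.1) L.cls.le) hx hne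
      have hgc : compFun K' L.cls ρ ω g := ⟨hg, fun y hy hfix => hg0 y (Subgroup.mem_sup_left ⟨hy, hfix⟩)⟩
      have hsi : ∀ i : ℕ, FitTwo.translate (s ^ i) ω = ω := by
        intro i
        induction i with
        | zero => rw [pow_zero, translate_one]
        | succ i ih => rw [pow_succ', ← translate_translate, ih, hst.1]
      have htr : compFun K' L.cls ρ ω (trOf (funOp Γ K') s r g) := by
        refine ⟨?_, fun y hy hfix => ?_⟩
        · rw [trOf_apply]
          exact Submodule.sum_mem _ fun i _ => fun_translate hg (pow_mem L.sQ i) (pow_mem L.sZ i)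
        · rw [trOf_apply, Finset.sum_apply]
          refine Finset.sum_eq_zero fun i _ => ?_
          refine (compFun_translate hgc (pow_mem L.sQ i) (pow_mem L.sZ i)).2 y hy ?_
          rw [hsi i]; exact hfix
      have h1 := hstill ω hω hst _ htr (trOf_fix _ L.spow g)
      rw [trOf_apply, Finset.sum_apply] at h1
      have hterm : ∀ i : ℕ, funOp Γ K' (s ^ i) g x = g x := fun i => by
        rw [funOp_apply, mul_assoc, ← ((show Commute s x from hsx).pow_left i).eq, inv_mul_cancel_left]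
      rw [Finset.sum_congr rfl fun i _ => hterm i, Finset.sum_const, Finset.card_range,
        ← Nat.cast_smul_eq_nsmul K', smul_eq_mul] at h1
      exact hgx ((mul_eq_zero.1 h1).resolve_left L.cast_r)
    · exact Subgroup.mem_sup_left ⟨hx, hgood ω hω hst⟩
  have hall : ∀ ω, Comp L.cls ρ ω → ∃ a ∈ Q, (∀ v ∈ cspace L.cls ρ ω, ρ a v = v) ∧ a⁻¹ * x ∈ Z := by
    intro ω hω
    have hn : ker ω ≤ Subgroup.normalizer (Z : Set Γ) := fun a ha => L.cls.le_normalizer ha.1
    obtain ⟨a, ha, z, hz, e⟩ : ∃ a ∈ ker ω, ∃ z ∈ Z, a * z = x := by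
      have h1 := hall0 ω hω
      rw [← SetLike.mem_coe, Subgroup.coe_mul_of_left_le_normalizer_right _ _ hn] at h1
      exact h1
    exact ⟨a, ha.1, ha.2, by rwa [← e, inv_mul_cancel_left]⟩
  rcases L.of_all hx hall with ⟨-, h1⟩ | ⟨hcen, hxc⟩
  · rw [h1, fun_one hf]
  have h1 := congrFun hsum x
  letI := Fintype.ofFinite R
  rw [sumOf_apply, Finset.sum_apply] at h1
  have hterm : ∀ k : R, funOp Γ K' (k : Γ) f x = f x := fun k => by
    rw [funOp_apply, mul_assoc, ← hcen x hx hxc k k.2, inv_mul_cancel_left]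
  rw [Finset.sum_congr rfl fun k _ => hterm k, Finset.sum_const, Finset.card_univ, ← Nat.card_eq_fintype_card,
    ← Nat.cast_smul_eq_nsmul K', smul_eq_mul] at h1
  exact (mul_eq_zero.1 h1).resolve_left L.cast_R

/-- Functions fixed by `R` kill the displacements of `R`. -/
theorem fun_kills_displacements {f : Γ → K'} (hf : f ∈ funSpace K' Q Z)
    (hRQ : R ≤ Subgroup.normalizer (Q : Set Γ)) (hfix : ∀ k ∈ R, funOp Γ K' k f = f) : ∀ u ∈ ⁅Q, R⁆, f u = 0 := by
  let M : Subgroup Γ :=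
    { carrier := {u | u ∈ Q ∧ f u = 0}
      one_mem' := ⟨one_mem Q, fun_one hf⟩
      mul_mem' := fun {a b} ha hb => ⟨mul_mem ha.1 hb.1, by rw [hf.2.1 a ha.1 b hb.1, ha.2, hb.2, add_zero]⟩
      inv_mem' := fun {a} ha => ⟨inv_mem ha.1, by rw [fun_inv hf ha.1, ha.2, neg_zero]⟩ }
  have hle : ⁅Q, R⁆ ≤ M := Subgroup.commutator_le.2 fun a ha k hk => by
    have hc : k * a⁻¹ * k⁻¹ ∈ Q := (Subgroup.mem_normalizer_iff.1 (hRQ hk) _).1 (inv_mem ha)
    rw [show ⁅a, k⁆ = a * (k * a⁻¹ * k⁻¹) by rw [commutatorElement_def]; group]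
    refine ⟨mul_mem ha hc, ?_⟩
    have h1 := congrFun (hfix k⁻¹ (inv_mem hk)) a⁻¹
    rw [funOp_apply, inv_inv] at h1
    rw [hf.2.1 a ha _ hc, h1, fun_inv hf ha, add_neg_cancel]
  exact fun u hu => (hle hu).2

/-- Functions with trivial sum killing the fixed displacements vanish. -/
theorem Lev.eq_zero_of_fixed (L : Lev ρ Q Z R s r q) {f : Γ → K'} (hf : f ∈ funSpace K' Q Z)
    (hs : funOp Γ K' s f = f) (hsum : sumOf (funOp Γ K') R f = 0)
    (h0 : ∀ c ∈ ⁅Q, R⁆, s * c = c * s → f c = 0) : f = 0 := by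
  have hUQ : ⁅Q, R⁆ ≤ Q := Cfsg.Lib.Coprime.commutator_le_of_le_normalizer L.normQ
  have hsU : s ∈ Subgroup.normalizer ((⁅Q, R⁆ : Subgroup Γ) : Set Γ) :=
    FitTwo.Cfg.le_normalizer_commutator_of (zpowers_le_normalizer L.sQ) (zpowers_le_normalizer L.sR)
      (Subgroup.mem_zpowers s)
  have hU := fun_eq_zero_of_fixed hf L.rprime L.spow hUQ
    (L.rQ.coprime_dvd_right (Subgroup.card_dvd_of_le hUQ)) hsU hs h0
  have hfix : ∀ k ∈ R, funOp Γ K' k f = f := by
    intro k hk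
    funext x
    rw [funOp_apply]
    by_cases hx : x ∈ Q
    · have hx' : k⁻¹ * x * k ∈ Q := (Subgroup.mem_normalizer_iff.1 (L.normQ hk) _).2 (by simpa [mul_assoc] using hx)
      rw [← sub_eq_zero, ← fun_mul_inv hf hx' hx]
      refine hU _ ?_
      have h1 := Subgroup.commutator_mem_commutator hx (inv_mem hk : k⁻¹ ∈ R)
      rw [show k⁻¹ * x * k * x⁻¹ = ⁅x, k⁻¹⁆⁻¹ by rw [commutatorElement_def]; group]
      exact inv_mem h1
    · rw [hf.1 x hx, hf.1 _ fun h => hx ?_]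
      have := (Subgroup.mem_normalizer_iff.1 (L.normQ hk) _).1 h
      rwa [show k * (k⁻¹ * x * k) * k⁻¹ = x by group] at this
  rw [sumOf_of_fixed hfix] at hsum
  exact (smul_eq_zero.1 hsum).resolve_left L.cast_R

/-- Vanishing of the fixed moved vectors. -/
theorem Lev.zero_step (L : Lev ρ Q Z R s r q)
    (hyp : ∀ c ∈ Q, s * c = c * s → ∀ v ∈ fixNull ρ ⁅Q, Subgroup.zpowers s⁆ s, ρ c v = v)
    {f : Γ → K'} (hf : f ∈ funSpace K' Q Z) (hs : funOp Γ K' s f = f)
    (hsum : sumOf (funOp Γ K') R f = 0) : f = 0 := by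
  refine L.eq_zero_of_fixed hf hs hsum fun c hc hsc => ?_
  have hcQ : c ∈ Q := Cfsg.Lib.Coprime.commutator_le_of_le_normalizer L.normQ hc
  refine L.eval_zero hcQ hsc (fun ω hω hng => L.good_kills hω hng hcQ hsc (hyp c hcQ hsc))
    (fun ω hω hst g hg hgs => ?_) hf hsum
  by_cases hfull : R ≤ stillSub Q Z R ω s
  · exact fun_kills_displacements hg.1 L.normQ (L.fixed_of_full hω hst hfull hg) c hc
  obtain ⟨k0, hk0, hk0B⟩ := SetLike.not_le_iff_exists.1 hfull
  have hz : g = 0 := by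
    refine core_zero (funOp Γ K') (B := stillSub Q Z R ω s) L.rprime L.cast_r L.spow L.sR (L.stillSub_conj hst)
      (L.fp hst) hgs ⟨k0, hk0, hk0B⟩ fun k hk hkB => ?_
    set μ := trOf (funOp Γ K') s r (funOp Γ K' k g) with hμ
    have hgk := compFun_translate hg (L.normQ hk) (L.normZ hk)
    have hμF : μ ∈ funSpace K' Q Z := by
      rw [hμ, trOf_apply]
      exact Submodule.sum_mem _ fun i _ => fun_translate hgk.1 (pow_mem L.sQ i) (pow_mem L.sZ i)
    have h1 := fun_eq_zero_of_fixed hμF L.rprime L.spow le_rfl L.rQ L.sQ (trOf_fix _ L.spow _) fun x hx hsx => by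
      rw [hμ, trOf_apply, Finset.sum_apply]
      refine Finset.sum_eq_zero fun i _ => ?_
      rw [funOp_apply, mul_assoc, ← ((show Commute s x from hsx).pow_left i).eq, inv_mul_cancel_left]
      exact hgk.2 x hx (L.good_kills (hω.translate (L.normQ hk) (L.normZ hk)) (L.good_translate hst hk hkB) hx hsx
        (hyp x hx hsx))
    funext x
    by_cases hx : x ∈ Q
    · exact h1 x hx
    · exact hμF.1 x hx
  rw [hz]; rfl

/-- Trivial action on the fixed moved vectors descends. -/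
theorem Lev.fixed_step (L : Lev ρ Q Z R s r q) {y : Γ} (hsy : s * y = y * s)
    (hyQ : y ∈ Subgroup.normalizer (Q : Set Γ)) (hyZ : y ∈ Subgroup.normalizer (Z : Set Γ))
    (hyR : y ∈ Subgroup.normalizer (R : Set Γ)) (hyr : (orderOf y).Coprime r)
    (hopt : (orderOf y).Coprime (Nat.card R) ∨
      ∀ k ∈ R, ∀ m ∈ R, ⁅m, (y * k * y⁻¹)⁻¹ * k⁆ ∈ Subgroup.centralizer (Q : Set Γ))
    (hyp : ∀ c ∈ Q, s * c = c * s → ∀ v ∈ fixNull ρ ⁅Q, Subgroup.zpowers s⁆ s, ρ ⁅y, c⁆ v = v)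
    {f : Γ → K'} (hf : f ∈ funSpace K' Q Z) (hs : funOp Γ K' s f = f)
    (hsum : sumOf (funOp Γ K') R f = 0) : funOp Γ K' y f = f := by
  haveI := Fact.mk L.qprime
  -- the elements to be killed
  have hd : ∀ c ∈ Q, s * c = c * s → y⁻¹ * c * y * c⁻¹ ∈ Q ∧ s * (y⁻¹ * c * y * c⁻¹) = y⁻¹ * c * y * c⁻¹ * s ∧
      ∀ v ∈ fixNull ρ ⁅Q, Subgroup.zpowers s⁆ s, ρ (y⁻¹ * c * y * c⁻¹) v = v := by
    intro c hc hsc
    have hsy' : Commute s y := hsy
    have hc' : y⁻¹ * c * y ∈ Q := by simpa using (Subgroup.mem_normalizer_iff.1 (inv_mem hyQ) c).1 hc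
    have hsc' : Commute s (y⁻¹ * c * y) := (hsy'.inv_right.mul_right hsc).mul_right hsy'
    refine ⟨mul_mem hc' (inv_mem hc), (hsc'.mul_right (show Commute s c from hsc).inv_right).eq, fun v hv => ?_⟩
    have h1 := hyp _ hc' hsc'.eq v hv
    have e : y⁻¹ * c * y * c⁻¹ = ⁅y, y⁻¹ * c * y⁆⁻¹ := by rw [commutatorElement_def]; group
    rw [e]
    conv_lhs => rw [← h1]
    rw [← End.mul_apply, ← map_mul, inv_mul_cancel, map_one]; rfl
  have hgy : funOp Γ K' y f - f ∈ funSpace K' Q Z := Submodule.sub_mem _ (fun_translate hf hyQ hyZ) hf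
  refine sub_eq_zero.1 (L.eq_zero_of_fixed hgy ?_ ?_ fun c hc hsc => ?_)
  · rw [map_sub, hs, ← End.mul_apply, ← map_mul, hsy, map_mul, End.mul_apply, hs]
  · rw [map_sub, sumOf_conj hyR, hsum, map_zero, sub_zero]
  have hcQ : c ∈ Q := Cfsg.Lib.Coprime.commutator_le_of_le_normalizer L.normQ hc
  obtain ⟨hxQ, hsx, hxfix⟩ := hd c hcQ hsc
  have hxU : y⁻¹ * c * y * c⁻¹ ∈ ⁅Q, R⁆ := by
    refine mul_mem ?_ (inv_mem hc)
    have h1 := FitTwo.Cfg.le_normalizer_commutator_of (zpowers_le_normalizer hyQ) (zpowers_le_normalizer hyR)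
      (inv_mem (Subgroup.mem_zpowers y))
    simpa using (Subgroup.mem_normalizer_iff.1 h1 c).1 hc
  show f (y⁻¹ * c * y) - f c = 0
  have hyc : y⁻¹ * c * y ∈ Q := by simpa using (Subgroup.mem_normalizer_iff.1 (inv_mem hyQ) c).1 hcQ
  rw [← fun_mul_inv hf hyc hcQ]
  refine L.eval_zero hxQ hsx (fun ω hω hng => L.good_kills hω hng hxQ hsx hxfix)
    (fun ω hω hst g hg hgs => ?_) hf hsum
  by_cases hfull : R ≤ stillSub Q Z R ω s
  · exact fun_kills_displacements hg.1 L.normQ (L.fixed_of_full hω hst hfull hg) _ hxU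
  suffices hyg : funOp Γ K' y g = g by
    rw [fun_mul_inv hg.1 hyc hcQ, sub_eq_zero]
    exact congrFun hyg c
  obtain ⟨k0, hk0, hk0B⟩ := SetLike.not_le_iff_exists.1 hfull
  set B := stillSub Q Z R ω s with hB
  set π := funOp Γ K' with hπ
  -- good traces are fixed
  have hgood : ∀ k ∈ R, k ∉ B → π y (trOf π s r (π k g)) = trOf π s r (π k g) := by
    intro k hk hkB
    set μ := trOf π s r (π k g) with hμ
    have hgk := compFun_translate hg (L.normQ hk) (L.normZ hk)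
    have hμF : μ ∈ funSpace K' Q Z := by
      rw [hμ, trOf_apply]
      exact Submodule.sum_mem _ fun i _ => fun_translate hgk.1 (pow_mem L.sQ i) (pow_mem L.sZ i)
    have hsμ : π s μ = μ := trOf_fix _ L.spow _
    have hνF : π y μ - μ ∈ funSpace K' Q Z := Submodule.sub_mem _ (fun_translate hμF hyQ hyZ) hμF
    have h1 := fun_eq_zero_of_fixed hνF L.rprime L.spow le_rfl L.rQ L.sQ
      (by rw [map_sub, hsμ, ← End.mul_apply, ← map_mul, hsy, map_mul, End.mul_apply, hsμ]) fun z hz hsz => by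
        obtain ⟨hdQ, hsd, hdfix⟩ := hd z hz hsz
        have hz' : y⁻¹ * z * y ∈ Q := by simpa using (Subgroup.mem_normalizer_iff.1 (inv_mem hyQ) z).1 hz
        show μ (y⁻¹ * z * y) - μ z = 0
        rw [← fun_mul_inv hμF hz' hz, hμ, trOf_apply, Finset.sum_apply]
        refine Finset.sum_eq_zero fun i _ => ?_
        rw [funOp_apply, mul_assoc, ← ((show Commute s _ from hsd).pow_left i).eq, inv_mul_cancel_left]
        exact hgk.2 _ hdQ (L.good_kills (hω.translate (L.normQ hk) (L.normZ hk)) (L.good_translate hst hk hkB) hdQ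
          hsd hdfix)
    refine sub_eq_zero.1 (funext fun z => ?_)
    by_cases hz : z ∈ Q
    · exact h1 z hz
    · exact hνF.1 z hz
  set C := R ⊓ Subgroup.centralizer ({s} : Set Γ) with hC
  have hCs : ∀ c ∈ C, s * c = c * s := fun c hc => Subgroup.mem_centralizer_iff.1 hc.2 s rfl
  have hswap : ∀ c ∈ C, ∀ k ∈ R, ∀ μ ∈ funSpace K' Q Z, π k (π c μ) = π c (π k μ) := by
    intro c hc k hk μ hμ
    have hkμ : π k μ ∈ funSpace K' Q Z := fun_translate hμ (L.normQ hk) (L.normZ hk)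
    have hckμ : π c (π k μ) ∈ funSpace K' Q Z := fun_translate hkμ (L.normQ hc.1) (L.normZ hc.1)
    have hcz : ⁅k, c⁆ ∈ Subgroup.centralizer (Q : Set Γ) := by
      rw [← commutatorElement_inv]; exact inv_mem (L.fixCentral c hc.1 (hCs c hc) k hk)
    rw [← funOp_of_centralize hckμ hcz]
    simp only [hπ, ← End.mul_apply, ← map_mul]
    congr 2
    rw [commutatorElement_def]; group
  let S1 : Submodule K' (Γ → K') := Submodule.span K' {μ | ∃ c ∈ C, μ = π c g}
  have hS1F : S1 ≤ funSpace K' Q Z := Submodule.span_le.2 fun μ ⟨c, hc, e⟩ =>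
    e ▸ fun_translate hg.1 (L.normQ hc.1) (L.normZ hc.1)
  have hgS1 : g ∈ S1 := Submodule.subset_span ⟨1, one_mem C, by rw [map_one]; rfl⟩
  suffices hle : S1 ≤ LinearMap.ker (π y - 1) by
    simpa [sub_eq_zero] using hle hgS1
  refine le_of_eigen π C ?_ _ (finrank K' S1) S1 le_rfl ?_ ?_ ?_
  · intro e
    obtain ⟨t, ht⟩ := Subgroup.card_dvd_of_le (inf_le_left : C ≤ R)
    exact L.cast_R (K' := K') (by rw [ht, Nat.cast_mul, e, zero_mul])
  · intro c hc μ hμ
    induction hμ using Submodule.span_induction with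
    | mem μ hμ =>
      obtain ⟨c', hc', rfl⟩ := hμ
      exact Submodule.subset_span ⟨c * c', mul_mem hc hc', by rw [map_mul]; rfl⟩
    | zero => simp
    | add μ ν _ _ h1 h2 => rw [map_add]; exact S1.add_mem h1 h2
    | smul a μ _ h1 => rw [map_smul]; exact S1.smul_mem a h1
  · intro a ha b hb μ hμ
    exact hswap b hb a ha.1 μ (hS1F hμ)
  intro μ hμ heig
  rw [LinearMap.mem_ker, LinearMap.sub_apply, End.one_apply, sub_eq_zero]
  by_cases hμ0 : μ = 0
  · rw [hμ0, map_zero]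
  have hμF := hS1F hμ
  have hspan : ∀ (T : End K' (Γ → K')), (∀ c ∈ C, T (π c g) = π c g) → T μ = μ := fun T hT => by
    have hle : S1 ≤ LinearMap.ker (T - 1) := Submodule.span_le.2 fun ν ⟨c, hc, e⟩ => by
      simp [e, hT c hc]
    simpa [sub_eq_zero] using hle hμ
  have hsμ : π s μ = μ := hspan _ fun c hc => by
    rw [← End.mul_apply, ← map_mul, hCs c hc, map_mul, End.mul_apply, hgs]
  let Bχ : Subgroup Γ :=
    { carrier := {b | ∃ x : K', π b μ = x • μ}
      one_mem' := ⟨1, by rw [map_one, one_smul]; rfl⟩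
      mul_mem' := fun {a b} ⟨x, hx⟩ ⟨z, hz⟩ => ⟨z * x, by
        rw [map_mul, End.mul_apply, hz, map_smul, hx, smul_smul]⟩
      inv_mem' := fun {a} ⟨x, hx⟩ => ⟨x⁻¹, by
        have hx0 : x ≠ 0 := fun e => rho_apply_ne π a hμ0 (by rw [hx, e, zero_smul])
        have h1 := congrArg (π a⁻¹) hx
        rw [← End.mul_apply, ← map_mul, inv_mul_cancel, map_one, End.one_apply, map_smul] at h1
        conv_rhs => rw [h1]
        rw [smul_smul, inv_mul_cancel₀ hx0, one_smul]⟩ }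
  have hBle : B ≤ Bχ := by
    refine sup_le (fun c hc => heig c hc) ?_
    have hsH : s ∈ Subgroup.normalizer ((R ⊓ stab Q Z ω : Subgroup Γ) : Set Γ) :=
      Subgroup.inf_normalizer_le_normalizer_inf
        ⟨L.sR, Subgroup.le_normalizer (show s ∈ stab Q Z ω from ⟨L.sQ, L.sZ, hst.1⟩)⟩
    intro h hh
    obtain ⟨n, hn, c, hcc, rfl⟩ := Cfsg.Lib.Coprime.le_commutator_sup_centralizer (zpowers_le_normalizer hsH)
      (coprime_zpowers L.rprime L.spow (L.rR.coprime_dvd_right (Subgroup.card_dvd_of_le inf_le_left)))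
      (Or.inl (isSolvable_zpowers s)) hh
    have hnR : n ∈ R :=
      (Cfsg.Lib.Coprime.commutator_le_of_le_normalizer (zpowers_le_normalizer hsH) hn).1
    refine mul_mem ⟨1, ?_⟩ (heig c ⟨hcc.1.1, Subgroup.mem_centralizer_iff.2 fun a ha => by
      rw [Set.mem_singleton_iff.1 ha]
      exact Subgroup.mem_centralizer_iff.1 hcc.2 s (Subgroup.mem_zpowers s)⟩)
    rw [one_smul]
    exact hspan _ fun d hd' => by
      rw [hswap d hd' n hnR g hg.1, L.stab_fixes hω hst hg n hn]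
  refine core_fixed π L.rprime L.cast_r L.spow L.sR (L.stillSub_conj hst) (L.fp hst) hsy hyR (stillSub_le ω) hyr hsμ
    (fun b hb => hBle hb) (fun k hk hkB => ?_) ⟨k0, hk0, hk0B⟩ ?_
  · have := hspan (π y * trOf π s r * π k - trOf π s r * π k + 1) fun c hc => by
      have hkc : k * c ∉ B := fun hh => hkB (by
        simpa using B.mul_mem hh (B.inv_mem (Subgroup.mem_sup_left hc)))
      have h1 := hgood _ (mul_mem hk hc.1) hkc
      rw [map_mul π k c, End.mul_apply] at h1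
      simp [End.mul_apply, h1]
    simpa [End.mul_apply, sub_eq_zero] using this
  · refine hopt.imp id fun h k hk m hm => ?_
    set b := (y * k * y⁻¹)⁻¹ * k with hb
    have hbR : b ∈ R := mul_mem (inv_mem ((Subgroup.mem_normalizer_iff.1 hyR k).1 hk)) hk
    have hbμ : π b μ ∈ funSpace K' Q Z := fun_translate hμF (L.normQ hbR) (L.normZ hbR)
    conv_rhs => rw [← funOp_of_centralize hbμ (h k hk m⁻¹ (inv_mem hm))]
    simp only [hπ, ← End.mul_apply, ← map_mul]
    congr 2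
    rw [hb, commutatorElement_def]; group

end Cfsg.Lib.FitHeight
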