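import Cfsg.Agent.Lib.FitTwo.Main
import Cfsg.Agent.Lib.Solv.WardRank
import Cfsg.Agent.Lib.FitHeight.Img

/-!
# Invariant towers in groups of large Fitting length
-/

set_option autoImplicit false

namespace Cfsg.Lib.FitHeight

open Subgroup Cfsg.Lib.Solv
open scoped commutatorElement

section Prime

variable {Y : Type*} [Group Y] [Finite Y] [Group.IsSolvable Y]

omit [Finite Y] [Group.IsSolvable Y] in
theorem fle_inf {m : ℕ} {M D : Subgroup Y} [M.Normal] [D.Normal] (h1 : FLe m (Y ⧸ M)) (h2 : FLe m (Y ⧸ D)) :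
    FLe m (Y ⧸ (M ⊓ D)) := by
  let f : Y ⧸ (M ⊓ D) →* (Y ⧸ M) × (Y ⧸ D) :=
    QuotientGroup.lift (M ⊓ D) ((QuotientGroup.mk' M).prod (QuotientGroup.mk' D)) fun x hx => by
      rw [MonoidHom.ker_prod, QuotientGroup.ker_mk', QuotientGroup.ker_mk']; exact hx
  refine FLe.of_injective f ?_ (h1.prod h2)
  rw [injective_iff_map_eq_one]
  intro x hx
  obtain ⟨y, rfl⟩ := QuotientGroup.mk'_surjective _ x
  obtain ⟨e1, e2⟩ := Prod.mk.inj hx
  exact (QuotientGroup.eq_one_iff y).2 ⟨(QuotientGroup.eq_one_iff y).1 e1, (QuotientGroup.eq_one_iff y).1 e2⟩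

/-- The Fitting length is carried by the action on one of the cores. -/
theorem exists_prime {m : ℕ} (h : ¬ FLe (m + 1) Y) :
    ∃ p, p.Prime ∧ ¬ FQ p m (Y ⧸ centralizer (Cfsg.pCore p Y : Set Y)) := by
  by_contra hcon
  push Not at hcon
  obtain ⟨M, ⟨hMn, hMf⟩, hMmin⟩ := (Set.toFinite {M : Subgroup Y | ∃ _ : M.Normal, FLe m (Y ⧸ M)}).exists_minimal
    ⟨⊤, ⟨inferInstance, (fle_zero_iff.2 QuotientGroup.subsingleton_quotient_top).mono m.zero_le⟩⟩
  haveI := hMn
  have hMD : ∀ t : ℕ, t.Prime → M ≤ (Cfsg.pCore t (Y ⧸ centralizer (Cfsg.pCore t Y : Set Y))).comap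
      (QuotientGroup.mk' (centralizer (Cfsg.pCore t Y : Set Y))) := by
    intro t ht
    set π := QuotientGroup.mk' (centralizer (Cfsg.pCore t Y : Set Y)) with hπ
    set D := (Cfsg.pCore t (Y ⧸ centralizer (Cfsg.pCore t Y : Set Y))).comap π with hD
    haveI hDn : D.Normal := (inferInstance : (Cfsg.pCore t _).Normal).comap _
    have hDf : FLe m (Y ⧸ D) := by
      have h0 : FLe m ((Y ⧸ centralizer (Cfsg.pCore t Y : Set Y)) ⧸
          Cfsg.pCore t (Y ⧸ centralizer (Cfsg.pCore t Y : Set Y))) := hcon t ht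
      let g : (Y ⧸ centralizer (Cfsg.pCore t Y : Set Y)) →* Y ⧸ D :=
        QuotientGroup.lift _ (QuotientGroup.mk' D) fun x hx => (QuotientGroup.eq_one_iff x).2 (by
          show π x ∈ Cfsg.pCore t _
          rw [show π x = 1 from (QuotientGroup.eq_one_iff x).2 hx]
          exact one_mem _)
      have hg : ∀ x, g (π x) = QuotientGroup.mk' D x := fun x => rfl
      let g2 : ((Y ⧸ centralizer (Cfsg.pCore t Y : Set Y)) ⧸
          Cfsg.pCore t (Y ⧸ centralizer (Cfsg.pCore t Y : Set Y))) →* Y ⧸ D :=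
        QuotientGroup.lift _ g fun x hx => by
          obtain ⟨y, rfl⟩ := QuotientGroup.mk'_surjective _ x
          exact (hg y).trans ((QuotientGroup.eq_one_iff y).2 hx)
      exact FLe.of_surjective g2 (fun x => by
        obtain ⟨y, rfl⟩ := QuotientGroup.mk'_surjective D x
        exact ⟨QuotientGroup.mk' _ (π y), hg y⟩) h0
    refine (le_inf_iff.1 (hMmin ⟨inferInstance, ?_⟩ (inf_le_left : M ⊓ D ≤ M))).2
    exact fle_inf hMf hDf
  refine h (FLe.extension M ?_ hMf)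
  refine FitTwo.nilpotent_of_centralize fun u t x i hu ht hut hx => mem_centralizer_iff.2 fun a ha => ?_
  haveI := Fact.mk hu
  haveI := Fact.mk ht
  have h1 : (a : Y) ∈ Cfsg.pCore t Y :=
    Core.le_pCore' (Cfsg.Lib.Core.normal_map_char_of_normal _)
      ((Core.pCore_isPGroup t M).map M.subtype) (mem_map_of_mem _ ha)
  set π := QuotientGroup.mk' (centralizer (Cfsg.pCore t Y : Set Y)) with hπ
  have h2 : π (x : Y) = 1 := by
    obtain ⟨j, hj⟩ := Core.pCore_isPGroup t (Y ⧸ centralizer (Cfsg.pCore t Y : Set Y)) ⟨π x, hMD t ht x.2⟩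
    have hd1 : orderOf (π (x : Y)) ∣ t ^ j := orderOf_dvd_of_pow_eq_one (congrArg Subtype.val hj)
    have hd2 : orderOf (π (x : Y)) ∣ u ^ i := (orderOf_map_dvd π (x : Y)).trans (by rw [orderOf_coe, hx])
    exact orderOf_eq_one_iff.1 (Nat.eq_one_of_dvd_coprimes
      (Nat.Coprime.pow _ _ ((Nat.coprime_primes ht hu).2 hut.symm)) hd1 hd2)
  exact Subtype.ext (mem_centralizer_iff.1 ((QuotientGroup.eq_one_iff _).1 h2) _ h1)

end Prime

variable {Γ : Type*} [Group Γ]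

/-- A tower of groups of prime power order, each moved by the one below. -/
structure Weak (G : Subgroup Γ) (s : Γ) (m : ℕ) (P k : ℕ → Subgroup Γ) (p : ℕ → ℕ) : Prop where
  le : ∀ l ≤ m, P l ≤ G
  prime : ∀ l ≤ m, (p l).Prime
  isP : ∀ l ≤ m, IsPGroup (p l) (P l)
  ne : ∀ l < m, p l ≠ p (l + 1)
  norm : ∀ l ≤ m, ∀ j < l, P j ≤ normalizer (P l : Set Γ)
  sP : ∀ l ≤ m, s ∈ normalizer (P l : Set Γ)
  sK : ∀ l ≤ m, s ∈ normalizer (k l : Set Γ)
  normK : ∀ l ≤ m, ∀ j ≤ l, P j ≤ normalizer (k l : Set Γ)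
  kills : ∀ l < m, ∀ x ∈ P l, x ∈ k l ↔ ∀ a ∈ P (l + 1), ⁅x, a⁆ ∈ k (l + 1)
  proper : ∀ l ≤ m, ¬ P l ≤ k l

variable [Finite Γ]

theorem exists_quot_aut {X : Type*} [Group X] (L : Subgroup X) [L.Normal] (α : X ≃* X)
    (hL : L.map α.toMonoidHom = L) : ∃ β : X ⧸ L ≃* X ⧸ L, ∀ x : X, β (QuotientGroup.mk' L x) = QuotientGroup.mk' L (α x) :=
  ⟨QuotientGroup.congr L L α hL, fun _ => rfl⟩

/-- A Sylow subgroup over a core. -/
theorem key {s : Γ} {r : ℕ} (hr : r.Prime) (hsr : s ^ r = 1) {q : ℕ} (hq : q.Prime) {G : Subgroup Γ}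
    {N0 : Subgroup G} [N0.Normal]
    (hcop : ¬ r ∣ Nat.card G) (hsG : s ∈ normalizer (G : Set Γ)) {Y : Type*} [Group Y] [Finite Y]
    (φ : G →* Y) (hφ : Function.Surjective φ) (hOq : Cfsg.pCore q Y = ⊥)
    (hN1 : ∀ b ∈ N0, φ b = 1) (hkq : ∀ x : G, φ x = 1 → ∃ i, x ^ q ^ i ∈ N0) {β : Y ≃* Y}
    (hβ : ∀ x, β (φ x) = φ (G.normalizerMonoidHom ⟨s, hsG⟩ x)) {p : ℕ} (hp : p.Prime)
    (hne : Cfsg.pCore p Y ≠ ⊥) :
    ∃ (P : Subgroup Γ) (hPG : P ≤ G), IsPGroup p P ∧ s ∈ normalizer (P : Set Γ) ∧ ¬ P ≤ N0.map G.subtype ∧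
      ((∀ a, ∀ ha : a ∈ P, φ ⟨a, hPG ha⟩ ∈ Cfsg.pCore p Y) ∧
        (∀ y ∈ Cfsg.pCore p Y, ∃ (a : Γ) (ha : a ∈ P), φ ⟨a, hPG ha⟩ = y) ∧
        (∀ g : G, ∃ h : G, (h : Γ) ∈ normalizer (P : Set Γ) ∧ φ h = φ g) ∧
        (∀ a, a ∈ P → ∀ ha : a ∈ G, φ ⟨a, ha⟩ = 1 → a ∈ P ⊓ N0.map G.subtype)) ∧
      (∀ A : Subgroup Γ, A ≤ normalizer (P : Set Γ) → A ≤ G → A ≤ normalizer (P ⊓ N0.map G.subtype : Set Γ)) ∧
      p ≠ q := by
  haveI := Fact.mk hp
  haveI := Fact.mk hq
  set M := ((Cfsg.pCore p Y).comap φ).map G.subtype with hM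
  have hMG : M ≤ G := map_subtype_le _
  have hsM : s ∈ normalizer (M : Set Γ) := mem_normalizer_of_conj fun x hx => by
    obtain ⟨a, ha, rfl⟩ := hx
    refine ⟨G.normalizerMonoidHom ⟨s, hsG⟩ a, ?_, rfl⟩
    show φ _ ∈ Cfsg.pCore p Y
    rw [← hβ, ← Core.map_pCore_equiv (p := p) β]
    exact mem_map_of_mem _ ha
  have hGM : G ≤ normalizer (M : Set Γ) := fun g hg => mem_normalizer_of_conj fun x hx => by
    obtain ⟨a, ha, rfl⟩ := hx
    refine ⟨⟨g, hg⟩ * a * ⟨g, hg⟩⁻¹, ?_, rfl⟩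
    exact ((inferInstance : (Cfsg.pCore p Y).Normal).comap φ).conj_mem a ha _
  have hAM : zpowers s ≤ normalizer (M : Set Γ) := zpowers_le.2 hsM
  have hcopM : (Nat.card (zpowers s)).Coprime (Nat.card M) := by
    rw [Nat.card_zpowers]
    exact ((hr.coprime_iff_not_dvd.2 fun h => hcop (h.trans (card_dvd_of_le hMG)))).coprime_dvd_left
      (orderOf_dvd_of_pow_eq_one hsr)
  obtain ⟨S, hS⟩ := Cfsg.Lib.Coprime.exists_invariant_sylow hAM hcopM
    (Or.inl (Group.isSolvable_of_comm fun a b => mul_comm' a b)) p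
  set P := (S : Subgroup M).map M.subtype with hPdef
  have hPM : P ≤ M := map_subtype_le _
  have hPG : P ≤ G := hPM.trans hMG
  have hPO : ∀ a, ∀ ha : a ∈ P, φ ⟨a, hPG ha⟩ ∈ Cfsg.pCore p Y := fun a ha => by
    obtain ⟨b, hb, e⟩ := hPM ha
    rw [show (⟨a, hPG ha⟩ : G) = b from Subtype.ext e.symm]
    exact hb
  let f : M →* Cfsg.pCore p Y := (φ.comp (Subgroup.inclusion hMG)).codRestrict (Cfsg.pCore p Y) fun x => by
    obtain ⟨b, hb, e⟩ := x.2
    show φ ⟨(x : Γ), hMG x.2⟩ ∈ Cfsg.pCore p Y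
    rw [show (⟨(x : Γ), hMG x.2⟩ : G) = b from Subtype.ext e.symm]
    exact hb
  have hf : Function.Surjective f := fun y => by
    obtain ⟨g, hg⟩ := hφ y
    exact ⟨⟨g, g, by show φ g ∈ Cfsg.pCore p Y; rw [hg]; exact y.2, rfl⟩, Subtype.ext hg⟩
  have honto : ∀ y ∈ Cfsg.pCore p Y, ∃ (a : Γ) (ha : a ∈ P), φ ⟨a, hPG ha⟩ = y := by
    intro y hy
    have h1 : (Sylow.mapSurjective hf S : Subgroup (Cfsg.pCore p Y)) = ⊤ := by
      refine ((Sylow.mapSurjective hf S).is_maximal' ((Core.pCore_isPGroup p Y).to_subgroup ⊤) le_top).symm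
    have h2 : (⟨y, hy⟩ : Cfsg.pCore p Y) ∈ (S : Subgroup M).map f := by
      rw [← Sylow.coe_mapSurjective hf S, h1]; exact mem_top _
    obtain ⟨a, ha, e⟩ := h2
    exact ⟨a, mem_map_of_mem _ ha, congrArg Subtype.val e⟩
  have hpq : p ≠ q := fun e => hne (e ▸ hOq)
  have hker : ∀ a, a ∈ P → ∀ ha : a ∈ G, φ ⟨a, ha⟩ = 1 → a ∈ P ⊓ N0.map G.subtype := by
    intro a haP ha h1
    obtain ⟨i, hi⟩ := hkq _ h1
    obtain ⟨j, hj⟩ := (S.isPGroup'.map M.subtype) ⟨a, haP⟩
    have hj' : a ^ p ^ j = 1 := congrArg Subtype.val hj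
    refine ⟨haP, ⟨⟨a, ha⟩, ?_, rfl⟩⟩
    have h3 : (QuotientGroup.mk' N0 ⟨a, ha⟩) = 1 := by
      refine orderOf_eq_one_iff.1 (Nat.eq_one_of_dvd_coprimes
        (Nat.Coprime.pow j i ((Nat.coprime_primes hp hq).2 hpq)) ?_ (orderOf_dvd_of_pow_eq_one ?_))
      · exact (orderOf_map_dvd _ _).trans (orderOf_dvd_of_pow_eq_one (Subtype.ext hj'))
      · rw [← map_pow]; exact (QuotientGroup.eq_one_iff _).2 hi
    exact (QuotientGroup.eq_one_iff _).1 h3
  refine ⟨P, hPG, S.isPGroup'.map _, hS (mem_zpowers s), fun h => hne ?_, ⟨hPO, honto, ?_, hker⟩, ?_, hpq⟩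
  · refine (eq_bot_iff_forall _).2 fun y hy => ?_
    obtain ⟨a, ha, rfl⟩ := honto y hy
    obtain ⟨b, hb, e⟩ := h ha
    rw [show (⟨a, hPG ha⟩ : G) = b from Subtype.ext e.symm]
    exact hN1 b hb
  · intro g
    obtain ⟨Q, hQ⟩ := Cfsg.Lib.Coprime.exists_sylow_eq_conj S (hGM g.2)
    obtain ⟨a, ha, hQa⟩ := Cfsg.Lib.Coprime.exists_sylow_conj S Q
    rw [hQ, ← hPdef] at hQa
    have hn : a⁻¹ * (g : Γ) ∈ normalizer (P : Set Γ) := by
      rw [mem_normalizer_iff_map_conj_eq]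
      show P.map (MulAut.conj (a⁻¹ * (g : Γ))).toMonoidHom = P
      rw [← Cfsg.Lib.Coprime.map_conj_conj, hQa, Cfsg.Lib.Coprime.map_conj_conj, inv_mul_cancel,
        Cfsg.Lib.Coprime.map_conj_one]
    obtain ⟨b, hb, hab⟩ := honto (φ ⟨a, hMG ha⟩) (f ⟨a, ha⟩).2
    refine ⟨⟨b, hPG hb⟩ * (⟨a, hMG ha⟩⁻¹ * g), ?_, by rw [map_mul, map_mul, map_inv, hab, mul_inv_cancel_left]⟩
    exact mul_mem (le_normalizer hb) hn
  · intro A hAP hAG a ha
    exact inf_normalizer_le_normalizer_inf ⟨hAP ha, mem_normalizer_of_conj fun x hx => by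
      obtain ⟨b, hb, rfl⟩ := hx
      exact ⟨⟨a, hAG ha⟩ * b * ⟨a, hAG ha⟩⁻¹, (inferInstance : N0.Normal).conj_mem b hb _, rfl⟩⟩

/-- The tower below a normal subgroup. -/
theorem exists_weak {s : Γ} {r : ℕ} (hr : r.Prime) (hsr : s ^ r = 1) :
    ∀ (m : ℕ) (G : Subgroup Γ) (N0 : Subgroup G) [N0.Normal] (q : ℕ), q.Prime → Group.IsSolvable G →
      ¬ r ∣ Nat.card G → s ∈ normalizer (G : Set Γ) → s ∈ normalizer (N0.map G.subtype : Set Γ) →
      ¬ FQ q m (G ⧸ N0) →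
      ∃ (P k : ℕ → Subgroup Γ) (p : ℕ → ℕ), Weak G s m P k p ∧ k m = P m ⊓ N0.map G.subtype ∧ p m ≠ q := by
  intro m
  induction m with
  | zero | succ m ih => ?_
  all_goals
    intro G N0 _ q hq hsol hcop hsG hsN hFQ
    haveI := Fact.mk hq
    set Y := (G ⧸ N0) ⧸ Cfsg.pCore q (G ⧸ N0) with hYdef
    have hOq : Cfsg.pCore q Y = ⊥ := Core.pCore_quotient_pCore_eq_bot
    let φ : G →* Y := (QuotientGroup.mk' (Cfsg.pCore q (G ⧸ N0))).comp (QuotientGroup.mk' N0)
    have hφ : Function.Surjective φ :=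
      (QuotientGroup.mk'_surjective _).comp (QuotientGroup.mk'_surjective _)
    haveI : Group.IsSolvable Y := Group.isSolvable_of_surjective (f := φ) hφ
    set α : G ≃* G := G.normalizerMonoidHom ⟨s, hsG⟩ with hα
    have hN0 : N0.map α.toMonoidHom = N0 := by
      refine map_injective G.subtype_injective (eq_of_le_of_card_ge ?_ ?_)
      · rintro _ ⟨_, ⟨a, ha, rfl⟩, rfl⟩
        exact conj_mem hsN ⟨a, ha, rfl⟩
      · rw [card_map_of_injective G.subtype_injective, card_map_of_injective G.subtype_injective,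
          card_map_of_injective (f := α.toMonoidHom) α.injective]
    obtain ⟨β, hβ⟩ : ∃ β : Y ≃* Y, ∀ x, β (φ x) = φ (α x) := by
      obtain ⟨β1, h1⟩ := exists_quot_aut N0 α hN0
      obtain ⟨β2, h2⟩ := exists_quot_aut (Cfsg.pCore q (G ⧸ N0)) β1 (Core.map_pCore_equiv β1)
      exact ⟨β2, fun x => (h2 _).trans (congrArg _ (h1 x))⟩
  -- the new top level
  case zero =>
    haveI : Nontrivial Y := not_subsingleton_iff_nontrivial.1 fun h => hFQ (fle_zero_iff.2 h)
    obtain ⟨p, hp, hne⟩ := WardRank.exists_pCore_ne_bot (G := Y)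
    obtain ⟨P, hPG, hP, hsP, hPN, -, hinf, hpq⟩ := key hr hsr hq hcop hsG φ hφ hOq
      (fun b hb => by
        show QuotientGroup.mk' _ (QuotientGroup.mk' N0 b) = 1
        rw [show QuotientGroup.mk' N0 b = 1 from (QuotientGroup.eq_one_iff _).2 hb, map_one])
      (fun x hx => by
        obtain ⟨i, hi⟩ := Core.pCore_isPGroup q (G ⧸ N0) ⟨_, (QuotientGroup.eq_one_iff _).1 hx⟩
        exact ⟨i, (QuotientGroup.eq_one_iff _).1 (congrArg Subtype.val hi)⟩) (β := β) hβ hp hne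
    refine ⟨fun _ => P, fun _ => P ⊓ N0.map G.subtype, fun _ => p, ?_, rfl, hpq⟩
    exact
      { le := fun l _ => hPG, prime := fun l _ => hp, isP := fun l _ => hP, ne := fun l hl => absurd hl (by omega)
        norm := fun l hl j hj => absurd hj (by omega), sP := fun l _ => hsP
        sK := fun l _ => inf_normalizer_le_normalizer_inf ⟨hsP, hsN⟩
        normK := fun l _ j _ => hinf P le_normalizer hPG
        kills := fun l hl => absurd hl (by omega), proper := fun l _ h => hPN (h.trans inf_le_right) }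
  case succ =>
    obtain ⟨p, hp, hpf⟩ := exists_prime (Y := Y) (m := m) hFQ
    haveI := Fact.mk hp
    set C := centralizer (Cfsg.pCore p Y : Set Y) with hC
    have hne : Cfsg.pCore p Y ≠ ⊥ := fun e => hpf (by
      refine ((fle_zero_iff.2 ?_).mono m.zero_le).fq p
      rw [QuotientGroup.subsingleton_iff]
      show centralizer _ = ⊤
      rw [e]
      exact eq_top_iff.2 fun x _ => mem_centralizer_iff.2 fun y hy => by rw [mem_bot.1 hy]; simp)
    obtain ⟨P, hPG, hP, hsP, hPN, ⟨hPO, honto, hcover, hker⟩, hinf, hpq⟩ := key hr hsr hq hcop hsG φ hφ hOq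
      (fun b hb => by
        show QuotientGroup.mk' _ (QuotientGroup.mk' N0 b) = 1
        rw [show QuotientGroup.mk' N0 b = 1 from (QuotientGroup.eq_one_iff _).2 hb, map_one])
      (fun x hx => by
        obtain ⟨i, hi⟩ := Core.pCore_isPGroup q (G ⧸ N0) ⟨_, (QuotientGroup.eq_one_iff _).1 hx⟩
        exact ⟨i, (QuotientGroup.eq_one_iff _).1 (congrArg Subtype.val hi)⟩) (β := β) hβ hp hne
    set H := G ⊓ normalizer (P : Set Γ) with hH
    have hHG : H ≤ G := inf_le_left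
    have hsH : s ∈ normalizer (H : Set Γ) :=
      inf_normalizer_le_normalizer_inf ⟨hsG, le_normalizer hsP⟩
    let ψ : H →* Y ⧸ C := (QuotientGroup.mk' C).comp (φ.comp (Subgroup.inclusion hHG))
    have hψ : Function.Surjective ψ := by
      intro y
      obtain ⟨z, rfl⟩ := QuotientGroup.mk'_surjective C y
      obtain ⟨g, rfl⟩ := hφ z
      obtain ⟨h, hh, e⟩ := hcover g
      exact ⟨⟨h, h.2, hh⟩, congrArg _ e⟩
    have hcopH : ¬ r ∣ Nat.card H := fun h => hcop (h.trans (card_dvd_of_le hHG))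
    have hsC : ∀ x : H, ψ x = 1 → ∀ hx : s * (x : Γ) * s⁻¹ ∈ H, ψ ⟨_, hx⟩ = 1 := by
      intro x hx hx'
      refine (QuotientGroup.eq_one_iff _).2 ?_
      have h1 : φ (Subgroup.inclusion hHG x) ∈ C := (QuotientGroup.eq_one_iff _).1 hx
      have h2 := (hβ (Subgroup.inclusion hHG x)).symm
      show φ (Subgroup.inclusion hHG ⟨s * (x : Γ) * s⁻¹, hx'⟩) ∈ C
      rw [show Subgroup.inclusion hHG ⟨s * (x : Γ) * s⁻¹, hx'⟩ = α (Subgroup.inclusion hHG x) from rfl, h2, hC,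
        mem_centralizer_iff]
      intro y hy
      obtain ⟨z, hz, rfl⟩ := (Core.map_pCore_equiv (p := p) β).symm.le hy
      show β z * β _ = β _ * β z
      rw [← map_mul, ← map_mul, mem_centralizer_iff.1 h1 z hz]
    have hsN' : s ∈ normalizer (ψ.ker.map H.subtype : Set Γ) := mem_normalizer_of_conj fun x hx => by
      obtain ⟨a, ha, rfl⟩ := hx
      exact ⟨⟨s * (a : Γ) * s⁻¹, conj_mem hsH a.2⟩, hsC a ha _, rfl⟩
    obtain ⟨P', k', p', hW, hk', hp'⟩ := ih H ψ.ker p hp (Cfsg.Lib.Coprime.isSolvable_of_le hHG hsol) hcopH hsH hsN'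
      fun h => hpf (h.of_surjective (QuotientGroup.quotientKerEquivOfSurjective ψ hψ).toMonoidHom
        (MulEquiv.surjective _))
    refine ⟨fun l => if l ≤ m then P' l else P, fun l => if l ≤ m then k' l else P ⊓ N0.map G.subtype,
      fun l => if l ≤ m then p' l else p, ?_, by simp, by simpa using hpq⟩
    have hinfH : ∀ j ≤ m, P' j ≤ normalizer (P : Set Γ) := fun j hj => (hW.le j hj).trans inf_le_right
    refine
      { le := fun l hl => ?_, prime := fun l hl => ?_, isP := fun l hl => ?_, ne := fun l hl => ?_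
        norm := fun l hl j hj => ?_, sP := fun l hl => ?_, sK := fun l hl => ?_, normK := fun l hl j hj => ?_
        kills := fun l hl x hx => ?_, proper := fun l hl => ?_ } <;> beta_reduce
    · split_ifs with h
      exacts [(hW.le l h).trans hHG, hPG]
    · split_ifs with h
      exacts [hW.prime l h, hp]
    · by_cases h : l ≤ m
      · rw [if_pos h, if_pos h]; exact hW.isP l h
      · rw [if_neg h, if_neg h]; exact hP
    · by_cases h : l + 1 ≤ m
      · rw [if_pos h, if_pos (by omega)]; exact hW.ne l h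
      · rw [if_neg h, if_pos (by omega), show l = m by omega]; exact hp'
    · by_cases h : l ≤ m
      · rw [if_pos h, if_pos (by omega)]; exact hW.norm l h j hj
      · rw [if_neg h, if_pos (by omega)]; exact hinfH j (by omega)
    · split_ifs with h
      exacts [hW.sP l h, hsP]
    · split_ifs with h
      exacts [hW.sK l h, inf_normalizer_le_normalizer_inf ⟨hsP, hsN⟩]
    · by_cases h : l ≤ m
      · rw [if_pos h, if_pos (by omega)]; exact hW.normK l h j hj
      · rw [if_neg h]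
        split_ifs with h'
        exacts [hinf _ (hinfH j h') ((hW.le j h').trans hHG), hinf P le_normalizer hPG]
    · by_cases h : l + 1 ≤ m
      · rw [if_pos (show l ≤ m by omega)] at hx
        rw [if_pos h, if_pos h, if_pos (by omega)]; exact hW.kills l h x hx
      · obtain rfl : l = m := by omega
        rw [if_pos le_rfl] at hx
        rw [if_neg h, if_neg h, if_pos le_rfl, hk']
        have hxH : x ∈ H := hW.le l le_rfl hx
        constructor
        · rintro ⟨-, ⟨z, hzH⟩, hz, rfl⟩ a ha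
          have h1 : φ ⟨z, hHG hzH⟩ ∈ C := (QuotientGroup.eq_one_iff _).1 hz
          have e1 : φ ⁅(⟨z, hHG hzH⟩ : G), ⟨a, hPG ha⟩⁆ = 1 := by
            rw [map_commutatorElement, commutatorElement_eq_one_iff_mul_comm]
            exact (mem_centralizer_iff.1 h1 _ (hPO a ha)).symm
          exact hker ⁅z, a⁆ (mul_mem (conj_mem hzH.2 ha) (inv_mem ha))
            (mul_mem (mul_mem (mul_mem (hHG hzH) (hPG ha)) (inv_mem (hHG hzH))) (inv_mem (hPG ha))) e1
        · intro h0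
          refine ⟨hx, ⟨x, hxH⟩, (QuotientGroup.eq_one_iff _).2 ?_, rfl⟩
          show φ ⟨x, hHG hxH⟩ ∈ C
          refine mem_centralizer_iff.2 fun y hy => ?_
          obtain ⟨a, ha, rfl⟩ := honto y hy
          rw [eq_comm, ← commutatorElement_eq_one_iff_mul_comm, ← map_commutatorElement]
          obtain ⟨-, b, hb, e⟩ := h0 a ha
          rw [show ⁅(⟨x, hHG hxH⟩ : G), ⟨(a : Γ), hPG ha⟩⁆ = b from Subtype.ext e.symm]
          show QuotientGroup.mk' _ (QuotientGroup.mk' N0 b) = 1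
          rw [show QuotientGroup.mk' N0 b = 1 from (QuotientGroup.eq_one_iff _).2 hb, map_one]
    · by_cases h : l ≤ m
      · rw [if_pos h, if_pos h]; exact hW.proper l h
      · rw [if_neg h, if_neg h]; exact fun h' => hPN (h'.trans inf_le_right)

end Cfsg.Lib.FitHeight
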